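import Cfsg.Agent.Lib.Char.Orth

/-!
Generalized (virtual) characters and integer spans.

* closure: `isGC_zero/_of_isCharacter/_add/_neg/_sub/_zsmul/_sum/_of_mem_zspan`
* `classInner_gc_int`, `gc_eq_sum`, `gc_norm_eq_sum`, `gc_norm_one`, `gc_norm_two`
* `classInner_signed` : inner product of two signed irreducibles
* `zspan` facts: `subset_zspan`, `zspan_zero/_add/_sub/_neg/_zsmul/_mono`, `zspan_induction`
-/
set_option autoImplicit false

namespace Cfsg.Agent.Coherence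

open Cfsg Cfsg.Agent.Char
open scoped ComplexConjugate

universe u
variable {G : Type u} [Group G]

/-- An irreducible character up to sign. -/
def IsSignedIrr (G : Type u) [Group G] (f : G → ℂ) : Prop :=
  IsIrrCharacter G f ∨ IsIrrCharacter G (-f)

/-! ### Closure -/

theorem isGC_of_isCharacter {χ : G → ℂ} (h : IsCharacter G χ) : IsGeneralizedCharacter G χ :=
  ⟨χ, 0, h, isCharacter_zero, (sub_zero χ).symm⟩

theorem isGC_zero : IsGeneralizedCharacter G (0 : G → ℂ) := isGC_of_isCharacter isCharacter_zero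

theorem isGC_of_irr {χ : G → ℂ} (h : IsIrrCharacter G χ) : IsGeneralizedCharacter G χ :=
  isGC_of_isCharacter (IsIrrCharacter.isCharacter h)

theorem isGC_neg {θ : G → ℂ} (h : IsGeneralizedCharacter G θ) : IsGeneralizedCharacter G (-θ) := by
  obtain ⟨χ, ψ, hχ, hψ, rfl⟩ := h
  exact ⟨ψ, χ, hψ, hχ, neg_sub χ ψ⟩

theorem isGC_add {θ φ : G → ℂ} (h : IsGeneralizedCharacter G θ) (h' : IsGeneralizedCharacter G φ) :
    IsGeneralizedCharacter G (θ + φ) := by
  obtain ⟨χ, ψ, hχ, hψ, rfl⟩ := h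
  obtain ⟨χ', ψ', hχ', hψ', rfl⟩ := h'
  exact ⟨χ + χ', ψ + ψ', IsCharacter.add hχ hχ', IsCharacter.add hψ hψ', by abel⟩

theorem isGC_sub {θ φ : G → ℂ} (h : IsGeneralizedCharacter G θ) (h' : IsGeneralizedCharacter G φ) :
    IsGeneralizedCharacter G (θ - φ) := sub_eq_add_neg θ φ ▸ isGC_add h (isGC_neg h')

theorem isGC_nsmul {θ : G → ℂ} (h : IsGeneralizedCharacter G θ) (n : ℕ) :
    IsGeneralizedCharacter G (n • θ) := by
  induction n with
  | zero => simpa using isGC_zero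
  | succ k ih => rw [succ_nsmul]; exact isGC_add ih h

theorem isGC_zsmul {θ : G → ℂ} (h : IsGeneralizedCharacter G θ) (n : ℤ) :
    IsGeneralizedCharacter G (n • θ) := by
  rcases n with k | k
  · rw [Int.ofNat_eq_natCast, natCast_zsmul]; exact isGC_nsmul h k
  · rw [negSucc_zsmul]; exact isGC_neg (isGC_nsmul h (k + 1))

theorem isGC_sum {ι : Type*} (s : Finset ι) {f : ι → G → ℂ}
    (h : ∀ i ∈ s, IsGeneralizedCharacter G (f i)) : IsGeneralizedCharacter G (∑ i ∈ s, f i) :=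
  Finset.sum_induction f _ (fun _ _ => isGC_add) isGC_zero h

theorem isGC_isClassFunction {θ : G → ℂ} (h : IsGeneralizedCharacter G θ) : IsClassFunction G θ := by
  obtain ⟨χ, ψ, hχ, hψ, rfl⟩ := h
  exact isClassFunction_sub (IsCharacter.isClassFunction hχ) (IsCharacter.isClassFunction hψ)

theorem isGC_signed {f : G → ℂ} (h : IsSignedIrr G f) : IsGeneralizedCharacter G f :=
  h.elim isGC_of_irr fun h => by simpa using isGC_neg (isGC_of_irr h)

/-! ### Integer spans -/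

section zspan

variable {X : Type*} {S T : Set (X → ℂ)} {α β : X → ℂ}

theorem subset_zspan (h : α ∈ S) : α ∈ zspan S := Submodule.subset_span h

theorem zspan_zero : (0 : X → ℂ) ∈ zspan S := Submodule.zero_mem _

theorem zspan_add (h : α ∈ zspan S) (h' : β ∈ zspan S) : α + β ∈ zspan S := Submodule.add_mem _ h h'

theorem zspan_neg (h : α ∈ zspan S) : -α ∈ zspan S := Submodule.neg_mem _ h

theorem zspan_sub (h : α ∈ zspan S) (h' : β ∈ zspan S) : α - β ∈ zspan S := Submodule.sub_mem _ h h'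

theorem zspan_zsmul (n : ℤ) (h : α ∈ zspan S) : n • α ∈ zspan S := Submodule.smul_mem _ n h

theorem zspan_natCast_smul (n : ℕ) (h : α ∈ zspan S) : (n : ℂ) • α ∈ zspan S := by
  have := zspan_zsmul (n : ℤ) h
  rwa [natCast_zsmul, ← Nat.cast_smul_eq_nsmul ℂ] at this

theorem zspan_mono (h : S ⊆ T) (hα : α ∈ zspan S) : α ∈ zspan T := Submodule.span_mono h hα

theorem zspan_induction {P : (X → ℂ) → Prop} (hS : ∀ χ ∈ S, P χ) (h0 : P 0)
    (hadd : ∀ a ∈ zspan S, ∀ b ∈ zspan S, P a → P b → P (a + b))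
    (hsmul : ∀ (n : ℤ), ∀ a ∈ zspan S, P a → P (n • a)) (h : α ∈ zspan S) : P α :=
  Submodule.span_induction (p := fun x _ => P x) hS h0 (fun a b ha hb => hadd a ha b hb)
    (fun n a ha => hsmul n a ha) h

end zspan

theorem isGC_of_mem_zspan {S : Set (G → ℂ)} (hS : ∀ χ ∈ S, IsGeneralizedCharacter G χ) {α : G → ℂ}
    (h : α ∈ zspan S) : IsGeneralizedCharacter G α :=
  zspan_induction hS isGC_zero (fun _ _ _ _ => isGC_add) (fun n _ _ h => isGC_zsmul h n) h

/-! ### Inner products -/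

variable [Fintype G]

theorem classInner_gc_int {θ φ : G → ℂ} (hθ : IsGeneralizedCharacter G θ)
    (hφ : IsGeneralizedCharacter G φ) : ∃ n : ℤ, classInner θ φ = n := by
  obtain ⟨a, b, ha, hb, rfl⟩ := hθ
  obtain ⟨c, d, hc, hd, rfl⟩ := hφ
  obtain ⟨n1, h1⟩ := IsCharacter.classInner_nat ha hc
  obtain ⟨n2, h2⟩ := IsCharacter.classInner_nat ha hd
  obtain ⟨n3, h3⟩ := IsCharacter.classInner_nat hb hc
  obtain ⟨n4, h4⟩ := IsCharacter.classInner_nat hb hd
  refine ⟨(n1 : ℤ) - n2 - (n3 - n4), ?_⟩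
  simp only [classInner_sub_left, classInner_sub_right, h1, h2, h3, h4]
  push_cast; ring

theorem classInner_signed {f f' : G → ℂ} (hf : IsSignedIrr G f) (hf' : IsSignedIrr G f') :
    classInner f f = 1 ∧ (classInner f f' = 0 ∨ (f' = f ∧ classInner f f' = 1) ∨
      (f' = -f ∧ classInner f f' = -1)) := by
  classical
  obtain ⟨s, χ, hs, hχ, rfl⟩ : ∃ (s : ℂ) (χ : G → ℂ), (s = 1 ∨ s = -1) ∧ IsIrrCharacter G χ ∧
      f = s • χ := by
    rcases hf with h | h
    · exact ⟨1, f, Or.inl rfl, h, (one_smul ℂ f).symm⟩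
    · exact ⟨-1, -f, Or.inr rfl, h, by simp⟩
  obtain ⟨t, ψ, ht, hψ, rfl⟩ : ∃ (s : ℂ) (χ : G → ℂ), (s = 1 ∨ s = -1) ∧ IsIrrCharacter G χ ∧
      f' = s • χ := by
    rcases hf' with h | h
    · exact ⟨1, f', Or.inl rfl, h, (one_smul ℂ f').symm⟩
    · exact ⟨-1, -f', Or.inr rfl, h, by simp⟩
  rw [classInner_smul_left, classInner_smul_left, classInner_smul_right, classInner_smul_right,
    classInner_irr_self hχ]
  constructor
  · rcases hs with rfl | rfl <;> simp
  · by_cases h : χ = ψ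
    · subst h
      rw [classInner_irr_self hχ]
      rcases hs with rfl | rfl <;> rcases ht with rfl | rfl <;> simp
    · rw [classInner_irr_of_ne hχ hψ h]; simp

theorem gc_eq_sum {θ : G → ℂ} (h : IsGeneralizedCharacter G θ) [Fintype (IrrCharacter G)] :
    ∃ c : IrrCharacter G → ℤ, θ = ∑ χ : IrrCharacter G, (c χ : ℂ) • (χ : G → ℂ) ∧
      (∀ χ : IrrCharacter G, classInner θ (χ : G → ℂ) = c χ) ∧
      classInner θ θ = ((∑ χ : IrrCharacter G, c χ ^ 2 : ℤ) : ℂ) := by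
  choose c hc using fun χ : IrrCharacter G => classInner_gc_int h (isGC_of_irr χ.2)
  have hexp : θ = ∑ χ : IrrCharacter G, (c χ : ℂ) • (χ : G → ℂ) :=
    (classFunction_eq_sum (isGC_isClassFunction h)).trans (Finset.sum_congr rfl fun χ _ => by rw [hc])
  refine ⟨c, hexp, hc, ?_⟩
  conv_lhs => arg 2; rw [hexp]
  rw [classInner_sum_right, Int.cast_sum]
  refine Finset.sum_congr rfl fun χ _ => ?_
  rw [classInner_smul_right, hc]
  simp [sq]

/-- A virtual character of norm one is an irreducible character up to sign. -/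
theorem gc_norm_one {θ : G → ℂ} (h : IsGeneralizedCharacter G θ) (h1 : classInner θ θ = 1) :
    IsSignedIrr G θ := by
  classical
  have : Fintype (IrrCharacter G) := Fintype.ofFinite _
  obtain ⟨c, hexp, -, hn⟩ := gc_eq_sum h
  have hsum : ∑ χ : IrrCharacter G, c χ ^ 2 = 1 := by
    have := hn.symm.trans h1; exact_mod_cast this
  obtain ⟨χ, -, hχ⟩ := Finset.exists_ne_zero_of_sum_ne_zero (hsum.trans_ne one_ne_zero)
  have hrest : ∑ ψ ∈ Finset.univ.erase χ, c ψ ^ 2 = 1 - c χ ^ 2 := by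
    rw [← hsum, ← Finset.add_sum_erase _ _ (Finset.mem_univ χ)]; ring
  have hnn : 0 ≤ ∑ ψ ∈ Finset.univ.erase χ, c ψ ^ 2 := Finset.sum_nonneg fun _ _ => sq_nonneg _
  have hpos : 0 < c χ ^ 2 := lt_of_le_of_ne (sq_nonneg _) (Ne.symm hχ)
  have hc1 : c χ ^ 2 = 1 := by omega
  have hz : ∀ ψ, ψ ≠ χ → c ψ = 0 := fun ψ hψ => pow_eq_zero_iff (two_ne_zero) |>.mp
    ((Finset.sum_eq_zero_iff_of_nonneg fun _ _ => sq_nonneg _).mp (by rw [hrest, hc1]; rfl) ψ
      (Finset.mem_erase.mpr ⟨hψ, Finset.mem_univ _⟩))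
  rw [Finset.sum_eq_single χ (fun ψ _ hψ => by simp [hz ψ hψ]) (by simp)] at hexp
  rcases sq_eq_one_iff.mp hc1 with e | e <;> rw [e] at hexp
  · exact Or.inl (by simpa [hexp] using χ.2)
  · exact Or.inr (by simpa [hexp] using χ.2)

theorem re_degree_pos {χ : G → ℂ} (h : IsIrrCharacter G χ) : 0 < (χ 1).re := by
  obtain ⟨n, hn⟩ := IsCharacter.exists_degree (IsIrrCharacter.isCharacter h)
  have := IsIrrCharacter.apply_one_ne_zero h
  rw [hn] at this ⊢
  simpa [Nat.pos_iff_ne_zero] using this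

/-- A virtual character of norm two vanishing at `1` is a difference of two irreducible characters. -/
theorem gc_norm_two {θ : G → ℂ} (h : IsGeneralizedCharacter G θ) (h2 : classInner θ θ = 2)
    (h1 : θ 1 = 0) : ∃ μ ν : G → ℂ, IsIrrCharacter G μ ∧ IsIrrCharacter G ν ∧ μ ≠ ν ∧ θ = μ - ν := by
  classical
  have : Fintype (IrrCharacter G) := Fintype.ofFinite _
  obtain ⟨c, hexp, -, hn⟩ := gc_eq_sum h
  have hsum : ∑ χ : IrrCharacter G, c χ ^ 2 = 2 := by
    have := hn.symm.trans h2; exact_mod_cast this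
  obtain ⟨χ, -, hχ⟩ := Finset.exists_ne_zero_of_sum_ne_zero (hsum.trans_ne (by norm_num))
  have hc : c χ ≠ 0 := fun e => hχ (by simp [e])
  have hrest : ∑ ψ ∈ Finset.univ.erase χ, c ψ ^ 2 = 2 - c χ ^ 2 := by
    rw [← hsum, ← Finset.add_sum_erase _ _ (Finset.mem_univ χ)]; ring
  have hnn : 0 ≤ ∑ ψ ∈ Finset.univ.erase χ, c ψ ^ 2 := Finset.sum_nonneg fun _ _ => sq_nonneg _
  have hcχ : c χ ^ 2 = 1 := by
    have h' : c χ ^ 2 ≤ 2 := by omega
    have : -1 ≤ c χ ∧ c χ ≤ 1 := ⟨by nlinarith, by nlinarith⟩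
    rcases (show c χ = 1 ∨ c χ = -1 by omega) with e | e <;> simp [e]
  have hrest1 : ∑ ψ ∈ Finset.univ.erase χ, c ψ ^ 2 = 1 := by rw [hrest, hcχ]; norm_num
  obtain ⟨η, hη, hηne⟩ := Finset.exists_ne_zero_of_sum_ne_zero (hrest1.trans_ne one_ne_zero)
  have hne : η ≠ χ := (Finset.mem_erase.mp hη).1
  have hrest2 : ∑ ψ ∈ (Finset.univ.erase χ).erase η, c ψ ^ 2 = 1 - c η ^ 2 := by
    rw [← hrest1, ← Finset.add_sum_erase _ _ hη]; ring
  have hnn2 : 0 ≤ ∑ ψ ∈ (Finset.univ.erase χ).erase η, c ψ ^ 2 :=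
    Finset.sum_nonneg fun _ _ => sq_nonneg _
  have hcη : c η ^ 2 = 1 := by
    have hpos : 0 < c η ^ 2 := lt_of_le_of_ne (sq_nonneg _) (Ne.symm hηne)
    omega
  have hz : ∀ ψ, ψ ≠ χ → ψ ≠ η → c ψ = 0 := fun ψ h1 h2 => pow_eq_zero_iff (two_ne_zero) |>.mp
    ((Finset.sum_eq_zero_iff_of_nonneg fun _ _ => sq_nonneg _).mp (by rw [hrest2, hcη]; rfl) ψ
      (by simp [h1, h2]))
  have hθ : θ = (c χ : ℂ) • (χ : G → ℂ) + (c η : ℂ) • (η : G → ℂ) := by
    rw [hexp, ← Finset.add_sum_erase _ _ (Finset.mem_univ χ)]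
    congr 1
    rw [Finset.sum_eq_single η]
    · intro ψ hψ hψη
      rw [hz ψ (by simpa using hψ) hψη]; simp
    · simp [hne]
  have hval : (c χ : ℝ) * ((χ : G → ℂ) 1).re + (c η : ℝ) * ((η : G → ℂ) 1).re = 0 := by
    have := congrArg Complex.re (congrFun hθ 1)
    simp [h1] at this; linarith
  have hp := re_degree_pos χ.2
  have hq := re_degree_pos η.2
  have hne' : (χ : G → ℂ) ≠ (η : G → ℂ) := fun e => hne (Subtype.ext e).symm
  rcases sq_eq_one_iff.mp hcχ with e | e <;> rcases sq_eq_one_iff.mp hcη with e' | e' <;>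
    rw [e, e'] at hθ hval
  · norm_num at hval; linarith
  · exact ⟨_, _, χ.2, η.2, hne', by rw [hθ]; simp [sub_eq_add_neg]⟩
  · exact ⟨_, _, η.2, χ.2, hne'.symm, by rw [hθ]; simp [sub_eq_add_neg, add_comm]⟩
  · norm_num at hval; linarith

end Cfsg.Agent.Coherence
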