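/-
Coherence: extension criteria.

* `Lin` : closure / linearity of a linear isometry on `zspan` / `zspanOn`
* `exists_extension` : extension of a map given on an orthogonal finite set to a linear isometry
* `bessel` : Bessel's inequality with equality case
* `sys_*` : elementary facts on coherence systems, `sys_subset`, `isCoherent_subset`
* `subset_sum` : values of a coherent extension are subsums of `R χ`
-/
import Cfsg.Agent.Lib.Coherence.Virtual
import Cfsg.Agent.S1515

set_option autoImplicit false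
set_option linter.style.haveILetI false

namespace Cfsg.Agent.Coherence

open Cfsg Cfsg.Agent.Char
open scoped ComplexConjugate

universe u v
variable {L : Type u} [Group L] {G : Type v} [Group G]

/-! ### `zspanOn` -/

section zspanOn
variable {X : Type*} {S T : Set (X → ℂ)} {A : Set X} {α β : X → ℂ}

theorem zspanOn_zero : (0 : X → ℂ) ∈ zspanOn S A := ⟨zspan_zero, fun _ _ => rfl⟩

theorem zspanOn_add (h : α ∈ zspanOn S A) (h' : β ∈ zspanOn S A) : α + β ∈ zspanOn S A :=
  ⟨zspan_add h.1 h'.1, fun x hx => by simp [h.2 x hx, h'.2 x hx]⟩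

theorem zspanOn_zsmul (n : ℤ) (h : α ∈ zspanOn S A) : n • α ∈ zspanOn S A :=
  ⟨zspan_zsmul n h.1, fun x hx => by simp [h.2 x hx]⟩

theorem zspanOn_neg (h : α ∈ zspanOn S A) : -α ∈ zspanOn S A := by
  simpa using zspanOn_zsmul (-1) h

theorem zspanOn_sub (h : α ∈ zspanOn S A) (h' : β ∈ zspanOn S A) : α - β ∈ zspanOn S A :=
  sub_eq_add_neg α β ▸ zspanOn_add h (zspanOn_neg h')

theorem zspanOn_mono (h : S ⊆ T) (hα : α ∈ zspanOn S A) : α ∈ zspanOn T A :=
  ⟨zspan_mono h hα.1, hα.2⟩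

theorem mem_zspanOn_one [One X] : α ∈ zspanOn S ({1}ᶜ : Set X) ↔ α ∈ zspan S ∧ α 1 = 0 :=
  ⟨fun h => ⟨h.1, h.2 1 (by simp)⟩, fun h => ⟨h.1, fun x hx => by
    simp only [Set.mem_compl_iff, Set.mem_singleton_iff, not_not] at hx; rw [hx]; exact h.2⟩⟩

theorem exists_coeffs_of_mem_zspan {S : Finset (X → ℂ)} (h : α ∈ zspan (↑S : Set (X → ℂ))) :
    ∃ m : (X → ℂ) → ℤ, α = ∑ φ ∈ S, m φ • φ := by
  obtain ⟨m, -, hm⟩ := Submodule.mem_span_finset.1 h
  exact ⟨m, hm.symm⟩

theorem zspan_sum {ι : Type*} (s : Finset ι) {f : ι → X → ℂ} (h : ∀ i ∈ s, f i ∈ zspan S) :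
    ∑ i ∈ s, f i ∈ zspan S := Submodule.sum_mem _ h

end zspanOn

/-! ### Linearity -/

section lin
variable [Fintype L] [Fintype G] {E : Set (L → ℂ)} {τ : (L → ℂ) → (G → ℂ)}

theorem lin_zero (hτ : IsLinearIsometryOn E τ) (h0 : (0 : L → ℂ) ∈ E) : τ 0 = 0 := by
  simpa using hτ.2.1 0 h0 0

theorem lin_neg (hτ : IsLinearIsometryOn E τ) {α : L → ℂ} (h : α ∈ E) : τ (-α) = -τ α := by
  simpa using hτ.2.1 α h (-1)

theorem lin_mono {E' : Set (L → ℂ)} (hτ : IsLinearIsometryOn E τ) (h : E' ⊆ E) :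
    IsLinearIsometryOn E' τ :=
  ⟨fun a ha b hb => hτ.1 a (h ha) b (h hb), fun a ha => hτ.2.1 a (h ha),
    fun a ha b hb => hτ.2.2.1 a (h ha) b (h hb), fun a ha => hτ.2.2.2 a (h ha)⟩

variable {S : Set (L → ℂ)}

theorem lin_sum (hτ : IsLinearIsometryOn (zspan S) τ) {ι : Type*} (s : Finset ι) {f : ι → L → ℂ}
    (h : ∀ i ∈ s, f i ∈ zspan S) : τ (∑ i ∈ s, f i) = ∑ i ∈ s, τ (f i) := by
  classical
  induction s using Finset.induction_on with
  | empty => simp [lin_zero hτ zspan_zero]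
  | insert a s ha ih =>
    rw [Finset.sum_insert ha, Finset.sum_insert ha,
      hτ.1 _ (h a (Finset.mem_insert_self a s)) _
        (zspan_sum s fun i hi => h i (Finset.mem_insert_of_mem hi)),
      ih fun i hi => h i (Finset.mem_insert_of_mem hi)]

theorem linOn_sum {A : Set L} (hτ : IsLinearIsometryOn (zspanOn S A) τ) {ι : Type*} (s : Finset ι)
    {f : ι → L → ℂ} (h : ∀ i ∈ s, f i ∈ zspanOn S A) : τ (∑ i ∈ s, f i) = ∑ i ∈ s, τ (f i) := by
  classical
  have key : ∑ i ∈ s, f i ∈ zspanOn S A ∧ τ (∑ i ∈ s, f i) = ∑ i ∈ s, τ (f i) := by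
    induction s using Finset.induction_on with
    | empty => simpa using And.intro zspanOn_zero (lin_zero hτ zspanOn_zero)
    | insert a s ha ih =>
      obtain ⟨h1, h2⟩ := ih fun i hi => h i (Finset.mem_insert_of_mem hi)
      have h3 := h a (Finset.mem_insert_self a s)
      rw [Finset.sum_insert ha, Finset.sum_insert ha]
      exact ⟨zspanOn_add h3 h1, by rw [hτ.1 _ h3 _ h1, h2]⟩
  exact key.2

end lin

/-! ### Inner products -/

section inner
variable [Fintype G]

theorem classInner_zsmul_left (n : ℤ) (φ ψ : G → ℂ) :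
    classInner (n • φ) ψ = (n : ℂ) * classInner φ ψ := by
  rw [← Int.cast_smul_eq_zsmul ℂ, classInner_smul_left]

theorem classInner_zsmul_right (n : ℤ) (φ ψ : G → ℂ) :
    classInner φ (n • ψ) = (n : ℂ) * classInner φ ψ := by
  rw [← Int.cast_smul_eq_zsmul ℂ, classInner_smul_right]
  simp

theorem classInner_symm_of_int {φ ψ : G → ℂ} {n : ℤ} (h : classInner φ ψ = (n : ℂ)) :
    classInner ψ φ = (n : ℂ) := by
  rw [← classInner_conj_symm, h]; simp

theorem classInner_symm_eq {φ ψ : G → ℂ} {r : ℝ} (h : classInner φ ψ = (r : ℂ)) :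
    classInner ψ φ = (r : ℂ) := by
  rw [← classInner_conj_symm, h]; simp

theorem classInner_symm_zero {φ ψ : G → ℂ} (h : classInner φ ψ = 0) : classInner ψ φ = 0 := by
  rw [← classInner_conj_symm, h, map_zero]

/-- Bessel's inequality for an orthogonal family, with the equality case. -/
theorem bessel {ι : Type*} (s : Finset ι) (v : ι → G → ℂ) (n : ι → ℝ) (hn : ∀ i ∈ s, 0 < n i)
    (hv : ∀ i ∈ s, classInner (v i) (v i) = (n i : ℂ))
    (ho : ∀ i ∈ s, ∀ j ∈ s, i ≠ j → classInner (v i) (v j) = 0) (β : G → ℂ) :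
    ∑ i ∈ s, ‖classInner β (v i)‖ ^ 2 / n i ≤ (classInner β β).re ∧
      ((classInner β β).re ≤ ∑ i ∈ s, ‖classInner β (v i)‖ ^ 2 / n i →
        β = ∑ i ∈ s, (classInner β (v i) / (n i : ℂ)) • v i) := by
  classical
  set c : ι → ℂ := fun i => classInner β (v i) / (n i : ℂ) with hc
  set P := ∑ i ∈ s, c i • v i with hP
  have hn0 : ∀ i ∈ s, (n i : ℂ) ≠ 0 := fun i hi => Complex.ofReal_ne_zero.2 (hn i hi).ne'
  have hPv : ∀ i ∈ s, classInner P (v i) = classInner β (v i) := by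
    intro i hi
    rw [hP, classInner_sum_left, Finset.sum_eq_single i]
    · rw [classInner_smul_left, hv i hi]; exact div_mul_cancel₀ _ (hn0 i hi)
    · intro j hj hji
      rw [classInner_smul_left, ho j hj i hi hji, mul_zero]
    · exact fun h => absurd hi h
  have hsum : ∀ γ : G → ℂ, (∀ i ∈ s, classInner γ (v i) = classInner β (v i)) →
      classInner γ P = ((∑ i ∈ s, ‖classInner β (v i)‖ ^ 2 / n i : ℝ) : ℂ) := by
    intro γ hγ
    rw [hP, classInner_sum_right, Complex.ofReal_sum]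
    refine Finset.sum_congr rfl fun i hi => ?_
    rw [classInner_smul_right, hγ i hi, hc, map_div₀, Complex.conj_ofReal]
    push_cast
    rw [← Complex.conj_mul', div_mul_eq_mul_div]
  set S := ∑ i ∈ s, ‖classInner β (v i)‖ ^ 2 / n i with hS
  have h1 : classInner β P = (S : ℂ) := hsum β fun i _ => rfl
  have h2 : classInner P P = (S : ℂ) := hsum P hPv
  have key : (classInner (β - P) (β - P)).re = (classInner β β).re - S := by
    rw [classInner_sub_left, classInner_sub_right, classInner_sub_right, h1, h2,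
      classInner_symm_eq h1]
    simp
  have hnn := classInner_self_re_nonneg (β - P)
  refine ⟨by linarith, fun hle => ?_⟩
  have hz : classInner (β - P) (β - P) = 0 := by
    refine Complex.ext (by rw [key, Complex.zero_re]; linarith) ?_
    rw [classInner_self_eq, Complex.ofReal_im, Complex.zero_im]
  exact sub_eq_zero.1 (classInner_self_eq_zero.1 hz)

end inner

/-- Extension of a map given on a finite orthogonal set to a linear isometry on its integer span. -/
theorem exists_extension [Fintype L] [Fintype G] (S : Finset (L → ℂ))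
    (hne : ∀ φ ∈ S, φ ≠ 0) (ho : ∀ φ ∈ S, ∀ ψ ∈ S, φ ≠ ψ → classInner φ ψ = 0)
    (f : (L → ℂ) → (G → ℂ)) (hgc : ∀ φ ∈ S, IsGeneralizedCharacter G (f φ))
    (hf : ∀ φ ∈ S, ∀ ψ ∈ S, classInner (f φ) (f ψ) = classInner φ ψ) :
    ∃ τ₁ : (L → ℂ) → (G → ℂ), IsLinearIsometryOn (zspan (↑S : Set (L → ℂ))) τ₁ ∧
      ∀ φ ∈ S, τ₁ φ = f φ := by
  classical
  set τ₁ : (L → ℂ) → (G → ℂ) := fun α => ∑ φ ∈ S, (classInner α φ / classInner φ φ) • f φ with hτ
  have hadd : ∀ α β, τ₁ (α + β) = τ₁ α + τ₁ β := fun α β => by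
    simp only [hτ, classInner_add_left, add_div, add_smul, Finset.sum_add_distrib]
  have hsmul : ∀ α, ∀ n : ℤ, τ₁ (n • α) = n • τ₁ α := fun α n => by
    simp only [hτ, classInner_zsmul_left, Finset.smul_sum, mul_div_assoc, mul_smul]
    simp only [Int.cast_smul_eq_zsmul]
  have hzero : τ₁ 0 = 0 := by simpa using hsmul 0 0
  have hval : ∀ φ ∈ S, τ₁ φ = f φ := by
    intro φ hφ
    simp only [hτ]
    rw [Finset.sum_eq_single φ]
    · rw [div_self (fun h => hne φ hφ (classInner_self_eq_zero.1 h)), one_smul]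
    · intro ψ hψ h
      rw [ho φ hφ ψ hψ h.symm, zero_div, zero_smul]
    · exact fun h => absurd hφ h
  refine ⟨τ₁, ⟨fun α _ β _ => hadd α β, fun α _ n => hsmul α n, ?_, ?_⟩, hval⟩
  · intro α hα β hβ
    have hβ' : ∀ φ ∈ S, classInner (τ₁ φ) (τ₁ β) = classInner φ β := by
      intro φ hφ
      refine zspan_induction (P := fun b => classInner (τ₁ φ) (τ₁ b) = classInner φ b) ?_ ?_ ?_ ?_ hβ
      · intro ψ hψ
        rw [hval φ hφ, hval ψ hψ]; exact hf φ hφ ψ hψ
      · simp [hzero]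
      · intro a _ b _ h1 h2
        rw [hadd, classInner_add_right, classInner_add_right, h1, h2]
      · intro n a _ h1
        rw [hsmul, classInner_zsmul_right, classInner_zsmul_right, h1]
    refine zspan_induction (P := fun a => classInner (τ₁ a) (τ₁ β) = classInner a β) hβ' ?_ ?_ ?_ hα
    · simp [hzero]
    · intro a _ b _ h1 h2
      rw [hadd, classInner_add_left, classInner_add_left, h1, h2]
    · intro n a _ h1
      rw [hsmul, classInner_zsmul_left, classInner_zsmul_left, h1]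
  · intro α hα
    refine zspan_induction (P := fun a => IsGeneralizedCharacter G (τ₁ a)) ?_ ?_ ?_ ?_ hα
    · intro φ hφ; rw [hval φ hφ]; exact hgc φ hφ
    · rw [hzero]; exact isGC_zero
    · intro a _ b _ h1 h2; rw [hadd]; exact isGC_add h1 h2
    · intro n a _ h1; rw [hsmul]; exact isGC_zsmul h1 n

/-! ### Coherence systems -/

section system
variable [Fintype L] [Fintype G] {S : Set (L → ℂ)} {τ : (L → ℂ) → (G → ℂ)}
  {R : (L → ℂ) → Finset (G → ℂ)}

theorem conjFun_conjFun {X : Type*} (f : X → ℂ) : conjFun (conjFun f) = f := by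
  funext x; simp [conjFun]

theorem classInner_conjFun (φ ψ : L → ℂ) :
    classInner (conjFun φ) (conjFun ψ) = conj (classInner φ ψ) := by
  simp [classInner, conjFun, map_sum]

theorem sys_ne_zero (hS : IsCoherenceSystem S τ R) {χ : L → ℂ} (hχ : χ ∈ S) : χ ≠ 0 := by
  intro h
  refine hS.conj_ne χ hχ ?_
  subst h
  funext x; simp [conjFun]

theorem sys_degree (hS : IsCoherenceSystem S τ R) {χ : L → ℂ} (hχ : χ ∈ S) :
    ∃ d : ℕ, 0 < d ∧ χ 1 = (d : ℂ) := by
  obtain ⟨d, hd⟩ := IsCharacter.exists_degree (hS.isCharacter χ hχ)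
  refine ⟨d, Nat.pos_of_ne_zero fun h => sys_ne_zero hS hχ ?_, hd⟩
  obtain ⟨n, ρ, rfl⟩ := hS.isCharacter χ hχ
  funext g
  have hn : Module.finrank ℂ (Fin n → ℂ) = 0 := by
    have := hd
    rw [Representation.char_one, h] at this
    exact_mod_cast this
  haveI : Subsingleton (Fin n → ℂ) := Module.finrank_zero_iff.1 hn
  show LinearMap.trace ℂ _ (ρ g) = 0
  rw [Subsingleton.elim (ρ g) 0, map_zero]

theorem sys_norm (hS : IsCoherenceSystem S τ R) {χ : L → ℂ} (hχ : χ ∈ S) :
    ∃ n : ℕ, 0 < n ∧ classInner χ χ = (n : ℂ) := by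
  obtain ⟨n, hn⟩ := IsCharacter.classInner_nat (hS.isCharacter χ hχ) (hS.isCharacter χ hχ)
  exact ⟨n, Nat.pos_of_ne_zero fun h => sys_ne_zero hS hχ
    (classInner_self_eq_zero.1 (by rw [hn, h, Nat.cast_zero])), hn⟩

theorem sys_finite (hS : IsCoherenceSystem S τ R) : S.Finite := by
  classical
  have : LinearIndependent ℂ (fun χ : S => (χ : L → ℂ)) := by
    rw [linearIndependent_iff']
    intro s c h i hi
    have h2 := congrArg (fun f => classInner f (i : L → ℂ)) h
    simp only [classInner_sum_left, classInner_smul_left, classInner_zero_left] at h2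
    rw [Finset.sum_eq_single i] at h2
    · exact (mul_eq_zero.1 h2).resolve_right fun hz => sys_ne_zero hS i.2 (classInner_self_eq_zero.1 hz)
    · intro j _ hj
      rw [hS.orthogonal j j.2 i i.2 (fun e => hj (Subtype.ext e)), mul_zero]
    · exact fun h => absurd hi h
  haveI : Finite S := this.finite
  exact Set.toFinite S

theorem sys_sub_conj_mem (hS : IsCoherenceSystem S τ R) {T : Set (L → ℂ)} {χ : L → ℂ} (hχ : χ ∈ S)
    (h1 : χ ∈ T) (h2 : conjFun χ ∈ T) : χ - conjFun χ ∈ zspanOn T {1}ᶜ := by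
  obtain ⟨d, -, hd⟩ := sys_degree hS hχ
  exact mem_zspanOn_one.2 ⟨zspan_sub (subset_zspan h1) (subset_zspan h2), by simp [conjFun, hd]⟩

theorem sys_sub_conj_ne (hS : IsCoherenceSystem S τ R) {χ : L → ℂ} (hχ : χ ∈ S) :
    χ - conjFun χ ≠ 0 := fun h => hS.conj_ne χ hχ (sub_eq_zero.1 h).symm

/-- A nonempty conjugation-closed subset of a coherence system is one. -/
theorem sys_subset (hS : IsCoherenceSystem S τ R) {T : Set (L → ℂ)} (hT : T ⊆ S)
    (hne : T.Nonempty) (hc : ∀ χ ∈ T, conjFun χ ∈ T) : IsCoherenceSystem T τ R where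
  nonempty := hne
  isCharacter χ h := hS.isCharacter χ (hT h)
  conj_mem := hc
  conj_ne χ h := hS.conj_ne χ (hT h)
  isometry := lin_mono hS.isometry fun _ => zspanOn_mono hT
  map_one α h := hS.map_one α (zspanOn_mono hT h)
  orthogonal χ h φ h' := hS.orthogonal χ (hT h) φ (hT h')
  orthonormal χ h := hS.orthonormal χ (hT h)
  virtual χ h := hS.virtual χ (hT h)
  sum_eq χ h := hS.sum_eq χ (hT h)
  disjoint χ h φ h' := hS.disjoint χ (hT h) φ (hT h')

/-- Coherence passes to nonempty conjugation-closed subsets. -/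
theorem isCoherent_subset (hS : IsCoherenceSystem S τ R) {T U : Set (L → ℂ)} (hU : U ⊆ S)
    (hTU : T ⊆ U) (hne : T.Nonempty) (hc : ∀ χ ∈ T, conjFun χ ∈ T) (h : IsCoherent U {1}ᶜ τ) :
    IsCoherent T {1}ᶜ τ := by
  obtain ⟨-, τ₁, hτ₁, hag⟩ := h
  obtain ⟨χ, hχ⟩ := hne
  exact ⟨⟨χ - conjFun χ, sys_sub_conj_mem hS (hU (hTU hχ)) hχ (hc χ hχ),
      sys_sub_conj_ne hS (hU (hTU hχ))⟩, τ₁,
    lin_mono hτ₁ fun _ => zspan_mono hTU, fun α hα => hag α (zspanOn_mono hTU hα)⟩

theorem sum_R_norm [DecidableEq (G → ℂ)] (hS : IsCoherenceSystem S τ R) {χ : L → ℂ} (hχ : χ ∈ S)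
    {s t : Finset (G → ℂ)} (hs : s ⊆ R χ) (ht : t ⊆ R χ) :
    classInner (∑ α ∈ s, α) (∑ α ∈ t, α) = ((s ∩ t).card : ℂ) := by
  have h1 : ∀ α ∈ s, ∀ β ∈ t, classInner α β = if α = β then (1 : ℂ) else 0 := fun α hα β hβ => by
    rw [hS.orthonormal χ hχ α (hs hα) β (ht hβ)]
    by_cases h : α = β <;> simp [h]
  rw [classInner_sum_left, Finset.sum_congr rfl fun α hα => classInner_sum_right t α _,
    Finset.sum_congr rfl fun α hα => Finset.sum_congr rfl fun β hβ => h1 α hα β hβ]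
  simp only [Finset.sum_ite_eq, Finset.sum_boole]
  congr 2

theorem card_R (hS : IsCoherenceSystem S τ R) {χ : L → ℂ} (hχ : χ ∈ S) {n : ℕ}
    (hn : classInner χ χ = (n : ℂ)) : (R χ).card = 2 * n := by
  classical
  have hm := sys_sub_conj_mem hS hχ hχ (hS.conj_mem χ hχ)
  have h := hS.isometry.2.2.1 _ hm _ hm
  rw [hS.sum_eq χ hχ, sum_R_norm hS hχ subset_rfl subset_rfl, Finset.inter_self,
    classInner_sub_left, classInner_sub_right, classInner_sub_right, classInner_conjFun, hn,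
    hS.orthogonal χ hχ _ (hS.conj_mem χ hχ) (hS.conj_ne χ hχ).symm,
    hS.orthogonal _ (hS.conj_mem χ hχ) χ hχ (hS.conj_ne χ hχ)] at h
  simp only [sub_zero, zero_sub, sub_neg_eq_add, map_natCast] at h
  have : ((R χ).card : ℂ) = ((2 * n : ℕ) : ℂ) := by rw [h]; push_cast; ring
  exact_mod_cast this

/-- A coherent extension sends `χ` to a subsum of `R χ`. -/
theorem subset_sum (hS : IsCoherenceSystem S τ R) {T : Set (L → ℂ)} {τ₁ : (L → ℂ) → (G → ℂ)}
    (hτ₁ : IsLinearIsometryOn (zspan T) τ₁) (hag : ∀ α ∈ zspanOn T {1}ᶜ, τ₁ α = τ α)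
    {χ : L → ℂ} (hχ : χ ∈ S) (h1 : χ ∈ T) (h2 : conjFun χ ∈ T) :
    ∃ s : Finset (G → ℂ), s ⊆ R χ ∧ τ₁ χ = ∑ α ∈ s, α := by
  classical
  have hsub : zspan {χ - 0, χ - conjFun χ} ⊆ zspan T := fun α hα =>
    zspan_induction (P := fun a => a ∈ zspan T) (by
      rintro a (rfl | rfl)
      · simpa using subset_zspan h1
      · exact zspan_sub (subset_zspan h1) (subset_zspan h2)) zspan_zero
      (fun _ _ _ _ => zspan_add) (fun n _ _ => zspan_zsmul n) hα
  have h := S1515.result S τ R hS χ hχ 0 zspan_zero (by simp) (by simp) τ₁ (lin_mono hτ₁ hsub)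
    (fun n => hag _ (zspanOn_zsmul n (sys_sub_conj_mem hS hχ h1 h2)))
  simp only [sub_zero, classInner_zero_left, Complex.zero_re, sub_nonneg] at h
  obtain ⟨hge, h'⟩ := h
  have hb := bessel (R χ) (fun α => α) (fun _ => 1) (fun _ _ => one_pos)
    (fun α hα => by simp [hS.orthonormal χ hχ α hα α hα])
    (fun α hα β hβ hne => by simp [hS.orthonormal χ hχ α hα β hβ, hne]) (τ₁ χ)
  simp only [div_one, Complex.ofReal_one] at hb
  obtain ⟨heq, h01⟩ := h' hb.1
  have hexp := hb.2 (by rw [heq, hτ₁.2.2.1 _ (subset_zspan h1) _ (subset_zspan h1)])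
  refine ⟨(R χ).filter fun α => classInner (τ₁ χ) α = 1, Finset.filter_subset _ _, ?_⟩
  rw [Finset.sum_filter]
  refine hexp.trans (Finset.sum_congr rfl fun α hα => ?_)
  rcases h01 α hα with e | e <;> simp [e]

end system

end Cfsg.Agent.Coherence
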