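/-
Coherence criteria.

* `inner_rel`     : inner products of `τ (χ - a • ψ)` with a coherent set
* `coherent_glue` : adjoining finitely many characters to a coherent set
* `exists_subsum` : projection of a virtual character on `R χ`
* `extend_pair`   : the degree criterion for adjoining a pair `χ, conj χ`
* `uniform`       : constant degree implies coherence
-/
import Cfsg.Agent.Lib.Coherence.Extend

set_option autoImplicit false
set_option linter.style.haveILetI false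

namespace Cfsg.Agent.Coherence

open Cfsg Cfsg.Agent.Char
open scoped ComplexConjugate

universe u v
variable {L : Type u} [Group L] [Fintype L] {G : Type v} [Group G] [Fintype G]
  {τ τ₁ : (L → ℂ) → (G → ℂ)}

theorem inner_rel {T S₀ : Set (L → ℂ)} (hS₀ : S₀ ⊆ T)
    (hτ : IsLinearIsometryOn (zspanOn T {1}ᶜ) τ) (hτ₁ : IsLinearIsometryOn (zspan S₀) τ₁)
    (hag : ∀ α ∈ zspanOn S₀ {1}ᶜ, τ₁ α = τ α) {χ ψ φ : L → ℂ} (hχT : χ ∈ T) (hψ : ψ ∈ S₀)
    (hφ : φ ∈ S₀) {dχ dψ dφ a : ℤ} (hdχ : χ 1 = dχ) (hdψ : ψ 1 = dψ) (hdφ : φ 1 = dφ)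
    (ha : dχ = a * dψ) (hχψ : classInner χ ψ = 0) (hχφ : classInner χ φ = 0) :
    (dψ : ℂ) * classInner (τ (χ - a • ψ)) (τ₁ φ) - dφ * classInner (τ (χ - a • ψ)) (τ₁ ψ) =
      -(a : ℂ) * dψ * classInner ψ φ + (a : ℂ) * dφ * classInner ψ ψ := by
  have m1 : χ - a • ψ ∈ zspanOn T {1}ᶜ := mem_zspanOn_one.2
    ⟨zspan_sub (subset_zspan hχT) (zspan_zsmul a (subset_zspan (hS₀ hψ))), by simp [hdχ, hdψ, ha]⟩
  have z1 : dψ • φ ∈ zspan S₀ := zspan_zsmul dψ (subset_zspan hφ)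
  have z2 : (-dφ) • ψ ∈ zspan S₀ := zspan_zsmul (-dφ) (subset_zspan hψ)
  have m2 : dψ • φ + (-dφ) • ψ ∈ zspanOn S₀ {1}ᶜ :=
    mem_zspanOn_one.2 ⟨zspan_add z1 z2, by simp [hdψ, hdφ]; ring⟩
  have h := hτ.2.2.1 _ m1 _ (zspanOn_mono hS₀ m2)
  rw [← hag _ m2, hτ₁.1 _ z1 _ z2, hτ₁.2.1 _ (subset_zspan hφ), hτ₁.2.1 _ (subset_zspan hψ)] at h
  simp only [classInner_add_right, classInner_zsmul_right, classInner_sub_left,
    classInner_zsmul_left, hχψ, hχφ, Int.cast_neg] at h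
  linear_combination h

/-- Adjoining the functions in `N` to a coherent set. -/
theorem coherent_glue {T : Set (L → ℂ)} (S₁ N : Finset (L → ℂ)) [DecidableEq (L → ℂ)]
    (hT : (↑(S₁ ∪ N) : Set (L → ℂ)) ⊆ T) (hdisj : Disjoint S₁ N)
    (hne : ∀ φ ∈ S₁ ∪ N, φ ≠ 0)
    (ho : ∀ φ ∈ S₁ ∪ N, ∀ ψ ∈ S₁ ∪ N, φ ≠ ψ → classInner φ ψ = 0)
    (hτ : IsLinearIsometryOn (zspanOn T {1}ᶜ) τ)
    (hτ₁ : IsLinearIsometryOn (zspan (↑S₁ : Set (L → ℂ))) τ₁)
    (hag : ∀ α ∈ zspanOn (↑S₁ : Set (L → ℂ)) {1}ᶜ, τ₁ α = τ α)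
    {ψ : L → ℂ} (hψ : ψ ∈ S₁) (f : (L → ℂ) → (G → ℂ))
    (hgc : ∀ x ∈ N, IsGeneralizedCharacter G (f x))
    (h1 : ∀ x ∈ N, ∀ φ ∈ S₁, classInner (f x) (τ₁ φ) = 0)
    (h2 : ∀ x ∈ N, ∀ y ∈ N, classInner (f x) (f y) = classInner x y)
    (h3 : ∀ x ∈ N, ∃ a : ℤ, x 1 = a * ψ 1 ∧ τ (x - a • ψ) = f x - a • τ₁ ψ)
    (hnz : ∃ α ∈ zspanOn (↑(S₁ ∪ N) : Set (L → ℂ)) {1}ᶜ, α ≠ 0) :
    IsCoherent (↑(S₁ ∪ N) : Set (L → ℂ)) {1}ᶜ τ := by
  classical
  refine ⟨hnz, ?_⟩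
  set g : (L → ℂ) → (G → ℂ) := fun x => if x ∈ N then f x else τ₁ x with hg
  have hgS : ∀ φ ∈ S₁, g φ = τ₁ φ := fun φ hφ => if_neg (Finset.disjoint_left.1 hdisj hφ)
  have hgN : ∀ x ∈ N, g x = f x := fun x hx => if_pos hx
  have hzero : ∀ φ ∈ S₁, ∀ x ∈ N, classInner φ x = 0 := fun φ hφ x hx =>
    ho φ (Finset.mem_union_left _ hφ) x (Finset.mem_union_right _ hx)
      (fun e => Finset.disjoint_left.1 hdisj hφ (e ▸ hx))
  obtain ⟨τ₂, hτ₂, hval⟩ := exists_extension (G := G) (S₁ ∪ N) hne ho g (fun φ hφ => by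
    rcases Finset.mem_union.1 hφ with h | h
    · rw [hgS φ h]; exact hτ₁.2.2.2 _ (subset_zspan h)
    · rw [hgN φ h]; exact hgc φ h) (fun φ hφ φ' hφ' => by
    rcases Finset.mem_union.1 hφ with h | h <;> rcases Finset.mem_union.1 hφ' with h' | h'
    · rw [hgS φ h, hgS φ' h']; exact hτ₁.2.2.1 _ (subset_zspan h) _ (subset_zspan h')
    · rw [hgS φ h, hgN φ' h', hzero φ h φ' h']; exact classInner_symm_zero (h1 φ' h' φ h)
    · rw [hgS φ' h', hgN φ h, h1 φ h φ' h', classInner_symm_zero (hzero φ' h' φ h)]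
    · rw [hgN φ h, hgN φ' h']; exact h2 φ h φ' h')
  refine ⟨τ₂, hτ₂, fun α hα => ?_⟩
  have hS₁sub : (↑S₁ : Set (L → ℂ)) ⊆ ↑(S₁ ∪ N) := by
    simp only [Finset.coe_union]; exact Set.subset_union_left
  have heq : ∀ β ∈ zspan (↑S₁ : Set (L → ℂ)), τ₂ β = τ₁ β := by
    intro β hβ
    obtain ⟨m, rfl⟩ := exists_coeffs_of_mem_zspan hβ
    rw [lin_sum hτ₂ S₁ fun φ hφ => zspan_zsmul _ (subset_zspan (hS₁sub hφ)),
      lin_sum hτ₁ S₁ fun φ hφ => zspan_zsmul _ (subset_zspan hφ)]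
    refine Finset.sum_congr rfl fun φ hφ => ?_
    rw [hτ₂.2.1 _ (subset_zspan (hS₁sub hφ)), hτ₁.2.1 _ (subset_zspan hφ),
      hval φ (Finset.mem_union_left _ hφ), hgS φ hφ]
  choose! a ha ha' using h3
  have hdeg : ∀ x ∈ N, x - a x • ψ ∈ zspanOn (↑(S₁ ∪ N) : Set (L → ℂ)) {1}ᶜ := fun x hx =>
    mem_zspanOn_one.2 ⟨zspan_sub (subset_zspan (Finset.mem_coe.2 (Finset.mem_union_right _ hx)))
      (zspan_zsmul _ (subset_zspan (hS₁sub hψ))), by simp [ha x hx]⟩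
  obtain ⟨m, hm⟩ := exists_coeffs_of_mem_zspan hα.1
  rw [Finset.sum_union hdisj] at hm
  set z := ∑ φ ∈ S₁, m φ • φ + ∑ x ∈ N, (m x * a x) • ψ with hz
  have hzz : z ∈ zspan (↑S₁ : Set (L → ℂ)) :=
    zspan_add (zspan_sum _ fun φ hφ => zspan_zsmul _ (subset_zspan hφ))
      (zspan_sum _ fun x _ => zspan_zsmul _ (subset_zspan hψ))
  have hα' : α = z + ∑ x ∈ N, m x • (x - a x • ψ) := by
    rw [hm, hz, add_assoc, ← Finset.sum_add_distrib]
    congr 1
    refine Finset.sum_congr rfl fun x _ => ?_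
    rw [smul_sub, smul_smul, add_sub_cancel]
  have hsum := fun x hx => zspanOn_zsmul (m x) (hdeg x hx)
  have hsum' : ∑ x ∈ N, m x • (x - a x • ψ) ∈ zspanOn (↑(S₁ ∪ N) : Set (L → ℂ)) {1}ᶜ :=
    mem_zspanOn_one.2 ⟨zspan_sum _ fun x hx => (hsum x hx).1, by
      rw [Finset.sum_apply]; exact Finset.sum_eq_zero fun x hx => (mem_zspanOn_one.1 (hsum x hx)).2⟩
  have hz1 : z ∈ zspanOn (↑S₁ : Set (L → ℂ)) {1}ᶜ := by
    refine mem_zspanOn_one.2 ⟨hzz, ?_⟩
    have := (mem_zspanOn_one.1 hα).2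
    rwa [hα', Pi.add_apply, (mem_zspanOn_one.1 hsum').2, add_zero] at this
  have hzT := zspanOn_mono (hS₁sub.trans hT) hz1
  have hτ₂' : τ₂ (∑ x ∈ N, m x • (x - a x • ψ)) = τ (∑ x ∈ N, m x • (x - a x • ψ)) := by
    rw [lin_sum hτ₂ N fun x hx => (hsum x hx).1,
      linOn_sum hτ N fun x hx => zspanOn_mono hT (hsum x hx)]
    refine Finset.sum_congr rfl fun x hx => ?_
    rw [hτ₂.2.1 _ (hdeg x hx).1, hτ.2.1 _ (zspanOn_mono hT (hdeg x hx)), ha' x hx]
    congr 1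
    have hxm : x ∈ zspan (↑(S₁ ∪ N) : Set (L → ℂ)) :=
      subset_zspan (Finset.mem_coe.2 (Finset.mem_union_right _ hx))
    have hψm : a x • ψ ∈ zspan (↑(S₁ ∪ N) : Set (L → ℂ)) :=
      zspan_zsmul _ (subset_zspan (hS₁sub hψ))
    rw [sub_eq_add_neg x, hτ₂.1 _ hxm _ (zspan_neg hψm), lin_neg hτ₂ hψm,
      hval x (Finset.mem_union_right _ hx), hgN x hx,
      hτ₂.2.1 _ (subset_zspan (hS₁sub hψ)), hval ψ (Finset.mem_union_left _ hψ), hgS ψ hψ,
      ← sub_eq_add_neg]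
  rw [hα', hτ₂.1 _ (zspan_mono hS₁sub hzz) _ hsum'.1, heq z hzz, hag z hz1, hτ₂',
    hτ.1 _ hzT _ (zspanOn_mono hT hsum')]

variable {S : Set (L → ℂ)} {R : (L → ℂ) → Finset (G → ℂ)}

theorem sys_degree' (hS : IsCoherenceSystem S τ R) {χ : L → ℂ} (hχ : χ ∈ S) :
    ∃ d : ℤ, 0 < d ∧ χ 1 = (d : ℂ) ∧ conjFun χ 1 = (d : ℂ) := by
  obtain ⟨d, hd0, hd⟩ := sys_degree hS hχ
  exact ⟨d, by exact_mod_cast hd0, by rw [hd]; push_cast; rfl, by simp [conjFun, hd]⟩

/-- The component of a virtual character on `R χ`. -/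
theorem exists_subsum (hS : IsCoherenceSystem S τ R) {χ : L → ℂ} (hχ : χ ∈ S) {β : G → ℂ}
    (hβ : IsGeneralizedCharacter G β) :
    ∃ c : (G → ℂ) → ℤ, (∀ α ∈ R χ, classInner β α = c α) ∧
      classInner β (τ (χ - conjFun χ)) = ((∑ α ∈ R χ, c α : ℤ) : ℂ) ∧
      ∀ γ, classInner γ (∑ α ∈ R χ, c α • α) = ∑ α ∈ R χ, (c α : ℂ) * classInner γ α := by
  choose! c hc using fun α (hα : α ∈ R χ) => classInner_gc_int hβ (hS.virtual χ hχ α hα)
  refine ⟨c, hc, ?_, fun γ => ?_⟩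
  · rw [hS.sum_eq χ hχ, classInner_sum_right, Int.cast_sum]; exact Finset.sum_congr rfl hc
  · rw [classInner_sum_right]
    exact Finset.sum_congr rfl fun α _ => classInner_zsmul_right _ _ _

theorem sum_smul_self (hS : IsCoherenceSystem S τ R) {χ : L → ℂ} (hχ : χ ∈ S) (c : (G → ℂ) → ℤ)
    {α : G → ℂ} (hα : α ∈ R χ) : classInner (∑ β ∈ R χ, c β • β) α = c α := by
  rw [classInner_sum_left, Finset.sum_eq_single α]
  · rw [classInner_zsmul_left, hS.orthonormal χ hχ α hα α hα]; simp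
  · intro β hβ hne
    rw [classInner_zsmul_left, hS.orthonormal χ hχ β hβ α hα]; simp [hne]
  · exact fun h => absurd hα h

/-- A virtual character orthogonal to `R χ` has inner product `0` with every combination. -/
theorem inner_sum_zero {s : Finset (G → ℂ)} {γ : G → ℂ} (h : ∀ α ∈ s, classInner γ α = 0) :
    classInner γ (∑ α ∈ s, α) = 0 := by
  rw [classInner_sum_right]; exact Finset.sum_eq_zero h

/-- The degree criterion for adjoining a pair of conjugate characters to a coherent set. -/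
theorem extend_pair [DecidableEq (L → ℂ)] (hS : IsCoherenceSystem S τ R) (S₁ : Finset (L → ℂ)) (hS₁ : ↑S₁ ⊆ S)
    (hS₁c : ∀ φ ∈ S₁, conjFun φ ∈ S₁) (hcoh : IsCoherent (↑S₁ : Set (L → ℂ)) {1}ᶜ τ)
    {χ : L → ℂ} (hχ : χ ∈ S) (hχ₁ : χ ∉ S₁) {χ₁ : L → ℂ} (hχ₁S : χ₁ ∈ S₁) {a : ℤ}
    (ha : χ 1 = a * χ₁ 1)
    (hineq : (2 * (χ 1).re * (χ₁ 1).re : ℝ) <
      ∑ φ ∈ S₁, ((φ 1).re ^ 2 / (classInner φ φ).re)) :
    IsCoherent (↑S₁ ∪ {χ, conjFun χ} : Set (L → ℂ)) {1}ᶜ τ := by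
  classical
  have hχ₂ : conjFun χ ∉ S₁ := fun h => hχ₁ (conjFun_conjFun χ ▸ hS₁c _ h)
  obtain ⟨-, τ₁, hτ₁, hag⟩ := hcoh
  have hχc := hS.conj_mem χ hχ
  have hmemS : ∀ φ ∈ S₁, φ ∈ S := fun φ hφ => hS₁ hφ
  obtain ⟨dχ, hdχ0, hdχ, hdχc⟩ := sys_degree' hS hχ
  obtain ⟨d₁, hd₁0, hd₁, hd₁c⟩ := sys_degree' hS (hmemS _ hχ₁S)
  have ha' : dχ = a * d₁ := by rw [hdχ, hd₁] at ha; exact_mod_cast ha
  obtain ⟨nχ, hnχ0, hnχ⟩ := sys_norm hS hχ
  obtain ⟨n₁, hn₁0, hn₁⟩ := sys_norm hS (hmemS _ hχ₁S)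
  set β := τ (χ - a • χ₁) with hβ
  have hmβ : χ - a • χ₁ ∈ zspanOn S {1}ᶜ := mem_zspanOn_one.2
    ⟨zspan_sub (subset_zspan hχ) (zspan_zsmul a (subset_zspan (hmemS _ hχ₁S))),
      by simp [hdχ, hd₁, ha']⟩
  have hβgc := hS.isometry.2.2.2 _ hmβ
  have hχφ : ∀ φ ∈ S₁, classInner χ φ = 0 := fun φ hφ =>
    hS.orthogonal χ hχ φ (hmemS φ hφ) fun e => hχ₁ (e ▸ hφ)
  have hχcφ : ∀ φ ∈ S₁, classInner (conjFun χ) φ = 0 := fun φ hφ =>
    hS.orthogonal _ hχc φ (hmemS φ hφ) fun e => hχ₂ (e ▸ hφ)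
  obtain ⟨c, hc, hcs, hcX⟩ := exists_subsum hS hχ hβgc
  have hψz : a • χ₁ ∈ zspan S := zspan_zsmul a (subset_zspan (hmemS _ hχ₁S))
  have h15 := S1515.result S τ R hS χ hχ (a • χ₁) hψz
    (by rw [classInner_zsmul_right, hχφ _ hχ₁S, mul_zero])
    (by rw [classInner_zsmul_right, hχcφ _ hχ₁S, mul_zero]) τ
    (lin_mono hS.isometry fun α hα =>
      zspan_induction (P := fun x => x ∈ zspanOn S {1}ᶜ) (by
        rintro x (rfl | rfl)
        · exact hmβ
        · exact sys_sub_conj_mem hS hχ hχ hχc) zspanOn_zero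
        (fun _ _ _ _ => zspanOn_add) (fun n _ _ => zspanOn_zsmul n) hα)
    (fun n => rfl)
  rw [← hβ] at h15
  -- orthogonality of the coherent images to `R χ`
  have hperp : ∀ φ ∈ S₁, ∀ α ∈ R χ, classInner (τ₁ φ) α = 0 := by
    intro φ hφ α hα
    obtain ⟨s, hs, hse⟩ := subset_sum hS hτ₁ hag (hmemS φ hφ) hφ (hS₁c φ hφ)
    rw [hse, classInner_sum_left]
    exact Finset.sum_eq_zero fun β' hβ' => hS.disjoint χ hχ φ (hmemS φ hφ)
      (classInner_symm_zero (hχφ φ hφ)) (classInner_symm_zero (hχcφ φ hφ)) β' (hs hβ') α hα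
  -- the integer `b`
  obtain ⟨e, he⟩ := classInner_gc_int hβgc (hτ₁.2.2.2 _ (subset_zspan hχ₁S))
  set b : ℤ := e + a * n₁ with hb
  have hd₁' : (d₁ : ℂ) ≠ 0 := Int.cast_ne_zero.2 hd₁0.ne'
  have hval : ∀ φ ∈ S₁, ∀ dφ : ℤ, φ 1 = dφ → classInner β (τ₁ φ) =
      ((((dφ : ℝ) * b) / d₁ - (a : ℝ) * (if φ = χ₁ then (n₁ : ℝ) else 0) : ℝ) : ℂ) := by
    intro φ hφ dφ hdφ
    have h := inner_rel hS₁ hS.isometry hτ₁ hag hχ hχ₁S hφ hdχ hd₁ hdφ ha'
      (hχφ _ hχ₁S) (hχφ φ hφ)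
    rw [← hβ, he, hn₁] at h
    split_ifs with hφ1
    · subst hφ1
      rw [hn₁] at h
      have : (dφ : ℂ) = d₁ := by rw [← hdφ, hd₁]
      push_cast
      rw [this, mul_div_cancel_left₀ _ hd₁', hb]
      push_cast
      rw [he]; ring
    · rw [hS.orthogonal _ (hmemS _ hχ₁S) φ (hmemS φ hφ) (fun e => hφ1 e.symm)] at h
      push_cast
      rw [hb]; push_cast
      field_simp
      linear_combination h
  -- the orthogonal family
  let v : (G → ℂ) ⊕ (L → ℂ) → (G → ℂ) := Sum.elim id τ₁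
  let n : (G → ℂ) ⊕ (L → ℂ) → ℝ := Sum.elim (fun _ => 1) (fun φ => (classInner φ φ).re)
  have hnS : ∀ φ ∈ S, 0 < (classInner φ φ).re ∧ classInner φ φ = ((classInner φ φ).re : ℂ) := by
    intro φ hφ
    obtain ⟨k, hk0, hk⟩ := sys_norm hS hφ
    rw [hk]; simpa using hk0
  have hfam := bessel ((R χ).disjSum S₁) v n (by
      rintro (α | φ) hi
      · simp [n]
      · exact (hnS φ (hmemS φ (Finset.inr_mem_disjSum.1 hi))).1) (by
      rintro (α | φ) hi
      · simp only [v, n, Sum.elim_inl, id]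
        rw [hS.orthonormal χ hχ α (Finset.inl_mem_disjSum.1 hi) α (Finset.inl_mem_disjSum.1 hi)]
        simp
      · have hφ := Finset.inr_mem_disjSum.1 hi
        simp only [v, n, Sum.elim_inr]
        rw [hτ₁.2.2.1 _ (subset_zspan hφ) _ (subset_zspan hφ)]
        exact (hnS φ (hmemS φ hφ)).2) (by
      rintro (α | φ) hi (α' | φ') hj hne
      · simp only [v, Sum.elim_inl, id]
        rw [hS.orthonormal χ hχ α (Finset.inl_mem_disjSum.1 hi) α' (Finset.inl_mem_disjSum.1 hj)]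
        exact if_neg fun e => hne (congrArg _ e)
      · simp only [v, Sum.elim_inl, Sum.elim_inr, id]
        exact classInner_symm_zero
          (hperp φ' (Finset.inr_mem_disjSum.1 hj) α (Finset.inl_mem_disjSum.1 hi))
      · simp only [v, Sum.elim_inl, Sum.elim_inr, id]
        exact hperp φ (Finset.inr_mem_disjSum.1 hi) α' (Finset.inl_mem_disjSum.1 hj)
      · have h1 := Finset.inr_mem_disjSum.1 hi
        have h2 := Finset.inr_mem_disjSum.1 hj
        simp only [v, Sum.elim_inr]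
        rw [hτ₁.2.2.1 _ (subset_zspan h1) _ (subset_zspan h2)]
        exact hS.orthogonal φ (hmemS φ h1) φ' (hmemS φ' h2) fun e => hne (congrArg _ e)) β
  obtain ⟨hle, heqB⟩ := hfam
  simp only [Finset.sum_disjSum, v, n, Sum.elim_inl, Sum.elim_inr, id, div_one] at hle heqB
  -- norms
  have hββ : (classInner β β).re = nχ + (a : ℝ) ^ 2 * n₁ := by
    rw [hβ, hS.isometry.2.2.1 _ hmβ _ hmβ]
    simp only [classInner_sub_left, classInner_sub_right, classInner_zsmul_left,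
      classInner_zsmul_right, hχφ _ hχ₁S, classInner_symm_zero (hχφ _ hχ₁S), hnχ, hn₁]
    simp; ring
  choose! dd hdd0 hdd _hddc using fun φ (hφ : φ ∈ S₁) => sys_degree' hS (hmemS φ hφ)
  have hdd₁ : dd χ₁ = d₁ := by exact_mod_cast (hdd χ₁ hχ₁S).symm.trans hd₁
  set Dsum := ∑ φ ∈ S₁, (dd φ : ℝ) ^ 2 / (classInner φ φ).re with hDs
  have hn₁' : (classInner χ₁ χ₁).re = n₁ := by rw [hn₁]; simp
  have hn₁r : (n₁ : ℝ) ≠ 0 := Nat.cast_ne_zero.2 hn₁0.ne'
  have hd₁r : (d₁ : ℝ) ≠ 0 := Int.cast_ne_zero.2 hd₁0.ne'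
  have hsum2 : ∑ φ ∈ S₁, ‖classInner β (τ₁ φ)‖ ^ 2 / (classInner φ φ).re =
      (b : ℝ) ^ 2 / (d₁ : ℝ) ^ 2 * Dsum - 2 * a * b + (a : ℝ) ^ 2 * n₁ := by
    rw [Finset.sum_congr rfl (g := fun φ => (b : ℝ) ^ 2 / (d₁ : ℝ) ^ 2 *
      ((dd φ : ℝ) ^ 2 / (classInner φ φ).re) +
      (if φ = χ₁ then (a : ℝ) ^ 2 * n₁ - 2 * a * b else 0)) ?_]
    · rw [Finset.sum_add_distrib, ← Finset.mul_sum, ← hDs, Finset.sum_ite_eq', if_pos hχ₁S]; ring
    · intro φ hφ
      rw [hval φ hφ _ (hdd φ hφ), Complex.norm_real, Real.norm_eq_abs, sq_abs]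
      split_ifs with h
      · subst h; rw [hn₁', hdd₁]; field_simp; ring
      · ring
  obtain ⟨hge, himp⟩ := h15
  have hψψ : (classInner (a • χ₁) (a • χ₁)).re = (a : ℝ) ^ 2 * n₁ := by
    rw [classInner_zsmul_left, classInner_zsmul_right, hn₁]; simp; ring
  rw [hψψ] at himp
  rw [hnχ, Complex.natCast_re] at hge himp
  rw [hsum2] at hle heqB
  have hb0 : b = 0 := by
    by_contra hb0
    have hbr : (b : ℝ) ^ 2 * Dsum ≤ 2 * b * a * (d₁ : ℝ) ^ 2 := by
      have hh : (b : ℝ) ^ 2 / (d₁ : ℝ) ^ 2 * Dsum ≤ 2 * a * b := by linarith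
      have := mul_le_mul_of_nonneg_right hh (sq_nonneg (d₁ : ℝ))
      field_simp at this
      nlinarith [this]
    have hDlt : 2 * ((a : ℝ) * d₁) * d₁ < Dsum := by
      have e1 : ∑ φ ∈ S₁, (φ 1).re ^ 2 / (classInner φ φ).re = Dsum :=
        Finset.sum_congr rfl fun φ hφ => by rw [hdd φ hφ]; simp
      rw [e1, hdχ, hd₁, Complex.intCast_re, Complex.intCast_re, ha'] at hineq
      push_cast at hineq; linarith
    have ha0 : (0 : ℝ) < a := by
      have : 0 < a * d₁ := ha' ▸ hdχ0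
      exact_mod_cast pos_of_mul_pos_left this hd₁0.le
    have had : 0 < 2 * (a : ℝ) * (d₁ : ℝ) ^ 2 :=
      mul_pos (mul_pos two_pos ha0) (pow_pos (by exact_mod_cast hd₁0) 2)
    rcases lt_or_gt_of_ne hb0 with h | h
    · have h' : (b : ℝ) ≤ -1 := by exact_mod_cast Int.le_sub_one_of_lt h
      nlinarith [mul_nonneg (sq_nonneg (b : ℝ)) (le_of_lt (lt_trans (by nlinarith) hDlt : (0:ℝ) < Dsum))]
    · have h' : (1 : ℝ) ≤ b := by exact_mod_cast h
      nlinarith [mul_le_mul_of_nonneg_right h' (le_of_lt (lt_trans (by nlinarith) hDlt : (0:ℝ) < Dsum))]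
  obtain ⟨heq, h01⟩ := himp (by
    have : (0 : ℝ) = b := by simp [hb0]
    rw [← this] at hle
    simp only [zero_pow two_ne_zero, zero_div, zero_mul, mul_zero, sub_zero, zero_add] at hle
    linarith)
  have hexp := heqB (by
    rw [hb0]
    simp only [Int.cast_zero, zero_pow two_ne_zero, zero_div, zero_mul, mul_zero, sub_zero, zero_add]
    linarith)
  set X := ∑ α ∈ R χ, c α • α with hX
  have hc01 : ∀ α ∈ R χ, c α = 0 ∨ c α = 1 := by
    intro α hα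
    rcases h01 α hα with h | h <;> rw [hc α hα] at h <;> [left; right] <;> exact_mod_cast h
  have hcsum : (∑ α ∈ R χ, c α : ℤ) = nχ := by
    have h1 : (((∑ α ∈ R χ, c α : ℤ) : ℝ)) = ∑ α ∈ R χ, ‖classInner β α‖ ^ 2 := by
      push_cast
      refine Finset.sum_congr rfl fun α hα => ?_
      rw [hc α hα]
      rcases hc01 α hα with h | h <;> simp [h]
    rw [heq] at h1
    exact_mod_cast h1
  have hβeq : β = X - a • τ₁ χ₁ := by
    refine hexp.trans ?_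
    rw [sub_eq_add_neg]
    congr 1
    · refine Finset.sum_congr rfl fun α hα => ?_
      rw [hc α hα, Complex.ofReal_one, div_one, Int.cast_smul_eq_zsmul]
    · rw [Finset.sum_eq_single χ₁]
      · rw [hval _ hχ₁S _ hd₁, hb0, if_pos rfl, hn₁']
        push_cast
        rw [mul_zero, zero_div, zero_sub, neg_div,
          mul_div_cancel_right₀ _ (Nat.cast_ne_zero.2 hn₁0.ne'), neg_smul, Int.cast_smul_eq_zsmul]
      · intro φ hφ hne
        rw [hval φ hφ _ (hdd φ hφ), hb0, if_neg hne]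
        simp
      · exact fun h => absurd hχ₁S h
  -- glue
  set X' := X - ∑ α ∈ R χ, α with hX'
  have hsX : ∀ α ∈ R χ, classInner X α = c α := fun α hα => sum_smul_self hS hχ c hα
  have hXX : classInner X X = nχ := by
    rw [hcX X, ← Int.cast_natCast nχ, ← hcsum, Int.cast_sum]
    refine Finset.sum_congr rfl fun α hα => ?_
    rw [hsX α hα]
    rcases hc01 α hα with h | h <;> simp [h]
  have hXR : classInner X (∑ α ∈ R χ, α) = nχ := by
    rw [classInner_sum_right, ← Int.cast_natCast nχ, ← hcsum, Int.cast_sum]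
    exact Finset.sum_congr rfl hsX
  have hRR : classInner (∑ α ∈ R χ, α) (∑ α ∈ R χ, α) = (2 * nχ : ℂ) := by
    rw [sum_R_norm hS hχ subset_rfl subset_rfl, Finset.inter_self, card_R hS hχ hnχ]; push_cast; rfl
  have hXS : ∀ φ ∈ S₁, classInner (τ₁ φ) X = 0 := fun φ hφ => by
    rw [hcX]; exact Finset.sum_eq_zero fun α hα => by rw [hperp φ hφ α hα, mul_zero]
  have hsub1 := sys_sub_conj_mem hS hχ hχ hχc
  have hres := coherent_glue (τ := τ) (τ₁ := τ₁) S₁ {χ, conjFun χ} (T := S) ?_ ?_ ?_ ?_ hS.isometry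
    hτ₁ hag hχ₁S (fun x => if x = χ then X else X') ?_ ?_ ?_ ?_ ?_
  · simpa [Finset.coe_union] using hres
  · intro x hx
    simp only [Finset.coe_union, Finset.coe_insert, Finset.coe_singleton, Set.mem_union,
      Finset.mem_coe, Set.mem_insert_iff, Set.mem_singleton_iff] at hx
    rcases hx with h | rfl | rfl
    exacts [hmemS x h, hχ, hχc]
  · simp [hχ₁, hχ₂]
  · intro φ hφ
    simp only [Finset.mem_union, Finset.mem_insert, Finset.mem_singleton] at hφ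
    rcases hφ with h | rfl | rfl
    exacts [sys_ne_zero hS (hmemS φ h), sys_ne_zero hS hχ, sys_ne_zero hS hχc]
  · intro φ hφ φ' hφ'
    simp only [Finset.mem_union, Finset.mem_insert, Finset.mem_singleton] at hφ hφ'
    refine hS.orthogonal φ ?_ φ' ?_
    · rcases hφ with h | rfl | rfl; exacts [hmemS φ h, hχ, hχc]
    · rcases hφ' with h | rfl | rfl; exacts [hmemS φ' h, hχ, hχc]
  · intro x hx
    have hXgc : IsGeneralizedCharacter G X :=
      isGC_sum _ fun α hα => isGC_zsmul (hS.virtual χ hχ α hα) _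
    split_ifs
    · exact hXgc
    · exact isGC_sub hXgc (isGC_sum _ (hS.virtual χ hχ))
  · intro x hx φ hφ
    have hp := inner_sum_zero (fun α hα => hperp φ hφ α hα)
    split_ifs
    · exact classInner_symm_zero (hXS φ hφ)
    · rw [classInner_sub_left, classInner_symm_zero (hXS φ hφ), classInner_symm_zero hp, sub_zero]
  · intro x hx y hy
    simp only [Finset.mem_insert, Finset.mem_singleton] at hx hy
    have hne := hS.conj_ne χ hχ
    have hRX : classInner (∑ α ∈ R χ, α) X = nχ :=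
      classInner_symm_of_int (n := (nχ : ℤ)) (by rw [hXR]; simp) |>.trans (by simp)
    rcases hx with rfl | rfl <;> rcases hy with rfl | rfl
    · rw [if_pos rfl, hXX, hnχ]
    · rw [if_pos rfl, if_neg hne, classInner_sub_right, hXX, hXR, sub_self,
        hS.orthogonal _ hχ _ hχc hne.symm]
    · rw [if_neg hne, if_pos rfl, classInner_sub_left, hXX, hRX, sub_self,
        hS.orthogonal _ hχc _ hχ hne]
    · rw [if_neg hne, classInner_sub_left, classInner_sub_right, classInner_sub_right, hXX, hXR,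
        hRX, hRR, classInner_conjFun, hnχ, map_natCast]
      ring
  · intro x hx
    simp only [Finset.mem_insert, Finset.mem_singleton] at hx
    refine ⟨a, ?_, ?_⟩
    · rcases hx with rfl | rfl
      · exact ha
      · rw [hdχc, hd₁, ha']; push_cast; rfl
    · rcases hx with rfl | rfl
      · rw [if_pos rfl]; exact hβeq
      · rw [if_neg (hS.conj_ne χ hχ)]
        have : conjFun χ - a • χ₁ = (χ - a • χ₁) + -(χ - conjFun χ) := by abel
        rw [this, hS.isometry.1 _ hmβ _ (zspanOn_neg hsub1), lin_neg hS.isometry hsub1, ← hβ,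
          hS.sum_eq χ hχ, hβeq, hX']
        abel
  · exact ⟨_, sys_sub_conj_mem hS hχ (by simp) (by simp), sys_sub_conj_ne hS hχ⟩

/-- A coherence system of constant degree is coherent. -/
theorem uniform (hS : IsCoherenceSystem S τ R) (hdeg : ∀ φ ∈ S, ∀ ψ ∈ S, φ 1 = ψ 1) :
    IsCoherent S {1}ᶜ τ := by
  classical
  obtain ⟨χ, hχ⟩ := hS.nonempty
  have hfin := sys_finite hS
  have hχc := hS.conj_mem χ hχ
  obtain ⟨nχ, hnχ0, hnχ⟩ := sys_norm hS hχ
  have hm : ∀ φ ∈ S, χ - φ ∈ zspanOn S {1}ᶜ := fun φ hφ => mem_zspanOn_one.2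
    ⟨zspan_sub (subset_zspan hχ) (subset_zspan hφ), by simp [hdeg χ hχ φ hφ]⟩
  -- the projection of `τ (χ - φ)` for `φ` away from the pair
  have hproj : ∀ φ ∈ S, φ ≠ χ → φ ≠ conjFun χ →
      ∃ s t : Finset (G → ℂ), s ⊆ R χ ∧ t ⊆ R φ ∧ s.card = nχ ∧
        τ (χ - φ) = (∑ α ∈ s, α) - ∑ α ∈ t, α := by
    intro φ hφ hne1 hne2
    have hφc := hS.conj_mem φ hφ
    obtain ⟨nφ, hnφ0, hnφ⟩ := sys_norm hS hφ
    have o1 := hS.orthogonal φ hφ χ hχ hne1
    have o2 := hS.orthogonal φ hφ _ hχc hne2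
    have o1' := classInner_symm_zero o1
    have o3 : classInner χ (conjFun φ) = 0 := hS.orthogonal χ hχ _ hφc fun e => hne2 (by
      rw [e, conjFun_conjFun])
    have hgc := hS.isometry.2.2.2 _ (hm φ hφ)
    set β := τ (χ - φ) with hβ
    obtain ⟨c, hc, hcs, -⟩ := exists_subsum hS hχ hgc
    obtain ⟨c', hc', hcs', -⟩ := exists_subsum hS hφ hgc
    have e1 : (∑ α ∈ R χ, c α : ℤ) = (nχ : ℤ) := by
      rw [hS.isometry.2.2.1 _ (hm φ hφ) _ (sys_sub_conj_mem hS hχ hχ hχc)] at hcs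
      simp only [classInner_sub_left, classInner_sub_right, hnχ, o1, o2,
        hS.orthogonal χ hχ _ hχc (hS.conj_ne χ hχ).symm] at hcs
      simp at hcs
      exact_mod_cast hcs.symm
    have e2 : (∑ α ∈ R φ, c' α : ℤ) = -(nφ : ℤ) := by
      rw [hS.isometry.2.2.1 _ (hm φ hφ) _ (sys_sub_conj_mem hS hφ hφ hφc)] at hcs'
      simp only [classInner_sub_left, classInner_sub_right, hnφ, o1', o3,
        hS.orthogonal φ hφ _ hφc (hS.conj_ne φ hφ).symm] at hcs'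
      simp at hcs'
      have hz : ((∑ α ∈ R φ, c' α : ℤ) : ℂ) = ((-(nφ : ℤ) : ℤ) : ℂ) := by
        push_cast; exact hcs'.symm
      exact_mod_cast hz
    have hperp : ∀ α ∈ R φ, ∀ α' ∈ R χ, classInner α α' = 0 := hS.disjoint χ hχ φ hφ o1 o2
    let v : (G → ℂ) ⊕ (G → ℂ) → (G → ℂ) := Sum.elim id id
    have hb := bessel ((R χ).disjSum (R φ)) v (fun _ => 1) (fun _ _ => one_pos) (by
        rintro (α | α) hi
        · simp [v, hS.orthonormal χ hχ α (Finset.inl_mem_disjSum.1 hi) α (Finset.inl_mem_disjSum.1 hi)]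
        · simp [v, hS.orthonormal φ hφ α (Finset.inr_mem_disjSum.1 hi) α (Finset.inr_mem_disjSum.1 hi)])
      (by
        rintro (α | α) hi (α' | α') hj hne
        · simp only [v, Sum.elim_inl, id]
          rw [hS.orthonormal χ hχ α (Finset.inl_mem_disjSum.1 hi) α' (Finset.inl_mem_disjSum.1 hj)]
          exact if_neg fun e => hne (congrArg _ e)
        · exact classInner_symm_zero
            (hperp α' (Finset.inr_mem_disjSum.1 hj) α (Finset.inl_mem_disjSum.1 hi))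
        · exact hperp α (Finset.inr_mem_disjSum.1 hi) α' (Finset.inl_mem_disjSum.1 hj)
        · simp only [v, Sum.elim_inr, id]
          rw [hS.orthonormal φ hφ α (Finset.inr_mem_disjSum.1 hi) α' (Finset.inr_mem_disjSum.1 hj)]
          exact if_neg fun e => hne (congrArg _ e)) β
    simp only [Finset.sum_disjSum, v, Sum.elim_inl, Sum.elim_inr, id, div_one, Complex.ofReal_one]
      at hb
    obtain ⟨hle, hexp⟩ := hb
    have hββ : (classInner β β).re = nχ + nφ := by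
      rw [hβ, hS.isometry.2.2.1 _ (hm φ hφ) _ (hm φ hφ)]
      simp [classInner_sub_left, classInner_sub_right, hnχ, hnφ, o1, o1']
    have s1 : ∑ α ∈ R χ, ‖classInner β α‖ ^ 2 = ((∑ α ∈ R χ, c α ^ 2 : ℤ) : ℝ) := by
      push_cast
      exact Finset.sum_congr rfl fun α hα => by rw [hc α hα, Complex.norm_intCast, sq_abs]
    have s2 : ∑ α ∈ R φ, ‖classInner β α‖ ^ 2 = ((∑ α ∈ R φ, c' α ^ 2 : ℤ) : ℝ) := by
      push_cast
      exact Finset.sum_congr rfl fun α hα => by rw [hc' α hα, Complex.norm_intCast, sq_abs]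
    rw [s1, s2, hββ] at hle hexp
    have l1 : ∀ α ∈ R χ, c α ≤ c α ^ 2 := fun α _ => Int.le_self_sq _
    have l2 : ∀ α ∈ R φ, -c' α ≤ c' α ^ 2 := fun α _ => by
      have := Int.le_self_sq (-c' α); rwa [neg_sq] at this
    have g1 : (nχ : ℤ) ≤ ∑ α ∈ R χ, c α ^ 2 := e1 ▸ Finset.sum_le_sum l1
    have g2 : (nφ : ℤ) ≤ ∑ α ∈ R φ, c' α ^ 2 := by
      have : ∑ α ∈ R φ, -c' α ≤ ∑ α ∈ R φ, c' α ^ 2 := Finset.sum_le_sum l2
      rwa [Finset.sum_neg_distrib, e2, neg_neg] at this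
    have htot : (∑ α ∈ R χ, c α ^ 2) + (∑ α ∈ R φ, c' α ^ 2) ≤ (nχ : ℤ) + nφ := by exact_mod_cast hle
    have q1 : ∀ α ∈ R χ, c α = c α ^ 2 :=
      (Finset.sum_eq_sum_iff_of_le l1).1 (by rw [e1]; omega)
    have q2 : ∀ α ∈ R φ, -c' α = c' α ^ 2 :=
      (Finset.sum_eq_sum_iff_of_le l2).1 (by rw [Finset.sum_neg_distrib, e2]; omega)
    have z1 : ∀ α ∈ R χ, c α = 0 ∨ c α = 1 := fun α hα => by
      have h := q1 α hα
      rcases mul_eq_zero.1 (show c α * (c α - 1) = 0 by linear_combination -h) with h | h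
      · exact Or.inl h
      · exact Or.inr (sub_eq_zero.1 h)
    have z2 : ∀ α ∈ R φ, c' α = 0 ∨ c' α = -1 := fun α hα => by
      have h := q2 α hα
      rcases mul_eq_zero.1 (show c' α * (c' α + 1) = 0 by linear_combination -h) with h | h
      · exact Or.inl h
      · exact Or.inr (eq_neg_of_add_eq_zero_left h)
    refine ⟨(R χ).filter (fun α => c α = 1), (R φ).filter (fun α => c' α = -1),
      Finset.filter_subset _ _, Finset.filter_subset _ _, ?_, ?_⟩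
    · have : ∑ α ∈ R χ, c α = (((R χ).filter (fun α => c α = 1)).card : ℤ) := by
        rw [Finset.card_filter]; push_cast
        exact Finset.sum_congr rfl fun α hα => by rcases z1 α hα with h | h <;> simp [h]
      rw [e1] at this; exact_mod_cast this.symm
    · refine (hexp (by exact_mod_cast add_le_add g1 g2)).trans ?_
      rw [sub_eq_add_neg, Finset.sum_filter, Finset.sum_filter, ← Finset.sum_neg_distrib]
      congr 1 <;> refine Finset.sum_congr rfl fun α hα => ?_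
      · rw [hc α hα]; rcases z1 α hα with h | h <;> simp [h]
      · rw [hc' α hα]; rcases z2 α hα with h | h <;> simp [h]
  -- choose the image of `χ`
  obtain ⟨s₀, hs₀, hs₀c, hkey⟩ : ∃ s₀ : Finset (G → ℂ), s₀ ⊆ R χ ∧ s₀.card = nχ ∧
      ∀ φ ∈ S, φ ≠ χ → classInner (∑ α ∈ s₀, α) (τ (χ - φ)) = nχ := by
    have hconj : ∀ s : Finset (G → ℂ), s ⊆ R χ → s.card = nχ →
        classInner (∑ α ∈ s, α) (τ (χ - conjFun χ)) = nχ := fun s hs hsc => by
      rw [hS.sum_eq χ hχ, sum_R_norm hS hχ hs subset_rfl, Finset.inter_eq_left.2 hs, hsc]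
    by_cases h3 : ∃ φ₀ ∈ S, φ₀ ≠ χ ∧ φ₀ ≠ conjFun χ
    · obtain ⟨φ₀, hφ₀, hne1, hne2⟩ := h3
      obtain ⟨s₀, t₀, hs₀, ht₀, hc₀, he₀⟩ := hproj φ₀ hφ₀ hne1 hne2
      refine ⟨s₀, hs₀, hc₀, fun φ hφ hφχ => ?_⟩
      by_cases hφc : φ = conjFun χ
      · rw [hφc]; exact hconj s₀ hs₀ hc₀
      have hperp : ∀ ψ ∈ S, ψ ≠ χ → ψ ≠ conjFun χ → ∀ t ⊆ R ψ, ∀ s ⊆ R χ,
          classInner (∑ α ∈ s, α) (∑ α ∈ t, α) = 0 := by
        intro ψ hψ h1 h2 t ht s hs
        rw [classInner_sum_left]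
        refine Finset.sum_eq_zero fun α hα => inner_sum_zero fun β hβ => classInner_symm_zero ?_
        exact hS.disjoint χ hχ ψ hψ (hS.orthogonal ψ hψ χ hχ h1) (hS.orthogonal ψ hψ _ hχc h2)
          β (ht hβ) α (hs hα)
      by_cases hφ1 : φ = φ₀
      · subst hφ1
        rw [he₀, classInner_sub_right, hperp φ hφ hne1 hne2 t₀ ht₀ s₀ hs₀,
          sum_R_norm hS hχ hs₀ hs₀, Finset.inter_self, hc₀, sub_zero]
      by_cases hφ2 : φ = conjFun φ₀
      · subst hφ2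
        have hm0 := sys_sub_conj_mem hS hφ₀ hφ₀ (hS.conj_mem φ₀ hφ₀)
        have : χ - conjFun φ₀ = (χ - φ₀) + (φ₀ - conjFun φ₀) := by abel
        rw [this, hS.isometry.1 _ (hm φ₀ hφ₀) _ hm0, classInner_add_right, hS.sum_eq φ₀ hφ₀, he₀,
          classInner_sub_right, hperp φ₀ hφ₀ hne1 hne2 t₀ ht₀ s₀ hs₀,
          hperp φ₀ hφ₀ hne1 hne2 _ subset_rfl s₀ hs₀, sum_R_norm hS hχ hs₀ hs₀, Finset.inter_self,
          hc₀, sub_zero, add_zero]
      obtain ⟨s, t, hs, ht, hcs, he⟩ := hproj φ hφ hφχ hφc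
      have hiso := hS.isometry.2.2.1 _ (hm φ₀ hφ₀) _ (hm φ hφ)
      have p1 := hperp φ hφ hφχ hφc t ht s₀ hs₀
      have p2 := classInner_symm_zero (hperp φ₀ hφ₀ hne1 hne2 t₀ ht₀ s hs)
      have p3 : classInner (∑ α ∈ t₀, α) (∑ α ∈ t, α) = 0 := by
        rw [classInner_sum_left]
        refine Finset.sum_eq_zero fun α hα => inner_sum_zero fun β hβ => ?_
        exact hS.disjoint φ hφ φ₀ hφ₀ (hS.orthogonal φ₀ hφ₀ φ hφ (Ne.symm hφ1))
          (hS.orthogonal φ₀ hφ₀ _ (hS.conj_mem φ hφ) (fun e => hφ2 (by rw [e, conjFun_conjFun])))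
          α (ht₀ hα) β (ht hβ)
      rw [he₀, he, classInner_sub_left, classInner_sub_right, classInner_sub_right, p1, p2, p3] at hiso
      simp only [classInner_sub_left, classInner_sub_right, hnχ,
        hS.orthogonal φ₀ hφ₀ χ hχ hne1, hS.orthogonal χ hχ φ hφ (Ne.symm hφχ),
        hS.orthogonal φ₀ hφ₀ φ hφ (Ne.symm hφ1), sub_zero] at hiso
      rw [he, classInner_sub_right, p1, hiso, sub_zero]
    · push Not at h3
      obtain ⟨s₀, hs₀, hc₀⟩ := Finset.exists_subset_card_eq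
        (s := R χ) (n := nχ) (by rw [card_R hS hχ hnχ]; omega)
      exact ⟨s₀, hs₀, hc₀, fun φ hφ hne => by rw [h3 φ hφ hne]; exact hconj s₀ hs₀ hc₀⟩
  set X := ∑ α ∈ s₀, α with hX
  have hXgc : IsGeneralizedCharacter G X := isGC_sum _ fun α hα => hS.virtual χ hχ α (hs₀ hα)
  have hXX : classInner X X = nχ := by rw [sum_R_norm hS hχ hs₀ hs₀, Finset.inter_self, hs₀c]
  obtain ⟨τ₁, hτ₁, hτ₁v⟩ := exists_extension (G := G) ({χ} : Finset (L → ℂ))
    (fun φ hφ => by rw [Finset.mem_singleton.1 hφ]; exact sys_ne_zero hS hχ)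
    (fun φ hφ ψ hψ hne => absurd ((Finset.mem_singleton.1 hφ).trans (Finset.mem_singleton.1 hψ).symm) hne)
    (fun _ => X) (fun _ _ => hXgc)
    (fun φ hφ ψ hψ => by rw [Finset.mem_singleton.1 hφ, Finset.mem_singleton.1 hψ, hXX, hnχ])
  have hτ₁χ : τ₁ χ = X := hτ₁v χ (Finset.mem_singleton_self χ)
  have hU : (↑(({χ} : Finset (L → ℂ)) ∪ hfin.toFinset.erase χ) : Set (L → ℂ)) = S := by
    ext x
    simp only [Finset.coe_union, Finset.coe_singleton, Set.mem_union, Set.mem_singleton_iff,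
      Finset.coe_erase, Set.Finite.coe_toFinset, Set.mem_sdiff]
    constructor
    · rintro (rfl | ⟨h, -⟩) <;> assumption
    · intro h; by_cases hx : x = χ
      · exact Or.inl hx
      · exact Or.inr ⟨h, hx⟩
  rw [← hU]
  have hmem : ∀ x ∈ ({χ} : Finset (L → ℂ)) ∪ hfin.toFinset.erase χ, x ∈ S := fun x hx =>
    hU ▸ Finset.mem_coe.2 hx
  have hN : ∀ x ∈ hfin.toFinset.erase χ, x ∈ S ∧ x ≠ χ := fun x hx =>
    ⟨(Set.Finite.mem_toFinset hfin).1 (Finset.mem_erase.1 hx).2, (Finset.mem_erase.1 hx).1⟩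
  refine coherent_glue (T := S) (τ₁ := τ₁) {χ} (hfin.toFinset.erase χ) (fun x hx => hmem x hx)
    (by simp) (fun φ hφ => sys_ne_zero hS (hmem φ hφ))
    (fun φ hφ ψ hψ => hS.orthogonal φ (hmem φ hφ) ψ (hmem ψ hψ)) hS.isometry hτ₁ ?_
    (Finset.mem_singleton_self χ) (fun φ => X - τ (χ - φ)) ?_ ?_ ?_ ?_ ?_
  · intro α hα
    obtain ⟨hα1, hα0⟩ := mem_zspanOn_one.1 hα
    obtain ⟨m, rfl⟩ := exists_coeffs_of_mem_zspan hα1
    simp only [Finset.sum_singleton] at hα0 ⊢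
    obtain ⟨d, hd0, hd⟩ := sys_degree hS hχ
    have : m χ = 0 := by
      simp [hd, hd0.ne'] at hα0; exact hα0
    rw [this, zero_smul, lin_zero hτ₁ zspan_zero, lin_zero hS.isometry zspanOn_zero]
  · exact fun x hx => isGC_sub hXgc (hS.isometry.2.2.2 _ (hm x (hN x hx).1))
  · intro x hx φ hφ
    rw [Finset.mem_singleton.1 hφ, hτ₁χ, classInner_sub_left, hXX,
      classInner_symm_of_int (n := (nχ : ℤ)) (by rw [hkey x (hN x hx).1 (hN x hx).2]; simp)]
    simp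
  · intro x hx y hy
    obtain ⟨hxS, hxne⟩ := hN x hx
    obtain ⟨hyS, hyne⟩ := hN y hy
    rw [classInner_sub_left, classInner_sub_right, classInner_sub_right, hXX, hkey y hyS hyne,
      classInner_symm_of_int (n := (nχ : ℤ)) (by rw [hkey x hxS hxne]; simp),
      hS.isometry.2.2.1 _ (hm x hxS) _ (hm y hyS)]
    simp only [classInner_sub_left, classInner_sub_right, hnχ,
      hS.orthogonal x hxS χ hχ hxne, hS.orthogonal χ hχ y hyS (Ne.symm hyne)]
    push_cast; ring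
  · intro x hx
    refine ⟨1, by rw [Int.cast_one, one_mul]; exact hdeg x (hN x hx).1 χ hχ, ?_⟩
    rw [one_smul, one_smul, hτ₁χ, sub_sub_cancel_left]
    rw [← neg_sub χ x, lin_neg hS.isometry (hm x (hN x hx).1)]
  · exact ⟨χ - conjFun χ, hU.symm ▸ sys_sub_conj_mem hS hχ hχ hχc, sys_sub_conj_ne hS hχ⟩

end Cfsg.Agent.Coherence
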