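/-
The sets `inducedIrrAbove K A` of functions induced from non-principal irreducible characters.

* `mem_*`, `conj_mem`, `nonempty`, `exists_linear` (degree `[L:K]`), `degree`
* `norm_mul_sum` : `φ 1 = ⟨φ,φ⟩ * ∑_{θ^L = φ} θ 1`
* `sum_sq_div` : `∑_{φ ∈ S(A)} φ(1)²/⟨φ,φ⟩ = [L:K]([K:A] - 1)`
* `adjoin` : the descent step: adjoining characters of small degree
-/
import Cfsg.Agent.Lib.Coherence.Criteria
import Cfsg.Agent.Lib.Codegree.Basic
import Cfsg.Agent.S1486
import Cfsg.Agent.S1487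

set_option autoImplicit false
set_option linter.style.haveILetI false

namespace Cfsg.Agent.Coherence

open Cfsg Cfsg.Agent.Char
open scoped ComplexConjugate

universe u v
variable {L : Type u} [Group L] [Fintype L] {K : Subgroup L}

theorem inducedSet_le_bot (A : Subgroup L) : inducedIrrAbove K A ⊆ inducedIrrAbove K ⊥ := by
  rintro φ ⟨θ, h1, h2, -, h4⟩
  refine ⟨θ, h1, h2, fun a ha => ?_, h4⟩
  rw [show a = 1 from Subtype.ext (Subgroup.mem_bot.1 ha)]

theorem inducedSet_mono {A B : Subgroup L} (h : B ≤ A) : inducedIrrAbove K A ⊆ inducedIrrAbove K B := by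
  rintro φ ⟨θ, h1, h2, h3, h4⟩
  exact ⟨θ, h1, h2, fun a ha => h3 a (h ha), h4⟩

theorem conjFun_indFun (θ : K → ℂ) :
    conjFun (indFun K θ) = indFun K (fun k => conj (θ k)) := by
  classical
  funext g
  simp only [conjFun, indFun, map_mul, map_inv₀, Complex.conj_natCast, map_sum]
  refine congrArg _ (Finset.sum_congr rfl fun x _ => ?_)
  rw [Char.extendByZero_eq, Char.extendByZero_eq]
  split_ifs <;> simp

theorem inducedSet_conj_mem (A : Subgroup L) {φ : L → ℂ} (h : φ ∈ inducedIrrAbove K A) :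
    conjFun φ ∈ inducedIrrAbove K A := by
  obtain ⟨θ, h1, h2, h3, rfl⟩ := h
  haveI := Fintype.ofFinite K
  refine ⟨_, Char.IsIrrCharacter.conj h1, fun e => h2 ?_, fun a ha => ?_, conjFun_indFun θ⟩
  · funext k
    have := congrArg conj (congrFun e k)
    simpa using this
  · simp [h3 a ha]

theorem inducedSet_degree (A : Subgroup L) {φ : L → ℂ} (h : φ ∈ inducedIrrAbove K A) :
    ∃ θ : IrrCharacter K, φ = indFun K (θ : K → ℂ) ∧ (θ : K → ℂ) ≠ (fun _ => 1) ∧
      (∀ a : K, (a : L) ∈ A → (θ : K → ℂ) a = (θ : K → ℂ) 1) ∧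
      φ 1 = ((K.index * charDegree (θ : K → ℂ) : ℕ) : ℂ) := by
  obtain ⟨θ, h1, h2, h3, rfl⟩ := h
  refine ⟨⟨θ, h1⟩, rfl, h2, h3, ?_⟩
  rw [Char.indFun_one_apply, TwoClassChar.deg_eq h1]
  push_cast; rfl

theorem exists_linear_above (A : Subgroup L) [A.Normal] [K.Normal] (hsolv : Group.IsSolvable K)
    (hAK : A < K) :
    ∃ θ : IrrCharacter K, (θ : K → ℂ) ≠ (fun _ => 1) ∧
      (∀ a : K, (a : L) ∈ A → (θ : K → ℂ) a = (θ : K → ℂ) 1) ∧ (θ : K → ℂ) 1 = 1 := by
  classical
  haveI : (A.subgroupOf K).Normal := inferInstance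
  set N : Subgroup K := A.subgroupOf K ⊔ commutator K with hN
  haveI : N.Normal := by rw [hN]; infer_instance
  have hA : A.subgroupOf K ≠ ⊤ := fun e => hAK.not_ge (Subgroup.subgroupOf_eq_top.1 e)
  have hNtop : N ≠ ⊤ := by
    intro e
    haveI : Group.IsSolvable (K ⧸ A.subgroupOf K) := inferInstance
    haveI : Nontrivial (K ⧸ A.subgroupOf K) := QuotientGroup.nontrivial_iff.2 hA
    apply (Group.IsSolvable.commutator_lt_top_of_nontrivial (K ⧸ A.subgroupOf K)).ne
    have h := congrArg (Subgroup.map (QuotientGroup.mk' (A.subgroupOf K))) e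
    rw [hN, Subgroup.map_sup, Subgroup.map_top_of_surjective _ (QuotientGroup.mk'_surjective _),
      QuotientGroup.map_mk'_self, bot_sup_eq, commutator_def, Subgroup.map_commutator,
      Subgroup.map_top_of_surjective _ (QuotientGroup.mk'_surjective _), ← commutator_def] at h
    exact h
  haveI : Nontrivial (K ⧸ N) := QuotientGroup.nontrivial_iff.2 hNtop
  have hab : ∀ a b : K ⧸ N, a * b = b * a := by
    intro a b
    induction a using QuotientGroup.induction_on with
    | H a =>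
      induction b using QuotientGroup.induction_on with
      | H b =>
        rw [← QuotientGroup.mk_mul, ← QuotientGroup.mk_mul, QuotientGroup.eq_iff_div_mem,
          show a * b / (b * a) = a * b * a⁻¹ * b⁻¹ by rw [div_eq_mul_inv, mul_inv_rev]; group]
        exact le_sup_right (b := commutator K)
          (Subgroup.commutator_mem_commutator (Subgroup.mem_top a) (Subgroup.mem_top b))
  haveI := Fintype.ofFinite (K ⧸ N)
  haveI : Nontrivial (IrrCharacter (K ⧸ N)) := by
    rw [← Finite.one_lt_card_iff_nontrivial, Char.card_irr_eq_card_conjClasses,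
      Char.card_conjClasses_of_comm hab]
    exact Finite.one_lt_card
  obtain ⟨ψ, hψ⟩ := exists_ne (⟨fun _ => 1, Char.isIrrCharacter_one⟩ : IrrCharacter (K ⧸ N))
  refine ⟨Codegree.inflate N ψ, fun e => hψ (Subtype.ext ?_), fun a ha => ?_,
    Char.apply_one_eq_one_of_comm hab ψ⟩
  · funext q
    obtain ⟨g, rfl⟩ := QuotientGroup.mk_surjective q
    exact congrFun e g
  · rw [Codegree.inflate_apply, Codegree.inflate_apply]
    rw [(QuotientGroup.eq_one_iff (N := N) a).2 (le_sup_left (a := A.subgroupOf K) ha)]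
    rfl

theorem exists_linear_mem (A : Subgroup L) [A.Normal] [K.Normal] (hsolv : Group.IsSolvable K)
    (hAK : A < K) : ∃ φ ∈ inducedIrrAbove K A, φ 1 = (K.index : ℂ) := by
  obtain ⟨θ, h1, h2, h3⟩ := exists_linear_above A hsolv hAK
  exact ⟨_, ⟨θ, θ.2, h1, h2, rfl⟩, by rw [Char.indFun_one_apply, h3, mul_one]⟩

theorem eq_of_indFun_eq [K.Normal] (A : Subgroup L) [A.Normal] (hAK : A ≤ K) {θ θ' : K → ℂ}
    (hθ : IsIrrCharacter K θ) (hθ' : IsIrrCharacter K θ') (he : indFun K θ' = indFun K θ)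
    (hne : θ ≠ fun _ => 1) (hA : ∀ a : K, (a : L) ∈ A → θ a = θ 1) :
    θ' ≠ (fun _ => 1) ∧ ∀ a : K, (a : L) ∈ A → θ' a = θ' 1 := by
  have key : ∀ (B : Subgroup L) [B.Normal], B ≤ K →
      ((∀ a : K, (a : L) ∈ B → θ a = θ 1) ↔ ∀ a : K, (a : L) ∈ B → θ' a = θ' 1) := by
    intro B _ hB
    rw [S1487.result B K hB θ hθ, S1487.result B K hB θ' hθ', he]
  refine ⟨fun e => hne ?_, (key A hAK).1 hA⟩
  subst e
  have h := (key K le_rfl).2 (fun _ _ => rfl)
  have hK1 : ∀ a : K, θ a = θ 1 := fun a => h a a.2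
  by_contra hne'
  haveI := Fintype.ofFinite K
  have := Char.classInner_irr_of_ne hθ Char.isIrrCharacter_one (fun e => hne' (e.trans rfl))
  rw [Cfsg.classInner, Finset.sum_congr rfl (g := fun _ : K => θ 1) (fun a _ => by simp [hK1 a]),
    Finset.sum_const, Finset.card_univ, nsmul_eq_mul, Nat.card_eq_fintype_card, ← mul_assoc,
    inv_mul_cancel₀ (Nat.cast_ne_zero.2 Fintype.card_ne_zero), one_mul] at this
  exact Char.IsIrrCharacter.apply_one_ne_zero hθ this

open Classical in
theorem norm_mul_sum [K.Normal] [Fintype (IrrCharacter K)] {θ : K → ℂ} (hθ : IsIrrCharacter K θ) :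
    indFun K θ 1 = classInner (indFun K θ) (indFun K θ) *
      ∑ ψ ∈ Finset.univ.filter (fun ψ : IrrCharacter K => indFun K (ψ : K → ℂ) = indFun K θ),
        (ψ : K → ℂ) 1 := by
  haveI := Fintype.ofFinite K
  have hc := Char.indFun_isClassFunction K θ
  have hres : IsCharacter K (fun k : K => indFun K θ k) :=
    Char.IsCharacter.restrict (Char.IsCharacter.indFun (H := K) (Char.IsIrrCharacter.isCharacter hθ)) K
  have h := congrFun (Char.classFunction_eq_sum (Char.IsCharacter.isClassFunction hres)) 1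
  simp only [OneMemClass.coe_one, Finset.sum_apply, Pi.smul_apply, smul_eq_mul] at h
  rw [h, Finset.mul_sum, Finset.sum_filter]
  refine Finset.sum_congr rfl fun ψ _ => ?_
  rw [← Char.frobenius_reciprocity' K (ψ : K → ℂ) hc]
  split_ifs with he
  · rw [he]
  · have h86 := S1486.result K θ (ψ : K → ℂ) hθ ψ.2
    rw [← Char.classInner_conj_symm, h86.2 fun hg => he (h86.1 hg), map_zero, zero_mul]

open Classical in
theorem sum_sq_div [K.Normal] (A : Subgroup L) [A.Normal] (hAK : A ≤ K) (s : Finset (L → ℂ))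
    (hs : (↑s : Set (L → ℂ)) = inducedIrrAbove K A) :
    ∑ φ ∈ s, φ 1 ^ 2 / classInner φ φ = (K.index : ℂ) * ((A.relIndex K : ℂ) - 1) := by
  haveI := Fintype.ofFinite (IrrCharacter K)
  set T := Finset.univ.filter fun θ : IrrCharacter K =>
    (θ : K → ℂ) ≠ (fun _ => 1) ∧ ∀ a : K, (a : L) ∈ A → (θ : K → ℂ) a = (θ : K → ℂ) 1 with hT
  have himg : T.image (fun θ : IrrCharacter K => indFun K (θ : K → ℂ)) = s := by
    apply Finset.coe_injective
    rw [hs, Finset.coe_image]
    ext φ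
    simp only [hT, Finset.coe_filter, Finset.mem_univ, true_and, Set.mem_image, Set.mem_ofPred_eq]
    constructor
    · rintro ⟨θ, ⟨h1, h2⟩, rfl⟩; exact ⟨θ, θ.2, h1, h2, rfl⟩
    · rintro ⟨θ, h0, h1, h2, rfl⟩; exact ⟨⟨θ, h0⟩, ⟨h1, h2⟩, rfl⟩
  have hstep : ∑ φ ∈ s, φ 1 ^ 2 / classInner φ φ = (K.index : ℂ) * ∑ θ ∈ T, (θ : K → ℂ) 1 ^ 2 := by
    rw [Finset.mul_sum, ← Finset.sum_fiberwise_of_maps_to (t := s)
      (g := fun θ : IrrCharacter K => indFun K (θ : K → ℂ))
      (fun θ hθ => himg ▸ Finset.mem_image_of_mem _ hθ)]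
    refine Finset.sum_congr rfl fun φ hφ => ?_
    rw [← himg, Finset.mem_image] at hφ
    obtain ⟨θ, hθ, rfl⟩ := hφ
    rw [hT, Finset.mem_filter] at hθ
    have hfib : T.filter (fun ψ : IrrCharacter K => indFun K (ψ : K → ℂ) = indFun K (θ : K → ℂ)) =
        Finset.univ.filter (fun ψ : IrrCharacter K => indFun K (ψ : K → ℂ) = indFun K (θ : K → ℂ)) := by
      ext ψ
      simp only [hT, Finset.mem_filter, Finset.mem_univ, true_and]
      exact ⟨fun h => h.2, fun h => ⟨eq_of_indFun_eq A hAK θ.2 ψ.2 h hθ.2.1 hθ.2.2, h⟩⟩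
    rw [hfib]
    have hn : classInner (indFun K (θ : K → ℂ)) (indFun K (θ : K → ℂ)) ≠ 0 := by
      intro e
      have h := congrFun (Char.classInner_self_eq_zero.1 e) 1
      rw [Char.indFun_one_apply, Pi.zero_apply, mul_eq_zero] at h
      exact h.elim (Nat.cast_ne_zero.2 K.index_ne_zero_of_finite)
        (Char.IsIrrCharacter.apply_one_ne_zero θ.2)
    rw [sq, div_eq_iff hn]
    nth_rw 2 [norm_mul_sum θ.2]
    rw [Finset.mul_sum, Finset.mul_sum, Finset.sum_mul]
    refine Finset.sum_congr rfl fun ψ hψ => ?_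
    have hv : indFun K (ψ : K → ℂ) 1 = indFun K (θ : K → ℂ) 1 :=
      congrFun (Finset.mem_filter.1 hψ).2 1
    rw [← hv, Char.indFun_one_apply]
    ring
  rw [hstep]
  congr 1
  haveI : (A.subgroupOf K).Normal := inferInstance
  have h := Codegree.index_sum (G := K) (A.subgroupOf K)
  let one : IrrCharacter K := ⟨fun _ => 1, Char.isIrrCharacter_one⟩
  have hone : one ∈ Finset.univ.filter
      (fun χ : IrrCharacter K => A.subgroupOf K ≤ Codegree.kerSub χ) := by
    simp only [Finset.mem_filter, Finset.mem_univ, true_and]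
    intro k _; rfl
  rw [← Finset.add_sum_erase _ _ hone] at h
  have he : (Finset.univ.filter (fun χ : IrrCharacter K => A.subgroupOf K ≤ Codegree.kerSub χ)).erase one
      = T := by
    ext θ
    simp only [hT, Finset.mem_erase, Finset.mem_filter, Finset.mem_univ, true_and]
    refine and_congr ⟨fun h e => h (Subtype.ext e), fun h e => h (congrArg Subtype.val e)⟩ Iff.rfl
  rw [he, show ((one : K → ℂ) 1) = 1 from rfl, one_pow] at h
  rw [Subgroup.relIndex]
  linear_combination h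

variable {G : Type v} [Group G] [Fintype G] {τ : (L → ℂ) → (G → ℂ)}
  {R : (L → ℂ) → Finset (G → ℂ)}

/-- Adjoin to a coherent `S(A)` any conjugation-closed set of characters of small degree. -/
theorem adjoin [K.Normal] (hsolv : Group.IsSolvable K)
    (hS : IsCoherenceSystem (inducedIrrAbove K ⊥) τ R) (A : Subgroup L) [A.Normal] (hAK : A < K)
    (hA : IsCoherent (inducedIrrAbove K A) {1}ᶜ τ) {T : Set (L → ℂ)} (hT : T ⊆ inducedIrrAbove K ⊥)
    (hne : T.Nonempty) (hTc : ∀ φ ∈ T, conjFun φ ∈ T)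
    (hsmall : ∀ φ ∈ T, φ ∉ inducedIrrAbove K A → 2 * (φ 1).re < (A.relIndex K : ℝ) - 1) :
    IsCoherent T {1}ᶜ τ := by
  classical
  have hfin := sys_finite hS
  have hAs : (inducedIrrAbove K A).Finite := hfin.subset (inducedSet_le_bot A)
  have hTs : T.Finite := hfin.subset hT
  obtain ⟨φ₁, hφ₁, hφ₁d⟩ := exists_linear_mem A hsolv hAK
  have hpos : ∀ φ ∈ inducedIrrAbove K ⊥, 0 ≤ (φ 1).re ^ 2 / (classInner φ φ).re := fun φ hφ =>
    div_nonneg (sq_nonneg _) (Char.classInner_self_re_nonneg φ)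
  have hsum : ∑ φ ∈ hAs.toFinset, (φ 1).re ^ 2 / (classInner φ φ).re =
      (K.index : ℝ) * ((A.relIndex K : ℝ) - 1) := by
    apply Complex.ofReal_injective
    push_cast
    rw [← sum_sq_div A hAK.le hAs.toFinset (Set.Finite.coe_toFinset hAs)]
    refine Finset.sum_congr rfl fun φ hφ => ?_
    have hφS := inducedSet_le_bot A ((Set.Finite.mem_toFinset hAs).1 hφ)
    obtain ⟨d, -, hd⟩ := sys_degree hS hφS
    obtain ⟨n, -, hn⟩ := sys_norm hS hφS
    rw [hd, hn]; simp
  suffices h : ∀ s : Finset (L → ℂ), ↑s ⊆ T → ∃ U : Finset (L → ℂ),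
      inducedIrrAbove K A ⊆ ↑U ∧ ↑s ⊆ (↑U : Set (L → ℂ)) ∧ ↑U ⊆ inducedIrrAbove K ⊥ ∧
      (∀ φ ∈ U, conjFun φ ∈ U) ∧ IsCoherent (↑U : Set (L → ℂ)) {1}ᶜ τ by
    obtain ⟨U, -, hTU, hUS, -, hU⟩ := h hTs.toFinset (by simp)
    exact isCoherent_subset hS hUS (by simpa using hTU) hne hTc hU
  intro s
  induction s using Finset.induction_on with
  | empty =>
    intro _
    refine ⟨hAs.toFinset, by simp, by simp, by simpa using inducedSet_le_bot A, ?_, by simpa using hA⟩
    intro φ hφ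
    rw [Set.Finite.mem_toFinset] at hφ ⊢
    exact inducedSet_conj_mem A hφ
  | insert χ s hχs ih =>
    intro hsT
    rw [Finset.coe_insert, Set.insert_subset_iff] at hsT
    obtain ⟨U, hAU, hsU, hUS, hUc, hU⟩ := ih hsT.2
    by_cases hχU : χ ∈ U
    · exact ⟨U, hAU, by rw [Finset.coe_insert, Set.insert_subset_iff]; exact ⟨hχU, hsU⟩, hUS, hUc, hU⟩
    have hχS := hT hsT.1
    obtain ⟨θ, -, -, -, hd⟩ := inducedSet_degree ⊥ hχS
    have hφ₁U : φ₁ ∈ U := hAU hφ₁
    have hχA : χ ∉ inducedIrrAbove K A := fun h => hχU (hAU h)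
    have hlt := hsmall χ hsT.1 hχA
    have hkey : (2 * (χ 1).re * (φ₁ 1).re : ℝ) <
        ∑ φ ∈ U, (φ 1).re ^ 2 / (classInner φ φ).re := by
      refine lt_of_lt_of_le ?_ (Finset.sum_le_sum_of_subset_of_nonneg (s := hAs.toFinset)
        (fun φ hφ => hAU ((Set.Finite.mem_toFinset hAs).1 hφ)) fun φ hφ _ => hpos φ (hUS hφ))
      rw [hsum, hφ₁d, Complex.natCast_re]
      have hidx : (0 : ℝ) < K.index := Nat.cast_pos.2 (Nat.pos_of_ne_zero K.index_ne_zero_of_finite)
      nlinarith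
    have := extend_pair hS U hUS hUc hU hχS hχU hφ₁U (a := (charDegree (θ : K → ℂ) : ℤ))
      (by rw [hd, hφ₁d]; push_cast; ring) hkey
    refine ⟨U ∪ {χ, conjFun χ}, ?_, ?_, ?_, ?_, ?_⟩
    · exact hAU.trans (by simp [Set.subset_def]; tauto)
    · intro x hx
      simp only [Finset.coe_insert, Set.mem_insert_iff] at hx
      simp only [Finset.coe_union, Finset.coe_insert, Finset.coe_singleton, Set.mem_union,
        Set.mem_insert_iff]
      rcases hx with rfl | hx
      · exact Or.inr (Or.inl rfl)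
      · exact Or.inl (hsU hx)
    · intro x hx
      simp only [Finset.coe_union, Finset.coe_insert, Finset.coe_singleton, Set.mem_union,
        Set.mem_insert_iff, Set.mem_singleton_iff] at hx
      rcases hx with h | rfl | rfl
      exacts [hUS h, hχS, inducedSet_conj_mem ⊥ hχS]
    · intro φ hφ
      simp only [Finset.mem_union, Finset.mem_insert, Finset.mem_singleton] at hφ ⊢
      rcases hφ with h | rfl | rfl
      · exact Or.inl (hUc φ h)
      · exact Or.inr (Or.inr rfl)
      · exact Or.inr (Or.inl (conjFun_conjFun χ))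
    · simpa using this

end Cfsg.Agent.Coherence
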