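/-
Coherence for sets of irreducible characters, with no assumption on complex conjugation.

* `irr_uniform` : at least two members, all of the same degree
* `irr_extend`  : adjoining one character, `2a < ∑ x φ ^ 2`
* `irr_adjoin`  : adjoining finitely many characters of small degree
-/
import Cfsg.Agent.Lib.Coherence.Criteria
import Cfsg.Agent.Lib.Coherence.Virtual

set_option autoImplicit false
set_option linter.style.haveILetI false

namespace Cfsg.Agent.Coherence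

open Cfsg Cfsg.Agent.Char
open scoped ComplexConjugate

universe u v
variable {L : Type u} [Group L] [Fintype L] {G : Type v} [Group G] [Fintype G]
  {τ : (L → ℂ) → (G → ℂ)} {S : Set (L → ℂ)}

theorem irr_int_degree {χ : L → ℂ} (h : IsIrrCharacter L χ) : ∃ d : ℤ, 0 < d ∧ χ 1 = (d : ℂ) := by
  obtain ⟨n, hn0, hn⟩ := IsIrrCharacter.exists_degree h
  exact ⟨n, by exact_mod_cast hn0, by rw [hn]; push_cast; rfl⟩

theorem irr_ne_zero {χ : L → ℂ} (h : IsIrrCharacter L χ) : χ ≠ 0 :=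
  fun e => IsIrrCharacter.apply_one_ne_zero h (by rw [e]; rfl)

theorem signed_apply_one_ne_zero {f : G → ℂ} (h : IsSignedIrr G f) : f 1 ≠ 0 := by
  rcases h with h | h
  · exact IsIrrCharacter.apply_one_ne_zero h
  · intro e; exact IsIrrCharacter.apply_one_ne_zero h (by simp [e])

/-- A constituent with inner product one is the positive one. -/
theorem eq_of_inner_diff {μ ν ρ : G → ℂ} (hμ : IsIrrCharacter G μ) (hν : IsIrrCharacter G ν)
    (hρ : IsIrrCharacter G ρ) (h : classInner (μ - ν) ρ = 1) : μ = ρ := by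
  classical
  rw [classInner_sub_left, classInner_irr hμ hρ, classInner_irr hν hρ] at h
  by_contra hne
  rw [if_neg hne] at h
  split_ifs at h <;> norm_num at h

theorem eq_of_inner_diff' {μ ν ρ : G → ℂ} (hμ : IsIrrCharacter G μ) (hν : IsIrrCharacter G ν)
    (hρ : IsIrrCharacter G ρ) (h : classInner (μ - ν) ρ = -1) : ν = ρ :=
  eq_of_inner_diff hν hμ hρ (by rw [← neg_sub μ ν, classInner_neg_left, h, neg_neg])

/-- Irreducible characters of one degree: at least two of them are coherent. -/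
theorem irr_uniform (hirr : ∀ φ ∈ S, IsIrrCharacter L φ)
    (hτ : IsLinearIsometryOn (zspanOn S {1}ᶜ) τ) (hτ1 : ∀ α ∈ zspanOn S {1}ᶜ, τ α 1 = 0)
    (U : Finset (L → ℂ)) (hUS : ↑U ⊆ S) (htwo : ∃ χ ∈ U, ∃ ψ ∈ U, χ ≠ ψ)
    (hdeg : ∀ φ ∈ U, ∀ ψ ∈ U, φ 1 = ψ 1) : IsCoherent (↑U : Set (L → ℂ)) {1}ᶜ τ := by
  classical
  obtain ⟨χ, hχ, χ', hχ', hne'⟩ := htwo
  have hS : ∀ φ ∈ U, φ ∈ S := fun φ hφ => hUS hφ
  have hm : ∀ φ ∈ U, χ - φ ∈ zspanOn S {1}ᶜ := fun φ hφ => mem_zspanOn_one.2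
    ⟨zspan_sub (subset_zspan (hS χ hχ)) (subset_zspan (hS φ hφ)), by simp [hdeg χ hχ φ hφ]⟩
  have hip : ∀ φ ∈ U, ∀ ψ ∈ U, φ ≠ χ → ψ ≠ χ → classInner (τ (χ - φ)) (τ (χ - ψ)) =
      1 + (if φ = ψ then 1 else 0) := by
    intro φ hφ ψ hψ h1 h2
    rw [hτ.2.2.1 _ (hm φ hφ) _ (hm ψ hψ)]
    simp only [classInner_sub_left, classInner_sub_right,
      classInner_irr_self (hirr χ (hS χ hχ)), classInner_irr (hirr χ (hS χ hχ)) (hirr ψ (hS ψ hψ)),
      classInner_irr (hirr φ (hS φ hφ)) (hirr χ (hS χ hχ)),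
      classInner_irr (hirr φ (hS φ hφ)) (hirr ψ (hS ψ hψ)), if_neg h1, if_neg h2.symm]
    ring
  have hdec : ∀ φ ∈ U, φ ≠ χ → ∃ μ ν : G → ℂ, IsIrrCharacter G μ ∧ IsIrrCharacter G ν ∧ μ ≠ ν ∧
      τ (χ - φ) = μ - ν := fun φ hφ h1 =>
    gc_norm_two (hτ.2.2.2 _ (hm φ hφ)) (by rw [hip φ hφ φ hφ h1 h1, if_pos rfl]; norm_num)
      (hτ1 _ (hm φ hφ))
  obtain ⟨μ, ν, hμ, hν, hμν, hv₁⟩ := hdec χ' hχ' hne'.symm
  -- for the other differences exactly one of the two constituents survives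
  have hone : ∀ φ ∈ U, φ ≠ χ → φ ≠ χ' →
      (classInner (τ (χ - φ)) μ = 1 ∧ classInner (τ (χ - φ)) ν = 0) ∨
      (classInner (τ (χ - φ)) μ = 0 ∧ classInner (τ (χ - φ)) ν = -1) := by
    intro φ hφ h1 h2
    obtain ⟨a, b, ha, hb, hne, hab⟩ := hdec φ hφ h1
    have h := hip φ hφ χ' hχ' h1 hne'.symm
    rw [if_neg h2, add_zero, hv₁, classInner_sub_right, hab] at h
    rw [hab]
    simp only [classInner_sub_left, classInner_irr ha hμ, classInner_irr hb hμ,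
      classInner_irr ha hν, classInner_irr hb hν] at h ⊢
    by_cases e1 : a = μ
    · left
      have e2 : b ≠ μ := fun e => hne (e1.trans e.symm)
      have e3 : a ≠ ν := fun e => hμν (e1.symm.trans e)
      rw [if_pos e1, if_neg e2, if_neg e3] at h ⊢
      split_ifs at h ⊢ with h5
      · norm_num at h
      · norm_num
    · right
      by_cases e4 : b = ν
      · have e2 : b ≠ μ := fun e => hμν (e.symm.trans e4)
        have e3 : a ≠ ν := fun e => hne (e.trans e4.symm)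
        rw [if_neg e1, if_neg e2, if_neg e3, if_pos e4] at ⊢
        norm_num
      · rw [if_neg e1, if_neg e4] at h
        split_ifs at h <;> norm_num at h
  obtain ⟨X, hX, hXv⟩ : ∃ X : G → ℂ, IsSignedIrr G X ∧
      ∀ φ ∈ U, φ ≠ χ → classInner (τ (χ - φ)) X = 1 := by
    have hv₁μ : classInner (τ (χ - χ')) μ = 1 := by
      rw [hv₁, classInner_sub_left, classInner_irr_self hμ, classInner_irr_of_ne hν hμ hμν.symm]
      ring
    have hv₁ν : classInner (τ (χ - χ')) ν = -1 := by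
      rw [hv₁, classInner_sub_left, classInner_irr_self hν, classInner_irr_of_ne hμ hν hμν]
      ring
    by_cases hall : ∀ φ ∈ U, φ ≠ χ → classInner (τ (χ - φ)) μ = 1
    · exact ⟨μ, Or.inl hμ, hall⟩
    push Not at hall
    obtain ⟨i, hi, hi1, hi2⟩ := hall
    refine ⟨-ν, Or.inr (by simpa using hν), fun j hj hj1 => ?_⟩
    rw [classInner_neg_right]
    by_cases hj2 : j = χ'
    · rw [hj2, hv₁ν, neg_neg]
    rcases hone j hj hj1 hj2 with ⟨hjμ, hjν⟩ | ⟨-, hjν⟩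
    · exfalso
      have hiχ : i ≠ χ' := fun e => hi2 (e ▸ hv₁μ)
      obtain ⟨-, hiν⟩ := (hone i hi hi1 hiχ).resolve_left fun h => hi2 h.1
      obtain ⟨a, b, ha, hb, -, hab⟩ := hdec i hi hi1
      obtain ⟨a', b', ha', hb', -, hab'⟩ := hdec j hj hj1
      rw [hab] at hiν
      rw [hab'] at hjμ hjν
      obtain rfl := eq_of_inner_diff' ha hb hν hiν
      obtain rfl := eq_of_inner_diff ha' hb' hμ hjμ
      have hij : i ≠ j := fun e => hi2 (by rw [e, hab', hjμ])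
      have h := hip i hi j hj hi1 hj1
      rw [if_neg hij, add_zero, hab, hab'] at h
      simp only [classInner_sub_left, classInner_sub_right, classInner_irr ha ha',
        classInner_irr ha hb', classInner_irr hb ha', classInner_irr hb hb'] at h
      rw [if_neg (Ne.symm hμν)] at h
      have h3 : a ≠ a' := fun e => hi2 (by
        rw [hab, classInner_sub_left, e, classInner_irr_self ha', classInner_irr_of_ne hb ha'
          (Ne.symm hμν)]
        ring)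
      have h4 : b ≠ b' := fun e => by
        rw [classInner_sub_left, classInner_irr ha' hb, classInner_irr hb' hb, if_neg hμν,
          if_pos e.symm] at hjν
        norm_num at hjν
      rw [if_neg h3, if_neg h4] at h
      split_ifs at h <;> norm_num at h
    · rw [hjν, neg_neg]
  have hXX : classInner X X = 1 := (classInner_signed hX hX).1
  have hXgc : IsGeneralizedCharacter G X := isGC_signed hX
  obtain ⟨τ₁, hτ₁, hτ₁v⟩ := exists_extension (G := G) ({χ} : Finset (L → ℂ))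
    (fun φ hφ => by rw [Finset.mem_singleton.1 hφ]; exact irr_ne_zero (hirr χ (hS χ hχ)))
    (fun φ hφ ψ hψ hne => absurd ((Finset.mem_singleton.1 hφ).trans (Finset.mem_singleton.1 hψ).symm) hne)
    (fun _ => X) (fun _ _ => hXgc)
    (fun φ hφ ψ hψ => by
      rw [Finset.mem_singleton.1 hφ, Finset.mem_singleton.1 hψ, hXX,
        classInner_irr_self (hirr χ (hS χ hχ))])
  have hτ₁χ : τ₁ χ = X := hτ₁v χ (Finset.mem_singleton_self χ)
  have hU : ({χ} : Finset (L → ℂ)) ∪ U.erase χ = U := by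
    rw [← Finset.insert_eq, Finset.insert_erase hχ]
  rw [← hU]
  have hN : ∀ x ∈ U.erase χ, x ∈ U ∧ x ≠ χ := fun x hx =>
    ⟨(Finset.mem_erase.1 hx).2, (Finset.mem_erase.1 hx).1⟩
  have hmem : ∀ x ∈ ({χ} : Finset (L → ℂ)) ∪ U.erase χ, x ∈ S := fun x hx => hS x (hU ▸ hx)
  refine coherent_glue (T := S) (τ₁ := τ₁) {χ} (U.erase χ) (fun x hx => hmem x hx) (by simp)
    (fun φ hφ => irr_ne_zero (hirr φ (hmem φ hφ)))
    (fun φ hφ ψ hψ => classInner_irr_of_ne (hirr φ (hmem φ hφ)) (hirr ψ (hmem ψ hψ)))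
    hτ hτ₁ ?_ (Finset.mem_singleton_self χ) (fun φ => X - τ (χ - φ)) ?_ ?_ ?_ ?_ ?_
  · intro α hα
    obtain ⟨hα1, hα0⟩ := mem_zspanOn_one.1 hα
    obtain ⟨m, rfl⟩ := exists_coeffs_of_mem_zspan hα1
    simp only [Finset.sum_singleton] at hα0 ⊢
    have : m χ = 0 := by
      simpa [IsIrrCharacter.apply_one_ne_zero (hirr χ (hS χ hχ))] using hα0
    rw [this, zero_smul, lin_zero hτ₁ zspan_zero, lin_zero hτ zspanOn_zero]
  · exact fun x hx => isGC_sub hXgc (hτ.2.2.2 _ (hm x (hN x hx).1))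
  · intro x hx φ hφ
    rw [Finset.mem_singleton.1 hφ, hτ₁χ, classInner_sub_left, hXX, hXv x (hN x hx).1 (hN x hx).2,
      sub_self]
  · intro x hx y hy
    obtain ⟨hxU, hxne⟩ := hN x hx
    obtain ⟨hyU, hyne⟩ := hN y hy
    rw [classInner_sub_left, classInner_sub_right, classInner_sub_right, hXX,
      classInner_symm_of_int (n := (1 : ℤ)) (by rw [hXv y hyU hyne]; simp),
      hXv x hxU hxne, hip x hxU y hyU hxne hyne, classInner_irr (hirr x (hS x hxU)) (hirr y (hS y hyU))]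
    push_cast; ring
  · intro x hx
    refine ⟨1, by rw [Int.cast_one, one_mul]; exact hdeg x (hN x hx).1 χ hχ, ?_⟩
    rw [one_smul, one_smul, hτ₁χ, sub_sub_cancel_left]
    rw [← neg_sub χ x, lin_neg hτ (hm x (hN x hx).1)]
  · refine ⟨χ - χ', mem_zspanOn_one.2 ⟨zspan_sub (subset_zspan (Finset.mem_coe.2 (hU.symm ▸ hχ)))
      (subset_zspan (Finset.mem_coe.2 (hU.symm ▸ hχ'))), by simp [hdeg χ hχ χ' hχ']⟩, ?_⟩
    exact fun e => hne' (sub_eq_zero.1 e)

/-- Adjoining one irreducible character to a coherent set. -/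
theorem irr_extend [DecidableEq (L → ℂ)] (hirr : ∀ φ ∈ S, IsIrrCharacter L φ)
    (hτ : IsLinearIsometryOn (zspanOn S {1}ᶜ) τ) (hτ1 : ∀ α ∈ zspanOn S {1}ᶜ, τ α 1 = 0)
    (U : Finset (L → ℂ)) (hUS : ↑U ⊆ S) (hcoh : IsCoherent (↑U : Set (L → ℂ)) {1}ᶜ τ)
    {χ : L → ℂ} (hχ : χ ∈ S) (hχU : χ ∉ U) {χ₁ : L → ℂ} (hχ₁ : χ₁ ∈ U) (x : (L → ℂ) → ℤ)
    (hx : ∀ φ ∈ U, φ 1 = (x φ : ℂ) * χ₁ 1) {a : ℤ} (ha : χ 1 = (a : ℂ) * χ₁ 1)
    (hineq : 2 * a < ∑ φ ∈ U, x φ ^ 2) :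
    IsCoherent (↑(U ∪ {χ}) : Set (L → ℂ)) {1}ᶜ τ := by
  obtain ⟨-, τ₁, hτ₁, hag⟩ := hcoh
  have hS : ∀ φ ∈ U, φ ∈ S := fun φ hφ => hUS hφ
  obtain ⟨n₁, hn₁0, hn₁⟩ := irr_int_degree (hirr χ₁ (hS χ₁ hχ₁))
  obtain ⟨dχ, hdχ0, hdχ⟩ := irr_int_degree (hirr χ hχ)
  have hn₁c : (n₁ : ℂ) ≠ 0 := Int.cast_ne_zero.2 hn₁0.ne'
  have ha' : dχ = a * n₁ := by rw [hdχ, hn₁] at ha; exact_mod_cast ha
  have ha0 : 0 < a := by
    rw [ha'] at hdχ0
    exact pos_of_mul_pos_left hdχ0 hn₁0.le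
  have hx1 : x χ₁ = 1 := by
    have := hx χ₁ hχ₁
    rw [hn₁] at this
    have : ((x χ₁ : ℤ) : ℂ) = ((1 : ℤ) : ℂ) := mul_right_cancel₀ hn₁c (by rw [← this]; simp)
    exact_mod_cast this
  set β := τ (χ - a • χ₁) with hβ
  have hmβ : χ - a • χ₁ ∈ zspanOn S {1}ᶜ := mem_zspanOn_one.2
    ⟨zspan_sub (subset_zspan hχ) (zspan_zsmul a (subset_zspan (hS _ hχ₁))), by
      simp [hdχ, hn₁, ha']⟩
  have hχφ : ∀ φ ∈ U, classInner χ φ = 0 := fun φ hφ =>
    classInner_irr_of_ne (hirr χ hχ) (hirr φ (hS φ hφ)) fun e => hχU (e ▸ hφ)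
  obtain ⟨e, he⟩ := classInner_gc_int (hτ.2.2.2 _ hmβ) (hτ₁.2.2.2 _ (subset_zspan hχ₁))
  rw [← hβ] at he
  set b : ℤ := e + a with hb
  have hval : ∀ φ ∈ U, classInner β (τ₁ φ) = ((x φ * b - a * (if φ = χ₁ then 1 else 0) : ℤ) : ℂ) := by
    intro φ hφ
    have h := inner_rel (a := a) hUS hτ hτ₁ hag hχ hχ₁ hφ hdχ hn₁
      (dφ := x φ * n₁) (by rw [hx φ hφ, hn₁]; push_cast; rfl) ha' (hχφ _ hχ₁) (hχφ φ hφ)
    rw [← hβ, he, classInner_irr_self (hirr _ (hS _ hχ₁)),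
      classInner_irr (hirr _ (hS _ hχ₁)) (hirr φ (hS φ hφ))] at h
    refine mul_left_cancel₀ hn₁c ?_
    by_cases hφ1 : φ = χ₁
    · rw [hφ1, hx1] at h ⊢
      rw [if_pos rfl, hb, he]; push_cast; ring
    · rw [if_neg (Ne.symm hφ1)] at h
      rw [if_neg hφ1, hb]
      push_cast at h ⊢
      linear_combination h
  have hnorm : ∀ φ ∈ U, classInner (τ₁ φ) (τ₁ φ) = ((1 : ℝ) : ℂ) := fun φ hφ => by
    rw [hτ₁.2.2.1 _ (subset_zspan hφ) _ (subset_zspan hφ), classInner_irr_self (hirr φ (hS φ hφ))]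
    simp
  obtain ⟨hle, hexp⟩ := bessel U τ₁ (fun _ => 1) (fun _ _ => one_pos) hnorm
    (fun φ hφ ψ hψ hne => by
      rw [hτ₁.2.2.1 _ (subset_zspan hφ) _ (subset_zspan hψ)]
      exact classInner_irr_of_ne (hirr φ (hS φ hφ)) (hirr ψ (hS ψ hψ)) hne) β
  simp only [div_one, Complex.ofReal_one] at hle hexp
  set D := ∑ φ ∈ U, x φ ^ 2 with hD
  have hsum : ∑ φ ∈ U, ‖classInner β (τ₁ φ)‖ ^ 2 = ((b ^ 2 * D - 2 * a * b + a ^ 2 : ℤ) : ℝ) := by
    have : b ^ 2 * D - 2 * a * b + a ^ 2 =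
        ∑ φ ∈ U, (x φ * b - a * (if φ = χ₁ then 1 else 0)) ^ 2 := by
      rw [Finset.sum_congr rfl (g := fun φ => b ^ 2 * x φ ^ 2 +
        (if φ = χ₁ then a ^ 2 - 2 * a * b else 0)) ?_]
      · rw [Finset.sum_add_distrib, ← Finset.mul_sum, ← hD, Finset.sum_ite_eq', if_pos hχ₁]; ring
      · intro φ hφ
        split_ifs with h
        · rw [h, hx1]; ring
        · ring
    rw [this, Int.cast_sum]
    refine Finset.sum_congr rfl fun φ hφ => ?_
    rw [hval φ hφ, Complex.norm_intCast, sq_abs, Int.cast_pow]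
  have hββ : (classInner β β).re = ((1 + a ^ 2 : ℤ) : ℝ) := by
    rw [hβ, hτ.2.2.1 _ hmβ _ hmβ]
    simp only [classInner_sub_left, classInner_sub_right, classInner_zsmul_left,
      classInner_zsmul_right, hχφ _ hχ₁, classInner_symm_zero (hχφ _ hχ₁),
      classInner_irr_self (hirr χ hχ), classInner_irr_self (hirr _ (hS _ hχ₁))]
    simp; ring
  rw [hsum, hββ] at hle hexp
  have hle' : b ^ 2 * D - 2 * a * b + a ^ 2 ≤ 1 + a ^ 2 := by exact_mod_cast hle
  have hb01 : b = 0 ∨ (b = 1 ∧ D = 2 * a + 1) := by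
    by_cases h0 : b = 0
    · exact Or.inl h0
    right
    have hmul : b ^ 2 * (2 * a + 1) ≤ b ^ 2 * D :=
      mul_le_mul_of_nonneg_left (by omega) (sq_nonneg b)
    rcases lt_or_gt_of_ne h0 with h | h
    · exfalso; nlinarith [mul_pos ha0 (neg_pos.2 h), mul_nonneg ha0.le (sq_nonneg b)]
    · have hb1 : b = 1 := by
        by_contra h1
        have h2 : 2 ≤ b := by omega
        nlinarith [mul_le_mul_of_nonneg_left h2 (mul_nonneg ha0.le h.le)]
      refine ⟨hb1, ?_⟩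
      rw [hb1] at hle'
      omega
  have hb0 : b = 0 := by
    refine hb01.resolve_right ?_
    rintro ⟨hb1, hD'⟩
    have hβeq := congrFun (hexp (by rw [hb1, hD']; push_cast; nlinarith)) 1
    rw [show β 1 = 0 from hτ1 _ hmβ, Finset.sum_apply] at hβeq
    have hτφ : ∀ φ ∈ U, τ₁ φ 1 = (x φ : ℂ) * τ₁ χ₁ 1 := by
      intro φ hφ
      have h1 : φ - x φ • χ₁ ∈ zspanOn (↑U : Set (L → ℂ)) {1}ᶜ := mem_zspanOn_one.2
        ⟨zspan_sub (subset_zspan hφ) (zspan_zsmul _ (subset_zspan hχ₁)), by simp [hx φ hφ]⟩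
      have h2 := hτ1 _ (zspanOn_mono hUS h1)
      rw [← hag _ h1, sub_eq_add_neg, hτ₁.1 _ (subset_zspan hφ) _
        (zspan_neg (zspan_zsmul _ (subset_zspan hχ₁))),
        lin_neg hτ₁ (zspan_zsmul _ (subset_zspan hχ₁)), hτ₁.2.1 _ (subset_zspan hχ₁)] at h2
      simpa [sub_eq_zero, ← sub_eq_add_neg] using h2
    have hc : τ₁ χ₁ 1 ≠ 0 := signed_apply_one_ne_zero (gc_norm_one
      (hτ₁.2.2.2 _ (subset_zspan hχ₁)) (by simpa using hnorm _ hχ₁))
    have h : ((D - a : ℤ) : ℂ) * τ₁ χ₁ 1 = 0 := by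
      rw [hβeq, hD]
      push_cast
      rw [sub_mul, Finset.sum_mul]
      rw [Finset.sum_congr rfl (g := fun φ => (x φ : ℂ) ^ 2 * τ₁ χ₁ 1 -
        (if φ = χ₁ then (a : ℂ) * τ₁ χ₁ 1 else 0)) (s₁ := U)
        (f := fun φ => (classInner β (τ₁ φ) • τ₁ φ) 1) ?_]
      · rw [Finset.sum_sub_distrib, Finset.sum_ite_eq', if_pos hχ₁]
      · intro φ hφ
        rw [Pi.smul_apply, smul_eq_mul, hval φ hφ, hτφ φ hφ, hb1]
        push_cast
        split_ifs with h
        · rw [h, hx1]; push_cast; ring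
        · ring
    rcases mul_eq_zero.1 h with h | h
    · have : D - a = 0 := by exact_mod_cast h
      omega
    · exact hc h
  have hea : e = -a := by omega
  set f := β + a • τ₁ χ₁ with hf
  refine coherent_glue (T := S) (τ₁ := τ₁) U {χ} (by simpa [Set.insert_subset_iff] using ⟨hχ, hUS⟩)
    (Finset.disjoint_singleton_right.2 hχU) ?_ ?_ hτ hτ₁ hag hχ₁ (fun _ => f) ?_ ?_ ?_ ?_ ?_
  · intro φ hφ
    rcases Finset.mem_union.1 hφ with h | h
    · exact irr_ne_zero (hirr φ (hS φ h))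
    · rw [Finset.mem_singleton.1 h]; exact irr_ne_zero (hirr χ hχ)
  · intro φ hφ ψ hψ hne
    have hmem : ∀ z ∈ U ∪ {χ}, z ∈ S := fun z hz => (Finset.mem_union.1 hz).elim (hS z)
      fun h => Finset.mem_singleton.1 h ▸ hχ
    exact classInner_irr_of_ne (hirr φ (hmem φ hφ)) (hirr ψ (hmem ψ hψ)) hne
  · exact fun _ _ => isGC_add (hτ.2.2.2 _ hmβ) (isGC_zsmul (hτ₁.2.2.2 _ (subset_zspan hχ₁)) a)
  · intro _ _ φ hφ
    rw [hf, classInner_add_left, classInner_zsmul_left, hval φ hφ, hb0,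
      hτ₁.2.2.1 _ (subset_zspan hχ₁) _ (subset_zspan hφ),
      classInner_irr (hirr _ (hS _ hχ₁)) (hirr φ (hS φ hφ))]
    by_cases h : φ = χ₁
    · rw [if_pos h, if_pos h.symm]; push_cast; ring
    · rw [if_neg h, if_neg (Ne.symm h)]; push_cast; ring
  · intro y hy z hz
    rw [Finset.mem_singleton.1 hy, Finset.mem_singleton.1 hz, classInner_irr_self (hirr χ hχ), hf]
    simp only [classInner_add_left, classInner_add_right, classInner_zsmul_left,
      classInner_zsmul_right, classInner_symm_of_int he, he]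
    rw [hnorm _ hχ₁, hβ, hτ.2.2.1 _ hmβ _ hmβ]
    simp only [classInner_sub_left, classInner_sub_right, classInner_zsmul_left,
      classInner_zsmul_right, hχφ _ hχ₁, classInner_symm_zero (hχφ _ hχ₁),
      classInner_irr_self (hirr χ hχ), classInner_irr_self (hirr _ (hS _ hχ₁)), hea]
    push_cast; ring
  · intro y hy
    rw [Finset.mem_singleton.1 hy]
    exact ⟨a, ha, by rw [← hβ, hf, add_sub_cancel_right]⟩
  · refine ⟨χ - a • χ₁, mem_zspanOn_one.2 ⟨zspan_sub (subset_zspan (by simp))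
      (zspan_zsmul a (subset_zspan (by simp [hχ₁]))), by simp [ha]⟩, fun h => ?_⟩
    have := congrArg (fun α => classInner α χ) h
    simp only [classInner_sub_left, classInner_zsmul_left, classInner_irr_self (hirr χ hχ),
      classInner_symm_zero (hχφ _ hχ₁), classInner_zero_left] at this
    norm_num at this

/-- Adjoining a finite set of characters whose degree ratios are small. -/
theorem irr_adjoin (hirr : ∀ φ ∈ S, IsIrrCharacter L φ)
    (hτ : IsLinearIsometryOn (zspanOn S {1}ᶜ) τ) (hτ1 : ∀ α ∈ zspanOn S {1}ᶜ, τ α 1 = 0)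
    (U T : Finset (L → ℂ)) (hUS : ↑U ⊆ S) (hTS : ↑T ⊆ S) (hUT : U ⊆ T)
    (hcoh : IsCoherent (↑U : Set (L → ℂ)) {1}ᶜ τ) {χ₁ : L → ℂ} (hχ₁ : χ₁ ∈ U)
    (x : (L → ℂ) → ℤ) (hx : ∀ φ ∈ T, φ 1 = (x φ : ℂ) * χ₁ 1)
    (hineq : ∀ φ ∈ T, φ ∉ U → 2 * x φ < ∑ ψ ∈ U, x ψ ^ 2) :
    IsCoherent (↑T : Set (L → ℂ)) {1}ᶜ τ := by
  classical
  suffices h : ∀ s ⊆ T, ∃ V : Finset (L → ℂ), U ⊆ V ∧ s ⊆ V ∧ V ⊆ T ∧
      IsCoherent (↑V : Set (L → ℂ)) {1}ᶜ τ by
    obtain ⟨V, -, h1, h2, hV⟩ := h T subset_rfl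
    rwa [Finset.Subset.antisymm h1 h2]
  intro s
  induction s using Finset.induction_on with
  | empty => exact fun _ => ⟨U, subset_rfl, Finset.empty_subset _, hUT, hcoh⟩
  | insert χ s hχs ih =>
    intro hsub
    obtain ⟨hχT, hsT⟩ := Finset.insert_subset_iff.1 hsub
    obtain ⟨V, hUV, hsV, hVT, hV⟩ := ih hsT
    by_cases hχV : χ ∈ V
    · exact ⟨V, hUV, Finset.insert_subset hχV hsV, hVT, hV⟩
    refine ⟨V ∪ {χ}, hUV.trans Finset.subset_union_left, ?_,
      Finset.union_subset hVT (Finset.singleton_subset_iff.2 hχT),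
      irr_extend hirr hτ hτ1 V (fun φ hφ => hTS (hVT hφ)) hV (hTS hχT) hχV (hUV hχ₁) x
        (fun φ hφ => hx φ (hVT hφ)) (hx χ hχT) ?_⟩
    · exact Finset.insert_subset (Finset.mem_union_right _ (Finset.mem_singleton_self χ))
        (hsV.trans Finset.subset_union_left)
    · exact lt_of_lt_of_le (hineq χ hχT fun h => hχV (hUV h))
        (Finset.sum_le_sum_of_subset_of_nonneg hUV fun i _ _ => sq_nonneg _)

end Cfsg.Agent.Coherence
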