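/-
Characters of a Frobenius group `N` with kernel `H` (stated by centralisers) and Feit's coherence
theorem for the characters not containing the kernel in their kernel.

* `FrobK.hall`, `FrobK.nilpotent`, `FrobK.frob_mod`, `FrobK.dvd_relIndex_sub_one`
* `FrobK.irr_induced`, `FrobK.set_eq`, `FrobK.degree`, `FrobK.sum_sq`
* `FrobK.linear_coherent`, `FrobK.feit`
-/
import Cfsg.Agent.Lib.Coherence.Irr
import Cfsg.Agent.Lib.Coherence.InducedSet
import Cfsg.Agent.Lib.CliffordChar.Basic
import Cfsg.Agent.Lib.FPF.Kernel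
import Cfsg.Agent.Lib.Cores.Fitting
import Cfsg.Agent.S1536
import Cfsg.Agent.S1520
import Cfsg.Agent.S1521
import Cfsg.Agent.S4845

set_option autoImplicit false
set_option linter.style.haveILetI false
set_option linter.unusedSectionVars false

namespace Cfsg.Agent.Coherence

open Cfsg Cfsg.Agent.Char
open scoped commutatorElement ComplexConjugate

universe u v
variable {N : Type u} [Group N] [Fintype N] {H : Subgroup N}

/-- `N` is a Frobenius group with kernel `H` (or `H` is trivial or everything). -/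
def FrobK (H : Subgroup N) : Prop := ∀ h ∈ H, h ≠ 1 → Subgroup.centralizer ({h} : Set N) ≤ H

namespace FrobK

theorem mem_of_commute (hC : FrobK H) {h x : N} (hh : h ∈ H) (h1 : h ≠ 1) (e : x * h = h * x) :
    x ∈ H := hC h hh h1 (Subgroup.mem_centralizer_singleton_iff.2 e)

theorem hall (hC : FrobK H) [H.Normal] : Nat.Coprime (Nat.card H) H.index := by
  refine Nat.coprime_of_dvd fun p hp hpH hpI => ?_
  haveI := Fact.mk hp
  obtain ⟨h, hh⟩ := exists_prime_orderOf_dvd_card' (G := H) p hpH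
  have hho : orderOf (h : N) = p := by rw [Subgroup.orderOf_coe]; exact hh
  obtain ⟨P, hP⟩ : ∃ P : Sylow p N, Subgroup.zpowers (h : N) ≤ P :=
    (IsPGroup.of_card (n := 1) (by rw [Nat.card_zpowers, hho, pow_one])).exists_le_sylow
  have hne : H.subgroupOf (P : Subgroup N) ≠ ⊥ := by
    intro e
    have h1 : (⟨(h : N), hP (Subgroup.mem_zpowers _)⟩ : (P : Subgroup N)) ∈
        H.subgroupOf (P : Subgroup N) := h.2
    rw [e, Subgroup.mem_bot] at h1
    exact hp.ne_one (by rw [← hho, show (h : N) = 1 from congrArg Subtype.val h1, orderOf_one])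
  obtain ⟨z, hzH, hzc, hz⟩ := PGroup.exists_central_order_p P.2 hne
  have hz1 : (z : N) ≠ 1 := fun e => hp.ne_one (by
    rw [← hz, ← Subgroup.orderOf_coe, e, orderOf_one])
  have hle : (P : Subgroup N) ≤ H := fun x hx => mem_of_commute hC hzH hz1
    (congrArg Subtype.val (Subgroup.mem_center_iff.1 hzc ⟨x, hx⟩))
  exact P.not_dvd_index (hpI.trans (Subgroup.index_dvd_of_le hle))

variable [H.Normal]

theorem exists_outside (hC : FrobK H) (hH : H ≠ ⊤) :
    ∃ y : N, (orderOf y).Prime ∧ y ∉ H := by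
  obtain ⟨q, hq, hqd⟩ := Nat.exists_prime_and_dvd (fun e => hH (Subgroup.index_eq_one.1 e))
  haveI := Fact.mk hq
  obtain ⟨y, hy⟩ := exists_prime_orderOf_dvd_card' (G := N) q (hqd.trans H.index_dvd_card)
  refine ⟨y, hy.symm ▸ hq, fun hyH => hq.ne_one ?_⟩
  exact Nat.eq_one_of_dvd_coprimes hC.hall (hy ▸ Subgroup.orderOf_dvd_natCard _ hyH) hqd

theorem nilpotent (hC : FrobK H) (hH : H ≠ ⊤) : Group.IsNilpotent H := by
  obtain ⟨y, hy, hyH⟩ := hC.exists_outside hH
  refine FPF.isNilpotent_of_fpf_subgroup (A := Subgroup.zpowers y) ?_ ?_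
  · rw [Ne, Subgroup.zpowers_eq_bot]
    intro e
    rw [e, orderOf_one] at hy
    exact Nat.not_prime_one hy
  · intro a ha ha1 k hk e
    by_contra hk1
    refine hyH ?_
    haveI := Fact.mk hy
    have : Subgroup.zpowers a = Subgroup.zpowers y := by
      refine Subgroup.eq_of_le_of_card_ge (Subgroup.zpowers_le.2 ha) ?_
      rw [Nat.card_zpowers, Nat.card_zpowers]
      have h2 : orderOf a ∣ orderOf y := Nat.card_zpowers y ▸ Subgroup.orderOf_dvd_natCard _ ha
      rcases (Nat.dvd_prime hy).1 h2 with h | h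
      · exact absurd (orderOf_eq_one_iff.1 h) ha1
      · exact h.ge
    exact (Subgroup.zpowers_le.2 (mem_of_commute hC hk hk1 e)) (this ▸ Subgroup.mem_zpowers y)

/-- Fixed point freeness modulo a normal subgroup. -/
theorem frob_mod (hC : FrobK H) (A : Subgroup N) [A.Normal] (hA : A ≤ H) :
    ∀ h ∈ H, h ∉ A → ∀ x : N, x * h * x⁻¹ * h⁻¹ ∈ A → x ∈ H := by
  intro h hh hhA x hx
  by_contra hxH
  let f := QuotientGroup.mk' A
  let T : Subgroup N := (Subgroup.centralizer ({f h} : Set (N ⧸ A))).comap f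
  have hxT : x ∈ T := by
    show f x ∈ Subgroup.centralizer ({f h} : Set (N ⧸ A))
    rw [Subgroup.mem_centralizer_singleton_iff]
    have := (QuotientGroup.eq_one_iff _).2 hx
    rw [← QuotientGroup.mk'_apply, map_mul, map_mul, map_mul, map_inv, map_inv, mul_inv_eq_one,
      mul_inv_eq_iff_eq_mul] at this
    exact this
  -- a power of `x` of prime order outside `H`
  obtain ⟨y, hyx, hyq, hyH⟩ : ∃ y ∈ Subgroup.zpowers x,
      (orderOf y).Coprime (Nat.card H) ∧ y ∉ H := by
    obtain ⟨q, hq, hqd⟩ : ∃ q, q.Prime ∧ q ∣ orderOf (QuotientGroup.mk' H x) :=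
      Nat.exists_prime_and_dvd fun e => hxH ((QuotientGroup.eq_one_iff x).1 (orderOf_eq_one_iff.1 e))
    have hqx : q ∣ orderOf x := hqd.trans (orderOf_map_dvd _ _)
    have hqI : q ∣ H.index := hqd.trans (by
      rw [Subgroup.index_eq_card]; exact orderOf_dvd_natCard _)
    have hord : orderOf (x ^ (orderOf x / q)) = q := orderOf_pow_orderOf_div (orderOf_pos x).ne' hqx
    have hcop : q.Coprime (Nat.card H) := (hC.hall.coprime_dvd_right hqI).symm
    refine ⟨_, Subgroup.npow_mem_zpowers x _, hord.symm ▸ hcop, fun hy => hq.ne_one ?_⟩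
    exact Nat.eq_one_of_dvd_coprimes hcop dvd_rfl (hord ▸ Subgroup.orderOf_dvd_natCard _ hy)
  have hnorm : Subgroup.zpowers y ≤ Subgroup.normalizer (H : Set N) := by
    rw [Subgroup.normalizer_eq_top]; exact le_top
  have hnA : Subgroup.zpowers y ≤ Subgroup.normalizer (A : Set N) := by
    rw [Subgroup.normalizer_eq_top]; exact le_top
  obtain ⟨c, ⟨hcH, hcy⟩, hcA⟩ := Coprime.exists_mem_centralizer_of_coset hnorm
    (by rwa [Nat.card_zpowers]) (Or.inl inferInstance) hA hnA hh (fun a ha => by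
      have h1 : a ∈ T := (Subgroup.zpowers_le.2 hxT) ((Subgroup.zpowers_le.2 hyx) ha)
      have h2 := Subgroup.mem_centralizer_singleton_iff.1 h1
      rw [← QuotientGroup.eq_one_iff, ← QuotientGroup.mk'_apply, map_mul, map_mul, map_mul, map_inv,
        map_inv, mul_inv_eq_one, mul_inv_eq_iff_eq_mul]
      exact h2)
  have hc1 : c = 1 := by
    by_contra hc
    exact hyH (mem_of_commute hC hcH hc
      ((Subgroup.mem_centralizer_iff.1 hcy) y (Subgroup.mem_zpowers y)))
  rw [hc1, one_mul] at hcA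
  exact hhA (by simpa using A.inv_mem hcA)

/-- `[B : A] ≡ 1` modulo `[N : H]` when `H` centralises `B / A`. -/
theorem dvd_relIndex_sub_one (hC : FrobK H) (A B : Subgroup N) [A.Normal] [B.Normal] (hAB : A ≤ B)
    (hBH : B ≤ H) (hcent : ∀ h ∈ H, ∀ b ∈ B, h * b * h⁻¹ * b⁻¹ ∈ A) :
    H.index ∣ A.relIndex B - 1 := by
  classical
  let f := QuotientGroup.mk' A
  have hcardN : Nat.card (B.map f) = A.relIndex B := by
    rw [← Subgroup.relIndex_ker, QuotientGroup.ker_mk']
  let X := {a : N ⧸ A // a ∈ B.map f ∧ a ≠ 1}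
  haveI : (B.map f).Normal := Subgroup.Normal.map inferInstance f (QuotientGroup.mk'_surjective A)
  letI : MulAction N X :=
    { smul := fun g a => ⟨f g * a.1 * (f g)⁻¹,
        (inferInstance : (B.map f).Normal).conj_mem _ a.2.1 _,
        fun e => a.2.2 (by simpa using e)⟩
      one_smul := fun a => Subtype.ext (show f 1 * a.1 * (f 1)⁻¹ = a.1 by simp)
      mul_smul := fun g h a => Subtype.ext
        (show f (g * h) * a.1 * (f (g * h))⁻¹ = f g * (f h * a.1 * (f h)⁻¹) * (f g)⁻¹ by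
          rw [map_mul, mul_inv_rev]; simp only [mul_assoc]) }
  have hstab : ∀ a : X, MulAction.stabilizer N a = H := by
    rintro ⟨a, ⟨k, hk, rfl⟩, ha⟩
    have hk1 : k ∉ A := fun h => ha ((QuotientGroup.eq_one_iff k).2 h)
    ext x
    rw [MulAction.mem_stabilizer_iff, Subtype.ext_iff]
    show f x * f k * (f x)⁻¹ = f k ↔ _
    rw [← mul_inv_eq_one, ← map_mul, ← map_inv, ← map_mul, ← map_inv, ← map_mul]
    show ((x * k * x⁻¹ * k⁻¹ : N) : N ⧸ A) = 1 ↔ _
    rw [QuotientGroup.eq_one_iff]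
    exact ⟨hC.frob_mod A (hAB.trans hBH) k (hBH hk) hk1 x, fun hx => hcent x hx k hk⟩
  have hX : Nat.card X = A.relIndex B - 1 := by
    haveI := Fintype.ofFinite (N ⧸ A)
    rw [← hcardN, Nat.card_eq_fintype_card, Nat.card_eq_fintype_card, Fintype.card_subtype,
      Fintype.card_subtype, ← Finset.card_erase_of_mem (a := (1 : N ⧸ A))
        (Finset.mem_filter.2 ⟨Finset.mem_univ _, one_mem (B.map f)⟩)]
    congr 1
    ext a
    simp [and_comm]
  rw [← hX]
  exact S1521.dvd_card_of_orbits (Γ := N) fun a => by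
    rw [Nat.card_coe_set_eq, ← MulAction.index_stabilizer, hstab a]

theorem irr_induced (hC : FrobK H) (θ : IrrCharacter H) (hθ : (θ : H → ℂ) ≠ fun _ => 1) :
    IsIrrCharacter N (indFun H (θ : H → ℂ)) := by
  classical
  haveI := Fintype.ofFinite H
  rw [isIrrCharacter_iff_norm_one (IsCharacter.indFun (H := H) (IsIrrCharacter.isCharacter θ.2)),
    frobenius_reciprocity H _ (indFun_isClassFunction H _),
    show (fun k : H => indFun H (θ : H → ℂ) (k : N)) =
      (Nat.card H : ℂ)⁻¹ • CliffordChar.orbitSum H (θ : H → ℂ) from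
      funext fun k => CliffordChar.indFun_coe H (θ : H → ℂ) k,
    classInner_smul_right, ← classInner_conj_symm (CliffordChar.orbitSum H (θ : H → ℂ)),
    CliffordChar.classInner_orbitSum H θ.2 θ.2]
  have hfix : (Finset.univ.filter fun x : N => CliffordChar.conjFun H x (θ : H → ℂ) = θ) =
      Finset.univ.filter (fun x : N => x ∈ H) := by
    ext x
    simp only [Finset.mem_filter, Finset.mem_univ, true_and]
    constructor
    · intro hx
      obtain ⟨h, hh, h1, e⟩ := (S1536.result H hC.hall x⁻¹).1 ⟨θ, θ.2, hθ, by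
        funext k
        conv_rhs => rw [← hx]
        rw [CliffordChar.conjFun_apply]
        refine congrArg (θ : H → ℂ) (Subtype.ext ?_)
        simp⟩
      exact inv_mem_iff.1 (mem_of_commute hC hh h1 e)
    · intro hx
      funext k
      rw [CliffordChar.conjFun_apply]
      have := IsIrrCharacter.isClassFunction θ.2 k (⟨x, hx⟩⁻¹ : H)
      rw [← this]
      refine congrArg (θ : H → ℂ) (Subtype.ext ?_)
      simp
  rw [hfix]
  have hcard : (Finset.univ.filter (fun x : N => x ∈ H)).card = Nat.card H := by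
    rw [Nat.card_eq_fintype_card, Fintype.card_subtype]
  rw [hcard]
  simp

theorem irr_of_mem (hC : FrobK H) {φ : N → ℂ} (hφ : φ ∈ inducedIrrAbove H ⊥) :
    IsIrrCharacter N φ := by
  obtain ⟨θ, h1, h2, -, rfl⟩ := hφ
  exact hC.irr_induced ⟨θ, h1⟩ h2

theorem set_eq (hC : FrobK H) :
    {χ : N → ℂ | IsIrrCharacter N χ ∧ ∃ h ∈ H, χ h ≠ χ 1} = inducedIrrAbove H ⊥ := by
  classical
  haveI := Fintype.ofFinite H
  haveI := Fintype.ofFinite (IrrCharacter H)
  ext χ
  constructor
  · rintro ⟨hχi, z, hz, hne⟩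
    have hres : IsCharacter H (fun k : H => χ k) :=
      IsCharacter.restrict (IsIrrCharacter.isCharacter hχi) H
    obtain ⟨m, hm, hmφ⟩ := IsCharacter.decompose hres
    obtain ⟨θ, hθm, hθ⟩ : ∃ θ : IrrCharacter H, m θ ≠ 0 ∧
        (θ : H → ℂ) ⟨z, hz⟩ ≠ (θ : H → ℂ) 1 := by
      by_contra hno
      push Not at hno
      apply hne
      have e1 := congrFun hm ⟨z, hz⟩
      have e2 := congrFun hm 1
      simp only [OneMemClass.coe_one, Finset.sum_apply, Pi.smul_apply, smul_eq_mul] at e1 e2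
      rw [e1, e2]
      refine Finset.sum_congr rfl fun θ _ => ?_
      by_cases h : m θ = 0
      · simp [h]
      · rw [hno θ h]
    have hθ1 : (θ : H → ℂ) ≠ fun _ => 1 := fun e => hθ (by rw [e])
    have hi : classInner χ (indFun H (θ : H → ℂ)) ≠ 0 := by
      rw [frobenius_reciprocity' H _ (IsIrrCharacter.isClassFunction hχi), hmφ]
      exact Nat.cast_ne_zero.2 hθm
    refine ⟨θ, θ.2, hθ1, fun a ha => ?_, ?_⟩
    · rw [show a = 1 from Subtype.ext (Subgroup.mem_bot.1 ha)]
    · by_contra hne'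
      exact hi (classInner_irr_of_ne hχi (hC.irr_induced θ hθ1) hne')
  · intro hφ
    refine ⟨hC.irr_of_mem hφ, ?_⟩
    obtain ⟨θ, h1, h2, -, rfl⟩ := hφ
    by_contra hno
    push Not at hno
    have hk := (S1487.result H H le_rfl θ h1).2 hno
    haveI := Fintype.ofFinite H
    have := classInner_irr_of_ne h1 isIrrCharacter_one h2
    rw [Cfsg.classInner, Finset.sum_congr rfl (g := fun _ : H => θ 1)
      (fun a _ => by rw [hk a a.2]; simp), Finset.sum_const, Finset.card_univ, nsmul_eq_mul,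
      Nat.card_eq_fintype_card, ← mul_assoc, inv_mul_cancel₀ (Nat.cast_ne_zero.2 Fintype.card_ne_zero),
      one_mul] at this
    exact IsIrrCharacter.apply_one_ne_zero h1 this

/-- `[N : H] * ∑ x φ ^ 2 = [H : A] - 1` over `S(A)`, where `φ 1 = x φ * [N : H]`. -/
theorem sum_sq (hC : FrobK H) (A : Subgroup N) [A.Normal] (hA : A ≤ H) (s : Finset (N → ℂ))
    (hs : (↑s : Set (N → ℂ)) = inducedIrrAbove H A) (x : (N → ℂ) → ℤ)
    (hx : ∀ φ ∈ s, φ 1 = (x φ : ℂ) * (H.index : ℂ)) :
    (H.index : ℤ) * ∑ φ ∈ s, x φ ^ 2 = (A.relIndex H : ℤ) - 1 := by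
  have h := sum_sq_div A hA s hs
  rw [Finset.sum_congr rfl (g := fun φ => ((x φ : ℂ) ^ 2 * (H.index : ℂ)) * (H.index : ℂ)) ?_,
    ← Finset.sum_mul, mul_comm (H.index : ℂ) _] at h
  · have h2 := mul_right_cancel₀ (Nat.cast_ne_zero.2 Subgroup.index_ne_zero_of_finite) h
    rw [← Finset.sum_mul, mul_comm _ (H.index : ℂ)] at h2
    exact_mod_cast h2
  · intro φ hφ
    have hmem : φ ∈ inducedIrrAbove H ⊥ := inducedSet_le_bot A (hs ▸ Finset.mem_coe.2 hφ)
    rw [classInner_irr_self (hC.irr_of_mem hmem), hx φ hφ]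
    ring

theorem degree (hC : FrobK H) {φ : N → ℂ} (hφ : φ ∈ inducedIrrAbove H ⊥) :
    ∃ x : ℤ, 0 < x ∧ φ 1 = (x : ℂ) * (H.index : ℂ) := by
  obtain ⟨θ, -, -, -, hd⟩ := inducedSet_degree ⊥ hφ
  refine ⟨charDegree (θ : H → ℂ), by exact_mod_cast TwoClassChar.deg_pos θ.2, ?_⟩
  rw [hd]; push_cast; ring

theorem degree_of_commutator_le {A : Subgroup N} (hA : ⁅H, H⁆ ≤ A) {φ : N → ℂ}
    (hφ : φ ∈ inducedIrrAbove H A) : φ 1 = (H.index : ℂ) := by
  obtain ⟨θ, rfl, -, hker, -⟩ := inducedSet_degree A hφ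
  have hk : commutator H ≤ Codegree.kerSub θ := by
    refine le_trans (fun k hk => ?_) (show A.subgroupOf H ≤ Codegree.kerSub θ from fun a ha => hker a ha)
    refine hA ?_
    rw [← Subgroup.map_subtype_commutator]
    exact Subgroup.mem_map_of_mem _ hk
  obtain ⟨ψ, hψ⟩ := Codegree.exists_quot θ (commutator H) hk
  have h1 := apply_one_eq_one_of_comm (fun a b => mul_comm (G := Abelianization H) a b) ψ
  replace h1 : (θ : H → ℂ) 1 = 1 := (hψ 1).symm.trans h1
  rw [indFun_one_apply, h1, mul_one]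

variable {G : Type v} [Group G] [Fintype G] {τ : (N → ℂ) → (G → ℂ)}

/-- The characters of degree `[N : H]` are coherent when there are at least two. -/
theorem linear_coherent (hC : FrobK H)
    (hτ : IsLinearIsometryOn (zspanOn (inducedIrrAbove H ⊥) {1}ᶜ) τ)
    (hτ1 : ∀ α ∈ zspanOn (inducedIrrAbove H ⊥) {1}ᶜ, τ α 1 = 0) (A : Subgroup N) [A.Normal]
    (hA : A ≤ H) (hab : ⁅H, H⁆ ≤ A) (h2 : 2 * H.index < A.relIndex H) :
    IsCoherent (inducedIrrAbove H A) {1}ᶜ τ := by
  classical
  have hirr : ∀ φ ∈ inducedIrrAbove H ⊥, IsIrrCharacter N φ := fun φ => hC.irr_of_mem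
  haveI := Fintype.ofFinite (IrrCharacter H)
  have hfin : (inducedIrrAbove H A).Finite := by
    refine Set.Finite.subset (Set.finite_range fun θ : IrrCharacter H => indFun H (θ : H → ℂ)) ?_
    rintro φ ⟨θ, h1, -, -, rfl⟩
    exact ⟨⟨θ, h1⟩, rfl⟩
  set s := hfin.toFinset
  have hs : (↑s : Set (N → ℂ)) = inducedIrrAbove H A := Set.Finite.coe_toFinset hfin
  have hsum := hC.sum_sq A hA s hs (fun _ => 1) (fun φ hφ => by
    rw [degree_of_commutator_le (A := A) (φ := φ) hab ((Set.Finite.mem_toFinset hfin).1 hφ)]; simp)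
  simp only [one_pow, Finset.sum_const, nsmul_eq_mul, mul_one] at hsum
  have hcard : 1 < s.card := by
    by_contra hle
    have h1 : (s.card : ℤ) ≤ 1 := by exact_mod_cast not_lt.1 hle
    have h3 : (2 * H.index : ℤ) < A.relIndex H := by exact_mod_cast h2
    have h4 : (0 : ℤ) < H.index := by
      exact_mod_cast Nat.pos_of_ne_zero Subgroup.index_ne_zero_of_finite
    nlinarith
  rw [← hs]
  refine irr_uniform hirr hτ hτ1 s (hs ▸ inducedSet_le_bot A) ?_ ?_
  · obtain ⟨a, ha, b, hb, hab⟩ := Finset.one_lt_card.1 hcard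
    exact ⟨a, ha, b, hb, hab⟩
  · intro φ hφ ψ hψ
    rw [degree_of_commutator_le (A := A) (φ := φ) hab ((Set.Finite.mem_toFinset hfin).1 hφ),
      degree_of_commutator_le (A := A) (φ := ψ) hab ((Set.Finite.mem_toFinset hfin).1 hψ)]

/-- Feit's coherence theorem. -/
theorem feit (hC : FrobK H) (hH1 : H ≠ ⊥) (hH2 : H ≠ ⊤)
    (hτ : IsLinearIsometryOn (zspanOn (inducedIrrAbove H ⊥) {1}ᶜ) τ)
    (hτ1 : ∀ α ∈ zspanOn (inducedIrrAbove H ⊥) {1}ᶜ, τ α 1 = 0) :
    IsCoherent (inducedIrrAbove H ⊥) {1}ᶜ τ ∨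
    (IsMulCommutative H ∧ Nat.card H = H.index + 1) ∨
    (∃ p : ℕ, p.Prime ∧ (∃ m : ℕ, Nat.card H = p ^ m) ∧ ¬ IsMulCommutative H ∧
      ⁅H, H⁆.relIndex H ≤ 4 * H.index ^ 2 + 1) := by
  classical
  have hnil := hC.nilpotent hH2
  haveI := hnil
  set e := H.index with he
  have he2 : 2 ≤ e := by
    have h0 : e ≠ 0 := Subgroup.index_ne_zero_of_finite
    have h1 : e ≠ 1 := fun h => hH2 (Subgroup.index_eq_one.1 h)
    omega
  set D := ⁅H, H⁆ with hD
  haveI : D.Normal := by rw [hD]; infer_instance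
  have hDH : D ≤ H := Subgroup.commutator_le_self H
  have hDsub : D.subgroupOf H = commutator H := by
    apply Subgroup.map_injective H.subtype_injective
    rw [Subgroup.map_subgroupOf_eq_of_le hDH, Subgroup.map_subtype_commutator, hD]
  have hDlt : D < H := by
    refine lt_of_le_of_ne hDH fun h => ?_
    haveI : Nontrivial H := (Subgroup.nontrivial_iff_ne_bot H).2 hH1
    apply (Group.IsSolvable.commutator_lt_top_of_nontrivial H).ne
    rw [← hDsub, h, Subgroup.subgroupOf_self]
  set n := D.relIndex H with hn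
  have hn0 : n ≠ 0 := Subgroup.index_ne_zero_of_finite
  have hn1 : n ≠ 1 := fun h => hDlt.not_ge (Subgroup.relIndex_eq_one.1 h)
  have hcentD : ∀ h ∈ H, ∀ b ∈ H, h * b * h⁻¹ * b⁻¹ ∈ D :=
    fun h hh b hb => Subgroup.commutator_mem_commutator hh hb
  have hge : ∀ m : ℕ, e ∣ m - 1 → m ≠ 0 → m ≠ 1 → e + 1 ≤ m := fun m h h0 h1 => by
    have := Nat.le_of_dvd (by omega) h
    omega
  have hne : e + 1 ≤ n := hge n (hC.dvd_relIndex_sub_one D H hDH le_rfl hcentD) hn0 hn1
  have hirr : ∀ φ ∈ inducedIrrAbove H ⊥, IsIrrCharacter N φ := fun φ => hC.irr_of_mem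
  -- abelian kernel
  by_cases hab : IsMulCommutative H
  · by_cases hcard : Nat.card H = e + 1
    · exact Or.inr (Or.inl ⟨hab, hcard⟩)
    left
    have hDbot : ⁅H, H⁆ = ⊥ := by
      rw [Subgroup.commutator_eq_bot_iff_le_centralizer]
      exact fun a ha => Subgroup.mem_centralizer_iff.2 fun b hb =>
        congrArg Subtype.val (hab.1.1 ⟨b, hb⟩ ⟨a, ha⟩)
    refine hC.linear_coherent hτ hτ1 ⊥ bot_le hDbot.le ?_
    have h1 : n = Nat.card H := by rw [hn, hD, hDbot, Subgroup.relIndex_bot_left]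
    have h2 := hC.dvd_relIndex_sub_one D H hDH le_rfl hcentD
    rw [← hn, h1, ← he] at h2
    rw [Subgroup.relIndex_bot_left, ← he]
    obtain ⟨c, hc⟩ := h2
    rcases c with _ | _ | c
    · omega
    · exfalso; omega
    · have : e * (c + 1 + 1) = e * c + 2 * e := by ring
      omega
  -- `n` is large or `H` has composite order
  by_cases hp : (∃ p : ℕ, p.Prime ∧ ∃ m : ℕ, Nat.card H = p ^ m) ∧ n ≤ 4 * e ^ 2 + 1
  · obtain ⟨⟨p, hp1, hp2⟩, hn4⟩ := hp
    exact Or.inr (Or.inr ⟨p, hp1, hp2, hab, hn4⟩)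
  left
  have he3 : 4 * e ^ 2 + 1 < n ∨
      (3 ≤ e ∧ (e + 1) ^ 2 ≤ n ∧ ¬ ∃ p : ℕ, p.Prime ∧ ∃ m : ℕ, Nat.card H = p ^ m) := by
    by_cases hbig : 4 * e ^ 2 + 1 < n
    · exact Or.inl hbig
    right
    have hnp : ¬ ∃ p : ℕ, p.Prime ∧ ∃ m : ℕ, Nat.card H = p ^ m := fun h => hp ⟨h, not_lt.1 hbig⟩
    refine ⟨?_, ?_, hnp⟩
    · by_contra h3
      have h2 : e = 2 := by omega
      -- an involution acting fixed-point-freely inverts
      obtain ⟨y, hy, hyH⟩ := hC.exists_outside hH2
      have hy2 : orderOf y = 2 := by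
        refine ((Nat.prime_dvd_prime_iff_eq hy Nat.prime_two).1 ?_)
        have h1 : orderOf y ∣ Nat.card H * H.index := by
          rw [Subgroup.card_mul_index]; exact orderOf_dvd_natCard y
        rcases hy.dvd_mul.1 h1 with h | h
        · exfalso
          haveI := Fact.mk hy
          have hin : (QuotientGroup.mk' H y) ≠ 1 := fun e => hyH ((QuotientGroup.eq_one_iff y).1 e)
          have h5 : orderOf (QuotientGroup.mk' H y) = orderOf y :=
            ((Nat.dvd_prime hy).1 (orderOf_map_dvd _ _)).resolve_left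
              fun e => hin (orderOf_eq_one_iff.1 e)
          exact hy.ne_one (Nat.eq_one_of_dvd_coprimes hC.hall h (h5 ▸ (by
            rw [Subgroup.index_eq_card]; exact orderOf_dvd_natCard _)))
        · rwa [← he, h2] at h
      apply hab
      have hconj : ∀ k ∈ H, y * k * y⁻¹ = k⁻¹ := by
        intro k hk
        have hz : y * k * y⁻¹ * k ∈ H := mul_mem (Subgroup.Normal.conj_mem inferInstance k hk y) hk
        have hyy : y * y = 1 := by rw [← sq, ← hy2, pow_orderOf_eq_one]
        have hcm : y * k * y⁻¹ * k = (y * k) ^ 2 := by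
          rw [inv_eq_of_mul_eq_one_right hyy, sq, mul_assoc (y * k)]
        by_contra hne
        have hz1 : y * k * y⁻¹ * k ≠ 1 := fun e1 => hne (eq_inv_of_mul_eq_one_left e1)
        have hmem := mem_of_commute hC hz hz1 (x := y * k) (by rw [hcm, ← pow_succ', ← pow_succ])
        exact hyH (by simpa using mul_mem hmem (inv_mem hk))
      refine ⟨⟨fun a b => Subtype.ext ?_⟩⟩
      show (a : N) * b = b * a
      have e1 := hconj _ (mul_mem a.2 b.2)
      rw [show y * (a * b) * y⁻¹ = (y * a * y⁻¹) * (y * b * y⁻¹) by group, hconj _ a.2, hconj _ b.2,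
        mul_inv_rev] at e1
      rw [← inv_inj, mul_inv_rev, mul_inv_rev]
      exact e1.symm
    · -- two primes divide `n`
      obtain ⟨p, hp1, hpn⟩ : ∃ p, p.Prime ∧ p ∣ n :=
        ⟨n.minFac, Nat.minFac_prime hn1, n.minFac_dvd⟩
      haveI := Fact.mk hp1
      have habD : ∀ a b : ↥H ⧸ D.subgroupOf H, a * b = b * a := by
        intro a b
        obtain ⟨a, rfl⟩ := QuotientGroup.mk_surjective a
        obtain ⟨b, rfl⟩ := QuotientGroup.mk_surjective b
        rw [← commutatorElement_eq_one_iff_mul_comm]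
        show ((⁅a, b⁆ : H) : ↥H ⧸ D.subgroupOf H) = 1
        rw [QuotientGroup.eq_one_iff]
        exact Subgroup.commutator_mem_commutator a.2 b.2
      have hpow : ∀ k : H, (k : N) ^ p ∈ D ↔ ((k : H) : ↥H ⧸ D.subgroupOf H) ^ p = 1 := fun k => by
        rw [← QuotientGroup.mk_pow, QuotientGroup.eq_one_iff, Subgroup.mem_subgroupOf, Subgroup.coe_pow]
      let M : Subgroup N :=
        { carrier := {k | k ∈ H ∧ k ^ p ∈ D}
          one_mem' := ⟨one_mem H, by rw [one_pow]; exact one_mem D⟩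
          mul_mem' := fun {a b} ha hb => ⟨mul_mem ha.1 hb.1, by
            have h1 := (hpow ⟨a, ha.1⟩).1 ha.2
            have h2 := (hpow ⟨b, hb.1⟩).1 hb.2
            refine (hpow (⟨a, ha.1⟩ * ⟨b, hb.1⟩)).2 ?_
            rw [QuotientGroup.mk_mul, Commute.mul_pow (habD _ _), h1, h2, one_mul]⟩
          inv_mem' := fun {a} ha => ⟨inv_mem ha.1, by rw [inv_pow]; exact inv_mem ha.2⟩ }
      haveI hMn : M.Normal := ⟨fun k hk g => ⟨Subgroup.Normal.conj_mem inferInstance k hk.1 g, by
        rw [conj_pow]; exact Subgroup.Normal.conj_mem inferInstance _ hk.2 g⟩⟩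
      have hDM : D ≤ M := fun h hh => ⟨hDH hh, pow_mem hh p⟩
      have hMH : M ≤ H := fun k hk => hk.1
      have hM1 : D.relIndex M ≠ 1 := by
        intro h
        obtain ⟨q, hq⟩ := exists_prime_orderOf_dvd_card' (G := ↥H ⧸ D.subgroupOf H) p
          (by rw [← Subgroup.index_eq_card]; exact hpn)
        obtain ⟨k, rfl⟩ := QuotientGroup.mk_surjective q
        have hmem : (k : N) ∈ M := ⟨k.2, (hpow k).2 (hq ▸ pow_orderOf_eq_one _)⟩
        rw [(QuotientGroup.eq_one_iff (N := D.subgroupOf H) k).2 (Subgroup.relIndex_eq_one.1 h hmem),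
          orderOf_one] at hq
        exact hp1.one_lt.ne hq
      have hM2 : M.relIndex H ≠ 1 := by
        intro h
        have hle := Subgroup.relIndex_eq_one.1 h
        have hP : IsPGroup p (↥H ⧸ D.subgroupOf H) := by
          intro q
          obtain ⟨k, rfl⟩ := QuotientGroup.mk_surjective q
          exact ⟨1, by rw [pow_one]; exact (hpow k).1 (hle k.2).2⟩
        obtain ⟨m, hm⟩ := IsPGroup.iff_card.1 hP
        -- `H` would be a `p`-group
        apply hnp
        refine ⟨p, hp1, ?_⟩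
        obtain ⟨P⟩ : Nonempty (Sylow p H) := inferInstance
        have hPtop : (P : Subgroup H) = ⊤ := by
          refine frattini_nongenerating (top_unique (le_trans ?_
            (sup_le_sup_left (Cores.commutator_le_frattini (G := H)) (P : Subgroup H))))
          rw [top_le_iff, ← Subgroup.index_eq_one]
          have h1 := Subgroup.index_dvd_of_le (le_sup_left (a := (P : Subgroup H)) (b := commutator H))
          have h2 := Subgroup.index_dvd_of_le (le_sup_right (a := (P : Subgroup H)) (b := commutator H))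
          have h3 : (commutator H).index = p ^ m := by rw [← hDsub, Subgroup.index_eq_card, hm]
          rw [h3] at h2
          obtain ⟨i, -, ei⟩ := (Nat.dvd_prime_pow hp1).1 h2
          rcases i with _ | i
          · simpa using ei
          · exact absurd ((dvd_pow_self p i.succ_ne_zero).trans (ei ▸ h1)) P.not_dvd_index
        obtain ⟨r, hr⟩ := IsPGroup.iff_card.1 P.2
        exact ⟨r, by rw [← hr, hPtop, Subgroup.card_top]⟩
      have d1 := hC.dvd_relIndex_sub_one D M hDM hMH fun h hh b hb => hcentD h hh b hb.1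
      have d2 := hC.dvd_relIndex_sub_one M H hMH le_rfl fun h hh b hb => hDM (hcentD h hh b hb)
      have g1 := hge _ d1 Subgroup.index_ne_zero_of_finite hM1
      have g2 := hge _ d2 Subgroup.index_ne_zero_of_finite hM2
      rw [hn, ← Subgroup.relIndex_mul_relIndex D M H hDM hMH, sq]
      exact Nat.mul_le_mul g1 g2
  have h2e : 2 * e < n := by
    rcases he3 with h | ⟨-, h, -⟩
    · nlinarith
    · nlinarith
  have hY : IsCoherent (inducedIrrAbove H D) {1}ᶜ τ := hC.linear_coherent hτ hτ1 D hDH le_rfl h2e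
  let P : Set (Subgroup N) := {A | A.Normal ∧ A ≤ D ∧ IsCoherent (inducedIrrAbove H A) {1}ᶜ τ}
  obtain ⟨A, ⟨hAn, hAD, hA⟩, hmin⟩ := Set.Finite.exists_minimal (s := P) (Set.toFinite _)
    ⟨D, inferInstance, le_rfl, hY⟩
  haveI := hAn
  by_cases hAbot : A = ⊥
  · exact hAbot ▸ hA
  exfalso
  let Q : Set (Subgroup N) := {B | B.Normal ∧ B < A}
  obtain ⟨B, ⟨hBn, hBA⟩, hmax⟩ := Set.Finite.exists_maximal (s := Q) (Set.toFinite _)
    ⟨⊥, inferInstance, bot_lt_iff_ne_bot.2 hAbot⟩
  haveI := hBn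
  have hAH : A ≤ H := hAD.trans hDH
  haveI : ((⊥ : Subgroup N).subgroupOf H).Normal := inferInstance
  have hnil' : Group.IsNilpotent (↥H ⧸ (⊥ : Subgroup N).subgroupOf H) :=
    Group.nilpotent_of_surjective (QuotientGroup.mk' ((⊥ : Subgroup N).subgroupOf H))
      (QuotientGroup.mk'_surjective _)
  have hcent : ⁅A, H⁆ ≤ B := by
    by_contra hne
    have hBC : B < ⁅A, H⁆ ⊔ B :=
      lt_of_le_of_ne le_sup_right fun e => hne (le_sup_left.trans e.ge)
    have hCA : ⁅A, H⁆ ⊔ B ≤ A := sup_le (Subgroup.commutator_le_left A H) hBA.le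
    rcases hCA.lt_or_eq with h | h
    · exact hBC.not_ge (hmax ⟨inferInstance, h⟩ hBC.le)
    · exact hBA.not_ge (S1520.le_of_commutator_sup ⊥ H hnil' bot_le hAH h.ge)
  -- the centre of `H / B`
  set f := QuotientGroup.mk' B with hf
  let Z : Subgroup N := H ⊓ (Subgroup.centralizer ((H.map f : Subgroup _) : Set (N ⧸ B))).comap f
  haveI : (H.map f).Normal := Subgroup.Normal.map inferInstance f (QuotientGroup.mk'_surjective B)
  haveI : Z.Normal := inferInstance
  have hmemZ : ∀ z, z ∈ Z ↔ z ∈ H ∧ ∀ h ∈ H, h * z * h⁻¹ * z⁻¹ ∈ B := by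
    intro z
    refine and_congr Iff.rfl ⟨fun hz h hh => ?_, fun hz => Subgroup.mem_centralizer_iff.2 ?_⟩
    · have := Subgroup.mem_centralizer_iff.1 hz (f h) ⟨h, hh, rfl⟩
      rw [← QuotientGroup.eq_one_iff, ← QuotientGroup.mk'_apply, map_mul, map_mul, map_mul, map_inv,
        map_inv, ← hf, this, mul_inv_cancel_right, mul_inv_cancel]
    · rintro _ ⟨h, hh, rfl⟩
      have := (QuotientGroup.eq_one_iff _).2 (hz h hh)
      rw [← QuotientGroup.mk'_apply, map_mul, map_mul, map_mul, map_inv, map_inv, mul_inv_eq_one,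
        mul_inv_eq_iff_eq_mul] at this
      exact this
  have hAZ : A ≤ Z := fun a ha => (hmemZ a).2 ⟨hAH ha, fun h hh => by
    have h1 : ⁅h, a⁆ ∈ ⁅H, A⁆ := Subgroup.commutator_mem_commutator hh ha
    rw [Subgroup.commutator_comm] at h1
    exact hcent h1⟩
  have hZH : Z ≤ H := fun z hz => hz.1
  -- degrees
  have hdeg : ∀ φ ∈ inducedIrrAbove H B, ∃ x : ℤ, 0 < x ∧ φ 1 = (x : ℂ) * (e : ℂ) ∧
      x ^ 2 * (A.relIndex Z : ℤ) ≤ (A.relIndex H : ℤ) := by
    intro φ hφ
    obtain ⟨θ, rfl, -, hker, hd⟩ := inducedSet_degree B hφ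
    refine ⟨charDegree (θ : H → ℂ), by exact_mod_cast TwoClassChar.deg_pos θ.2, by
      rw [hd]; push_cast; ring, ?_⟩
    obtain ⟨ψ, hψ⟩ := Codegree.exists_quot θ (B.subgroupOf H) fun a ha => hker a ha
    have hdd : charDegree (ψ : ↥H ⧸ B.subgroupOf H → ℂ) = charDegree (θ : H → ℂ) := by
      simp [charDegree, ← hψ]
    have h1 := S4845.sq_deg_le ψ
    rw [hdd] at h1
    have hZc : Nat.card ((Z.subgroupOf H).map (QuotientGroup.mk' (B.subgroupOf H))) ≤
        Nat.card (Subgroup.center (↥H ⧸ B.subgroupOf H)) := by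
      refine Subgroup.card_le_of_le ?_
      rintro _ ⟨z, hz, rfl⟩
      refine Subgroup.mem_center_iff.2 fun q => ?_
      obtain ⟨h, rfl⟩ := QuotientGroup.mk'_surjective _ q
      rw [← map_mul, ← map_mul, QuotientGroup.mk'_apply, QuotientGroup.mk'_apply, QuotientGroup.eq,
        Subgroup.mem_subgroupOf]
      have h2 := ((hmemZ (z : N)).1 hz).2 h h.2
      have h3 := (inferInstance : B.Normal).conj_mem _ (inv_mem h2) ((h : N) * z)⁻¹
      simp only [Subgroup.coe_mul, Subgroup.coe_inv] at h3 ⊢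
      convert h3 using 1
      group
    have hBZ : B ≤ Z := hBA.le.trans hAZ
    have e1 := S4845.card_map_mul (B.subgroupOf H) (Z.subgroupOf H)
      (Subgroup.comap_mono hBZ)
    have e2 : Nat.card (↥H ⧸ B.subgroupOf H) = B.relIndex A * A.relIndex H := by
      rw [Subgroup.relIndex_mul_relIndex B A H hBA.le hAH, ← Subgroup.index_eq_card]; rfl
    have e3 : Nat.card ((Z.subgroupOf H).map (QuotientGroup.mk' (B.subgroupOf H))) =
        B.relIndex A * A.relIndex Z := by
      rw [Subgroup.relIndex_mul_relIndex B A Z hBA.le hAZ, ← Subgroup.relIndex_ker,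
        QuotientGroup.ker_mk', Subgroup.relIndex_subgroupOf hZH]
    have h4 : charDegree (θ : H → ℂ) ^ 2 * A.relIndex Z ≤ A.relIndex H := by
      refine Nat.le_of_mul_le_mul_left ?_ (Nat.pos_of_ne_zero
        (Subgroup.index_ne_zero_of_finite (H := B.subgroupOf A)))
      calc B.relIndex A * (charDegree (θ : H → ℂ) ^ 2 * A.relIndex Z)
          = charDegree (θ : H → ℂ) ^ 2 * (B.relIndex A * A.relIndex Z) := by ring
        _ ≤ charDegree (θ : H → ℂ) ^ 2 * Nat.card (Subgroup.center (↥H ⧸ B.subgroupOf H)) :=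
            Nat.mul_le_mul_left _ (e3 ▸ hZc)
        _ ≤ _ := h1.trans e2.le
    exact_mod_cast h4
  choose! x hx0 hx hxle using hdeg
  have hfinS : (inducedIrrAbove H B).Finite := by
    refine Set.Finite.subset (Set.finite_range fun θ : IrrCharacter H => indFun H (θ : H → ℂ)) ?_
    rintro φ ⟨θ, h1, -, -, rfl⟩
    exact ⟨⟨θ, h1⟩, rfl⟩
  have hAB' : inducedIrrAbove H A ⊆ inducedIrrAbove H B := inducedSet_mono hBA.le
  have hfinA := hfinS.subset hAB'
  haveI : Group.IsSolvable H := inferInstance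
  obtain ⟨χ₁, hχ₁, hχ₁d⟩ := exists_linear_mem (K := H) D inferInstance hDlt
  have hχ₁A : χ₁ ∈ inducedIrrAbove H A := inducedSet_mono hAD hχ₁
  have hsum := hC.sum_sq A hAH hfinA.toFinset (Set.Finite.coe_toFinset hfinA) x
    fun φ hφ => hx φ (hAB' ((Set.Finite.mem_toFinset hfinA).1 hφ))
  refine hBA.not_ge (hmin ⟨hBn, hBA.le.trans hAD, ?_⟩ hBA.le)
  rw [← Set.Finite.coe_toFinset hfinS]
  refine irr_adjoin hirr hτ hτ1 hfinA.toFinset hfinS.toFinset (by simpa using inducedSet_le_bot A)
    (by simpa using inducedSet_le_bot B) (Set.Finite.toFinset_mono hAB') (by simpa using hA)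
    ((Set.Finite.mem_toFinset hfinA).2 hχ₁A) x ?_ ?_
  · intro φ hφ
    rw [hχ₁d, ← he]
    exact hx φ ((Set.Finite.mem_toFinset hfinS).1 hφ)
  intro φ hφ _
  rw [Set.Finite.mem_toFinset] at hφ
  have hxpos := hx0 φ hφ
  have hbound := hxle φ hφ
  rw [← he] at hsum
  have hnA : n ∣ A.relIndex H := Subgroup.relIndex_dvd_of_le_left H hAD
  have hnA' : (n : ℤ) ≤ A.relIndex H := by
    exact_mod_cast Nat.le_of_dvd (Nat.pos_of_ne_zero Subgroup.index_ne_zero_of_finite) hnA
  have hepos : (0 : ℤ) < e := by exact_mod_cast (show 0 < e by omega)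
  refine lt_of_mul_lt_mul_left ?_ hepos.le
  rw [hsum]
  have key : ((e : ℤ) * (2 * x φ)) ^ 2 < ((A.relIndex H : ℤ) - 1) ^ 2 := by
    rcases he3 with hbig | ⟨h3, hsq, hnp⟩
    · have hb : (4 * e ^ 2 + 2 : ℤ) ≤ A.relIndex H := le_trans (by exact_mod_cast hbig) hnA'
      have hZ1 : (1 : ℤ) ≤ A.relIndex Z := by
        exact_mod_cast Nat.pos_of_ne_zero (Subgroup.index_ne_zero_of_finite (H := A.subgroupOf Z))
      have hx2 : x φ ^ 2 ≤ A.relIndex H :=
        le_trans (le_mul_of_one_le_right (sq_nonneg _) hZ1) hbound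
      nlinarith [mul_le_mul_of_nonneg_left hx2 (sq_nonneg (e : ℤ))]
    · have hZne : A.relIndex Z ≠ 1 := by
        intro h
        apply hnp
        have hZA : Z ≤ A := Subgroup.relIndex_eq_one.1 h
        -- `A / B` is a `p`-group
        have habA : ∀ a ∈ A, ∀ b ∈ A, a * b * a⁻¹ * b⁻¹ ∈ B := fun a ha b hb =>
          hcent (Subgroup.commutator_mem_commutator ha (hAH hb))
        obtain ⟨p, hp1, hpA⟩ : ∃ p, p.Prime ∧ p ∣ B.relIndex A :=
          Nat.exists_prime_and_dvd fun h => hBA.not_ge (Subgroup.relIndex_eq_one.1 h)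
        haveI := Fact.mk hp1
        refine ⟨p, hp1, ?_⟩
        have habQ : ∀ a b : ↥A ⧸ B.subgroupOf A, a * b = b * a := by
          intro a b
          obtain ⟨a, rfl⟩ := QuotientGroup.mk_surjective a
          obtain ⟨b, rfl⟩ := QuotientGroup.mk_surjective b
          rw [← commutatorElement_eq_one_iff_mul_comm]
          show ((⁅a, b⁆ : A) : ↥A ⧸ B.subgroupOf A) = 1
          rw [QuotientGroup.eq_one_iff]
          exact habA a a.2 b b.2
        have hpowA : ∀ k : A, (k : N) ^ p ∈ B ↔ ((k : A) : ↥A ⧸ B.subgroupOf A) ^ p = 1 := fun k => by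
          rw [← QuotientGroup.mk_pow, QuotientGroup.eq_one_iff, Subgroup.mem_subgroupOf,
            Subgroup.coe_pow]
        let M : Subgroup N :=
          { carrier := {k | k ∈ A ∧ k ^ p ∈ B}
            one_mem' := ⟨one_mem A, by rw [one_pow]; exact one_mem B⟩
            mul_mem' := fun {a b} ha hb => ⟨mul_mem ha.1 hb.1, by
              have h1 := (hpowA ⟨a, ha.1⟩).1 ha.2
              have h2 := (hpowA ⟨b, hb.1⟩).1 hb.2
              refine (hpowA (⟨a, ha.1⟩ * ⟨b, hb.1⟩)).2 ?_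
              rw [QuotientGroup.mk_mul, Commute.mul_pow (habQ _ _), h1, h2, one_mul]⟩
            inv_mem' := fun {a} ha => ⟨inv_mem ha.1, by rw [inv_pow]; exact inv_mem ha.2⟩ }
        have hMn : M.Normal := ⟨fun k hk g => ⟨hAn.conj_mem k hk.1 g, by
          rw [conj_pow]; exact hBn.conj_mem _ hk.2 g⟩⟩
        have hBM : B < M := by
          refine lt_of_le_of_ne (fun b hb => ⟨hBA.le hb, pow_mem hb p⟩) fun h' => ?_
          obtain ⟨q, hq⟩ := exists_prime_orderOf_dvd_card' (G := ↥A ⧸ B.subgroupOf A) p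
            (by rw [← Subgroup.index_eq_card]; exact hpA)
          obtain ⟨k, rfl⟩ := QuotientGroup.mk_surjective q
          have hmem : (k : N) ∈ M := ⟨k.2, (hpowA k).2 (hq ▸ pow_orderOf_eq_one _)⟩
          rw [← h'] at hmem
          rw [(QuotientGroup.eq_one_iff (N := B.subgroupOf A) k).2 hmem, orderOf_one] at hq
          exact hp1.one_lt.ne hq
        have hMA : A ≤ M := by
          by_contra h'
          exact hBM.not_ge (hmax ⟨hMn, lt_of_le_not_ge (fun k hk => hk.1) h'⟩ hBM.le)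
        -- all of `H / B` is a `p`-group
        haveI : Group.IsNilpotent (↥H ⧸ B.subgroupOf H) :=
          Group.nilpotent_of_surjective (QuotientGroup.mk' _) (QuotientGroup.mk'_surjective _)
        have hHB : IsPGroup p (↥H ⧸ B.subgroupOf H) := by
          obtain ⟨P⟩ : Nonempty (Sylow p (↥H ⧸ B.subgroupOf H)) := inferInstance
          by_contra hnP
          obtain ⟨q, hq, hqd, hqp⟩ : ∃ q, q.Prime ∧ q ∣ Nat.card (↥H ⧸ B.subgroupOf H) ∧ q ≠ p := by
            by_contra hall
            push Not at hall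
            exact hnP (IsPGroup.of_card (n := (Nat.card (↥H ⧸ B.subgroupOf H)).primeFactorsList.length)
              (Nat.eq_prime_pow_of_unique_prime_dvd Nat.card_pos.ne'
                (fun {d} hd hdd => hall d hd hdd)))
          haveI := Fact.mk hq
          obtain ⟨S⟩ : Nonempty (Sylow q (↥H ⧸ B.subgroupOf H)) := inferInstance
          haveI : (S : Subgroup (↥H ⧸ B.subgroupOf H)).Normal :=
            Sylow.normal_of_normalizerCondition Group.normalizerCondition_of_isNilpotent S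
          have hSne : (S : Subgroup (↥H ⧸ B.subgroupOf H)) ≠ ⊥ := S.ne_bot_of_dvd_card hqd
          obtain ⟨⟨z, hzS, hzc⟩, hz1'⟩ :=
            Subgroup.ne_bot_iff_exists_ne_one.1 (Cores.inf_center_ne_bot _ hSne)
          have hz1 : z ≠ 1 := fun e => hz1' (Subtype.ext e)
          obtain ⟨w, rfl⟩ := QuotientGroup.mk_surjective z
          have hwZ : (w : N) ∈ Z := (hmemZ _).2 ⟨w.2, fun h hh => by
            have := Subgroup.mem_center_iff.1 hzc ((⟨h, hh⟩ : H) : ↥H ⧸ B.subgroupOf H)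
            rw [← commutatorElement_eq_one_iff_mul_comm] at this
            replace this : ((⁅(⟨h, hh⟩ : H), w⁆ : H) : ↥H ⧸ B.subgroupOf H) = 1 := this
            rw [QuotientGroup.eq_one_iff] at this
            exact this⟩
          have hwp : ((w : H) : ↥H ⧸ B.subgroupOf H) ^ p = 1 := by
            rw [← QuotientGroup.mk_pow, QuotientGroup.eq_one_iff]
            exact (hMA (hZA hwZ)).2
          obtain ⟨i, hi⟩ := S.2 ⟨_, hzS⟩
          have hi' := congrArg Subtype.val hi
          simp only [Subgroup.coe_pow, Subgroup.coe_one] at hi'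
          have h6 := Nat.dvd_gcd (orderOf_dvd_of_pow_eq_one hwp) (orderOf_dvd_of_pow_eq_one hi')
          rw [(Nat.Coprime.pow_right i ((Nat.coprime_primes hp1 hq).2 hqp.symm)), Nat.dvd_one,
            orderOf_eq_one_iff] at h6
          exact hz1 h6
        -- hence so is `H`
        obtain ⟨m, hm⟩ := IsPGroup.iff_card.1 hHB
        obtain ⟨P⟩ : Nonempty (Sylow p H) := inferInstance
        have hPtop : (P : Subgroup H) = ⊤ := by
          refine frattini_nongenerating (top_unique (le_trans ?_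
            (sup_le_sup_left (Cores.commutator_le_frattini (G := H)) (P : Subgroup H))))
          rw [top_le_iff, ← Subgroup.index_eq_one]
          have hBc : B.subgroupOf H ≤ commutator H :=
            hDsub ▸ Subgroup.comap_mono (hBA.le.trans hAD)
          have h1 := Subgroup.index_dvd_of_le (le_sup_left (a := (P : Subgroup H)) (b := commutator H))
          have h2 := Subgroup.index_dvd_of_le
            (hBc.trans (le_sup_right (a := (P : Subgroup H)) (b := commutator H)))
          rw [Subgroup.index_eq_card (B.subgroupOf H), hm] at h2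
          obtain ⟨i, -, ei⟩ := (Nat.dvd_prime_pow hp1).1 h2
          rcases i with _ | i
          · simpa using ei
          · exact absurd ((dvd_pow_self p i.succ_ne_zero).trans (ei ▸ h1)) P.not_dvd_index
        obtain ⟨r, hr⟩ := IsPGroup.iff_card.1 P.2
        exact ⟨r, by rw [← hr, hPtop, Subgroup.card_top]⟩
      have hZd := hC.dvd_relIndex_sub_one A Z hAZ hZH
        fun h hh b hb => hBA.le (((hmemZ b).1 hb).2 h hh)
      have hZge : ((e : ℤ) + 1) ≤ A.relIndex Z := by
        exact_mod_cast hge _ hZd Subgroup.index_ne_zero_of_finite hZne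
      have hb : ((e : ℤ) + 1) ^ 2 ≤ A.relIndex H := le_trans (by exact_mod_cast hsq) hnA'
      have h3' : (3 : ℤ) ≤ e := by exact_mod_cast h3
      have hx2 : x φ ^ 2 * ((e : ℤ) + 1) ≤ A.relIndex H :=
        le_trans (mul_le_mul_of_nonneg_left hZge (sq_nonneg _)) hbound
      have h7 : (4 * e ^ 2 : ℤ) ≤ ((A.relIndex H : ℤ) - 2) * (e + 1) := by
        nlinarith [mul_le_mul_of_nonneg_right hb (show (0 : ℤ) ≤ e + 1 by omega),
          mul_nonneg (show (0 : ℤ) ≤ e - 3 by omega) (sq_nonneg (e : ℤ))]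
      refine lt_of_mul_lt_mul_right (a := ((e : ℤ) + 1)) ?_ (by omega)
      nlinarith [mul_le_mul_of_nonneg_left hx2 (mul_nonneg (show (0 : ℤ) ≤ 4 by norm_num)
        (sq_nonneg (e : ℤ))), mul_le_mul_of_nonneg_left h7 (show (0 : ℤ) ≤ A.relIndex H by omega)]
  have hpos : (0 : ℤ) ≤ (A.relIndex H : ℤ) - 1 := by
    have : (0 : ℤ) < n := by exact_mod_cast Nat.pos_of_ne_zero hn0
    omega
  nlinarith

end FrobK

end Cfsg.Agent.Coherence
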