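/-
The characters of a Frobenius group with `p`-group kernel `H` that are nontrivial on a central
normal subgroup `Z` of the kernel.

* `FrobK.comm_of_even_index` : even index forces an abelian kernel
* `FrobK.center_q`, `FrobK.degree_pow`, `FrobK.sum_sq_X`, `FrobK.mem_X_iff`
* `FrobK.center_part_coherent` : `S \ S(Z)` is coherent
-/
import Cfsg.Agent.Lib.Coherence.FrobKernel

set_option autoImplicit false
set_option linter.style.haveILetI false
set_option linter.unusedSectionVars false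

namespace Cfsg.Agent.Coherence

open Cfsg Cfsg.Agent.Char
open scoped commutatorElement ComplexConjugate

universe u v
variable {N : Type u} [Group N] [Fintype N] {H : Subgroup N} [H.Normal]

namespace FrobK

theorem comm_of_even_index (hC : FrobK H) (he : 2 ∣ H.index) : IsMulCommutative H := by
  obtain ⟨y, hy⟩ := exists_prime_orderOf_dvd_card' (G := N) 2 (he.trans H.index_dvd_card)
  have hyH : y ∉ H := fun h => Nat.prime_two.ne_one
    (Nat.eq_one_of_dvd_coprimes hC.hall (hy ▸ Subgroup.orderOf_dvd_natCard _ h) he)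
  have hconj : ∀ k ∈ H, y * k * y⁻¹ = k⁻¹ := by
    intro k hk
    have hz : y * k * y⁻¹ * k ∈ H := mul_mem (Subgroup.Normal.conj_mem inferInstance k hk y) hk
    have hyy : y * y = 1 := by rw [← sq, ← hy, pow_orderOf_eq_one]
    have hcm : y * k * y⁻¹ * k = (y * k) ^ 2 := by
      rw [inv_eq_of_mul_eq_one_right hyy, sq, mul_assoc (y * k)]
    by_contra hne
    have hz1 : y * k * y⁻¹ * k ≠ 1 := fun e1 => hne (eq_inv_of_mul_eq_one_left e1)
    have hmem := mem_of_commute hC hz hz1 (x := y * k) (by rw [hcm, ← pow_succ', ← pow_succ])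
    exact hyH (by simpa using mul_mem hmem (inv_mem hk))
  refine ⟨⟨fun a b => Subtype.ext ?_⟩⟩
  show (a : N) * b = b * a
  have e1 := hconj _ (mul_mem a.2 b.2)
  rw [show y * (a * b) * y⁻¹ = (y * a * y⁻¹) * (y * b * y⁻¹) by group, hconj _ a.2, hconj _ b.2,
    mul_inv_rev] at e1
  rw [← inv_inj, mul_inv_rev, mul_inv_rev]
  exact e1.symm

variable {p : ℕ} [hp : Fact p.Prime]

/-- `|Z| = 1 + q [N : H]` with `q ≥ 2`. -/
theorem center_q (hC : FrobK H) (hp2 : p ≠ 2) (hP : IsPGroup p H) (he : Odd H.index)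
    (Z : Subgroup N) [Z.Normal] (hZ1 : Z ≠ ⊥) (hZH : Z ≤ H)
    (hZc : ∀ z ∈ Z, ∀ k ∈ H, z * k = k * z) :
    ∃ q : ℕ, 2 ≤ q ∧ Nat.card Z = q * H.index + 1 := by
  have hd := hC.dvd_relIndex_sub_one ⊥ Z bot_le hZH fun h hh z hz => by
    rw [Subgroup.mem_bot, ← hZc z hz h hh, mul_inv_cancel_right, mul_inv_cancel]
  rw [Subgroup.relIndex_bot_left] at hd
  obtain ⟨q, hq⟩ := hd
  have hpos : 0 < Nat.card Z := Nat.card_pos
  have hcard : Nat.card Z = q * H.index + 1 := by rw [mul_comm] at hq; omega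
  refine ⟨q, ?_, hcard⟩
  obtain ⟨m, hm⟩ := IsPGroup.iff_card.1 hP
  have hoddp : Odd p := hp.out.odd_of_ne_two hp2
  have hoddZ : Odd (Nat.card Z) := (hm ▸ hoddp.pow).of_dvd_nat (Subgroup.card_dvd_of_le hZH)
  have hq0 : q ≠ 0 := by
    rintro rfl
    rw [zero_mul, zero_add] at hcard
    exact hZ1 (Subgroup.eq_bot_of_card_eq Z hcard)
  have hq1 : q ≠ 1 := by
    rintro rfl
    rw [one_mul] at hcard
    obtain ⟨c, hc⟩ := he
    obtain ⟨d, hd⟩ := hoddZ
    omega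
  omega

theorem degree_pow (hC : FrobK H) (hP : IsPGroup p H) (Z : Subgroup N)
    (hZH : Z ≤ H) (hZc : ∀ z ∈ Z, ∀ k ∈ H, z * k = k * z) {φ : N → ℂ}
    (hφ : φ ∈ inducedIrrAbove H ⊥) :
    ∃ k : ℕ, φ 1 = ((p ^ k : ℕ) : ℂ) * (H.index : ℂ) ∧ p ^ (2 * k) ∣ Z.relIndex H := by
  obtain ⟨θ, rfl, -, -, hd⟩ := inducedSet_degree ⊥ hφ
  obtain ⟨r, hr⟩ := IsPGroup.iff_card.1 hP
  obtain ⟨k, -, hk⟩ := (Nat.dvd_prime_pow hp.out).1 (hr ▸ Codegree.deg_dvd_card θ)
  refine ⟨k, by rw [hd, hk]; push_cast; ring, ?_⟩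
  have hle : Z.subgroupOf H ≤ Subgroup.center H := fun a ha => Subgroup.mem_center_iff.2 fun b =>
    Subtype.ext (hZc a ha b b.2).symm
  have h1 := le_trans (Nat.mul_le_mul_left (charDegree (θ : H → ℂ) ^ 2)
    (Subgroup.card_le_of_le hle)) (S4845.sq_deg_le θ)
  rw [← Subgroup.card_mul_index (Z.subgroupOf H), mul_comm _ (Z.subgroupOf H).index, hk,
    ← pow_mul, mul_comm k 2] at h1
  have h2 := Nat.le_of_mul_le_mul_right h1 Nat.card_pos
  obtain ⟨i, -, hi⟩ := (Nat.dvd_prime_pow hp.out).1 (hr ▸ Subgroup.index_dvd_card (Z.subgroupOf H))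
  rw [Subgroup.relIndex, hi]
  rw [hi] at h2
  exact pow_dvd_pow p ((Nat.pow_le_pow_iff_right hp.out.one_lt).1 h2)

theorem finite_set (A : Subgroup N) : (inducedIrrAbove H A).Finite := by
  haveI := Fintype.ofFinite (IrrCharacter H)
  refine Set.Finite.subset (Set.finite_range fun θ : IrrCharacter H => indFun H (θ : H → ℂ)) ?_
  rintro φ ⟨θ, h1, -, -, rfl⟩
  exact ⟨⟨θ, h1⟩, rfl⟩

/-- Membership in `S \ S(Z)`. -/
theorem mem_X_iff (hC : FrobK H) (Z : Subgroup N) [Z.Normal] (hZH : Z ≤ H) {φ : N → ℂ} :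
    φ ∈ inducedIrrAbove H ⊥ \ inducedIrrAbove H Z ↔
      IsIrrCharacter N φ ∧ ∃ z ∈ Z, φ z ≠ φ 1 := by
  constructor
  · intro hφ
    refine ⟨hC.irr_of_mem hφ.1, ?_⟩
    obtain ⟨θ, h1, h2, -, rfl⟩ := hφ.1
    by_contra hno
    push Not at hno
    exact hφ.2 ⟨θ, h1, h2, (S1487.result Z H hZH θ h1).2 hno, rfl⟩
  · rintro ⟨hi, z, hz, hne⟩
    have hmem : φ ∈ inducedIrrAbove H ⊥ := hC.set_eq ▸ ⟨hi, z, hZH hz, hne⟩
    refine ⟨hmem, ?_⟩
    rintro ⟨θ, h1, -, h3, rfl⟩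
    exact hne ((S1487.result Z H hZH θ h1).1 h3 z hz)

/-- `∑ x φ ^ 2` over `S \ S(Z)`. -/
theorem sum_sq_X (hC : FrobK H) (Z : Subgroup N) [Z.Normal] (hZH : Z ≤ H) {q : ℕ}
    (hq : Nat.card Z = q * H.index + 1) (s : Finset (N → ℂ))
    (hs : (↑s : Set (N → ℂ)) = inducedIrrAbove H ⊥ \ inducedIrrAbove H Z) (x : (N → ℂ) → ℤ)
    (hx : ∀ φ ∈ inducedIrrAbove H ⊥, φ 1 = (x φ : ℂ) * (H.index : ℂ)) :
    ∑ φ ∈ s, x φ ^ 2 = ((Z.relIndex H * q : ℕ) : ℤ) := by
  classical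
  have f1 := finite_set (H := H) (⊥ : Subgroup N)
  have f2 := finite_set (H := H) Z
  have h1 := hC.sum_sq ⊥ bot_le f1.toFinset (Set.Finite.coe_toFinset f1) x
    fun φ hφ => hx φ ((Set.Finite.mem_toFinset f1).1 hφ)
  have h2 := hC.sum_sq Z hZH f2.toFinset (Set.Finite.coe_toFinset f2) x
    fun φ hφ => hx φ (inducedSet_le_bot Z ((Set.Finite.mem_toFinset f2).1 hφ))
  have hsd : f1.toFinset \ f2.toFinset = s := by
    apply Finset.coe_injective
    rw [Finset.coe_sdiff, Set.Finite.coe_toFinset, Set.Finite.coe_toFinset, hs]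
  have h3 := Finset.sum_sdiff (f := fun φ => x φ ^ 2)
    (Set.Finite.toFinset_mono (hs := f2) (ht := f1) (inducedSet_le_bot Z))
  rw [hsd] at h3
  rw [← h3, Subgroup.relIndex_bot_left, ← Subgroup.card_mul_index (Z.subgroupOf H),
    Nat.card_congr (Subgroup.subgroupOfEquivOfLe hZH).toEquiv, hq] at h1
  have he0 : (H.index : ℤ) ≠ 0 := by exact_mod_cast Subgroup.index_ne_zero_of_finite
  refine mul_left_cancel₀ he0 ?_
  rw [Subgroup.relIndex] at h2 ⊢
  push_cast at h1 ⊢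
  linear_combination h1 - h2

variable {G : Type v} [Group G] [Fintype G] {τ : (N → ℂ) → (G → ℂ)}

theorem center_part_coherent (hC : FrobK H) (hp2 : p ≠ 2) (hP : IsPGroup p H) (he : Odd H.index)
    (Z : Subgroup N) [Z.Normal] (hZ1 : Z ≠ ⊥) (hZH : Z ≤ H)
    (hZc : ∀ z ∈ Z, ∀ k ∈ H, z * k = k * z)
    (hτ : IsLinearIsometryOn (zspanOn (inducedIrrAbove H ⊥) {1}ᶜ) τ)
    (hτ1 : ∀ α ∈ zspanOn (inducedIrrAbove H ⊥) {1}ᶜ, τ α 1 = 0) :
    IsCoherent (inducedIrrAbove H ⊥ \ inducedIrrAbove H Z) {1}ᶜ τ := by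
  classical
  set X := inducedIrrAbove H ⊥ \ inducedIrrAbove H Z with hX
  obtain ⟨q, hq2, hq⟩ := hC.center_q hp2 hP he Z hZ1 hZH hZc
  have hirr : ∀ φ ∈ inducedIrrAbove H ⊥, IsIrrCharacter N φ := fun φ => hC.irr_of_mem
  choose! k hk hkdvd using fun φ (hφ : φ ∈ inducedIrrAbove H ⊥) => hC.degree_pow hP Z hZH hZc hφ
  have hfX : X.Finite := (finite_set (H := H) ⊥).subset fun φ h => h.1
  set Xf := hfX.toFinset with hXf
  have hmem : ∀ φ, φ ∈ Xf ↔ φ ∈ X := fun φ => Set.Finite.mem_toFinset hfX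
  have hpne : (p : ℂ) ≠ 0 := Nat.cast_ne_zero.2 hp.out.ne_zero
  have hen : (H.index : ℂ) ≠ 0 := Nat.cast_ne_zero.2 Subgroup.index_ne_zero_of_finite
  have htot := hC.sum_sq_X Z hZH hq Xf (Set.Finite.coe_toFinset hfX) (fun φ => ((p ^ k φ : ℕ) : ℤ))
    (fun φ hφ => by rw [hk φ hφ]; push_cast; rfl)
  replace htot : ∑ φ ∈ Xf, p ^ (2 * k φ) = Z.relIndex H * q := by
    have h' : ∑ φ ∈ Xf, ((p ^ (2 * k φ) : ℕ) : ℤ) = ((Z.relIndex H * q : ℕ) : ℤ) := by
      rw [← htot]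
      refine Finset.sum_congr rfl fun φ _ => ?_
      push_cast; ring
    exact_mod_cast h'
  have hZr0 : 0 < Z.relIndex H := Nat.pos_of_ne_zero Subgroup.index_ne_zero_of_finite
  have hXne : Xf.Nonempty := by
    by_contra h
    rw [Finset.not_nonempty_iff_eq_empty] at h
    rw [h, Finset.sum_empty] at htot
    rcases mul_eq_zero.1 htot.symm with h | h <;> omega
  obtain ⟨φ₀, hφ₀, hmin⟩ := Finset.exists_min_image Xf k hXne
  have hφ₀S := ((hmem φ₀).1 hφ₀).1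
  let Y : ℕ → Finset (N → ℂ) := fun j => Xf.filter fun φ => k φ ≤ j
  have hYX : ∀ j, (↑(Y j) : Set (N → ℂ)) ⊆ X := fun j φ hφ =>
    (hmem φ).1 (Finset.mem_filter.1 hφ).1
  have hYS : ∀ j, (↑(Y j) : Set (N → ℂ)) ⊆ inducedIrrAbove H ⊥ := fun j φ hφ => (hYX j hφ).1
  suffices h : ∀ j, k φ₀ ≤ j → IsCoherent (↑(Y j) : Set (N → ℂ)) {1}ᶜ τ by
    have h1 := h (max (k φ₀) (Xf.sup k)) (le_max_left _ _)
    have h2 : (↑(Y (max (k φ₀) (Xf.sup k))) : Set (N → ℂ)) = X := by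
      refine Set.Subset.antisymm (hYX _) fun φ hφ => Finset.mem_filter.2 ⟨(hmem φ).2 hφ, ?_⟩
      exact le_max_of_le_right (Finset.le_sup ((hmem φ).2 hφ))
    rwa [h2] at h1
  intro j hj
  induction j, hj using Nat.le_induction with
  | base =>
    refine irr_uniform hirr hτ hτ1 (Y (k φ₀)) (hYS _) ?_ ?_
    · refine Finset.one_lt_card.1 ?_
      by_contra hle
      have hone : Y (k φ₀) = {φ₀} :=
        Finset.eq_singleton_iff_unique_mem.2 ⟨Finset.mem_filter.2 ⟨hφ₀, le_rfl⟩,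
          fun y hy => Finset.card_le_one.1 (not_lt.1 hle) y hy φ₀
            (Finset.mem_filter.2 ⟨hφ₀, le_rfl⟩)⟩
      by_cases hhigh : ∃ φ ∈ Xf, k φ₀ < k φ
      · obtain ⟨φ, hφ, hlt⟩ := hhigh
        rw [← Finset.sum_filter_add_sum_filter_not Xf (fun φ => k φ ≤ k φ₀),
          show Xf.filter (fun φ => k φ ≤ k φ₀) = {φ₀} from hone, Finset.sum_singleton] at htot
        have hrest : p ^ (2 * (k φ₀ + 1)) ∣
            ∑ φ ∈ Xf.filter (fun φ => ¬ k φ ≤ k φ₀), p ^ (2 * k φ) :=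
          Finset.dvd_sum fun φ hφ => pow_dvd_pow p (by
            have := (Finset.mem_filter.1 hφ).2; omega)
        have hall : p ^ (2 * (k φ₀ + 1)) ∣ Z.relIndex H * q := dvd_mul_of_dvd_left
          ((pow_dvd_pow p (by omega)).trans (hkdvd φ ((hmem φ).1 hφ).1)) q
        rw [← htot, Nat.dvd_add_left hrest] at hall
        exact absurd (Nat.le_of_dvd (pow_pos hp.out.pos _) hall)
          (not_le.2 (Nat.pow_lt_pow_right hp.out.one_lt (by omega)))
      · push Not at hhigh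
        rw [show Xf = {φ₀} from hone ▸ (Finset.filter_true_of_mem hhigh).symm,
          Finset.sum_singleton] at htot
        have h1 := Nat.le_of_dvd hZr0 (hkdvd φ₀ hφ₀S)
        rw [htot] at h1
        have h3 : Z.relIndex H * 2 ≤ Z.relIndex H * q := Nat.mul_le_mul_left _ hq2
        omega
    · intro φ hφ ψ hψ
      rw [hk φ (hYS _ hφ), hk ψ (hYS _ hψ),
        le_antisymm (Finset.mem_filter.1 hφ).2 (hmin φ (Finset.mem_filter.1 hφ).1),
        le_antisymm (Finset.mem_filter.1 hψ).2 (hmin ψ (Finset.mem_filter.1 hψ).1)]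
  | succ j hj ih =>
    have hφ₀Y : φ₀ ∈ Y j := Finset.mem_filter.2 ⟨hφ₀, hj⟩
    refine irr_adjoin hirr hτ hτ1 (Y j) (Y (j + 1)) (hYS _) (hYS _)
      (Finset.monotone_filter_right _ fun φ _ h => le_trans h j.le_succ) ih hφ₀Y
      (fun φ => ((p ^ (k φ - k φ₀) : ℕ) : ℤ)) ?_ ?_
    · intro φ hφ
      have h1 := hmin φ (Finset.mem_filter.1 hφ).1
      rw [hk φ (hYS _ hφ), hk φ₀ hφ₀S]
      push_cast
      rw [← mul_assoc, ← pow_add, Nat.sub_add_cancel h1]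
    intro χ hχ hχn
    have hχX := hYX _ hχ
    have hχk : k χ = j + 1 := by
      refine le_antisymm (Finset.mem_filter.1 hχ).2 (Nat.succ_le_of_lt (lt_of_not_ge fun h => ?_))
      exact hχn (Finset.mem_filter.2 ⟨(hmem χ).2 hχX, h⟩)
    have hdvd : p ^ (2 * (j + 1)) ∣ ∑ φ ∈ Y j, p ^ (2 * k φ) := by
      rw [← Finset.sum_filter_add_sum_filter_not Xf (fun φ => k φ ≤ j)] at htot
      have hrest : p ^ (2 * (j + 1)) ∣ ∑ φ ∈ Xf.filter (fun φ => ¬ k φ ≤ j), p ^ (2 * k φ) :=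
        Finset.dvd_sum fun φ hφ => pow_dvd_pow p (by
          have := (Finset.mem_filter.1 hφ).2; omega)
      have hall : p ^ (2 * (j + 1)) ∣ Z.relIndex H * q :=
        dvd_mul_of_dvd_left (hχk ▸ hkdvd χ hχX.1) q
      rw [← htot, Nat.dvd_add_left hrest] at hall
      exact hall
    have hge := Nat.le_of_dvd (Finset.sum_pos (fun φ _ => pow_pos hp.out.pos _) ⟨φ₀, hφ₀Y⟩) hdvd
    have hscale : ∑ φ ∈ Y j, p ^ (2 * k φ) =
        p ^ (2 * k φ₀) * ∑ φ ∈ Y j, (p ^ (k φ - k φ₀)) ^ 2 := by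
      rw [Finset.mul_sum]
      refine Finset.sum_congr rfl fun φ hφ => ?_
      have h1 := hmin φ (Finset.mem_filter.1 hφ).1
      rw [← pow_mul, ← pow_add]
      congr 1
      omega
    rw [hscale] at hge
    have hexp : p ^ (2 * (j + 1)) = p ^ (2 * k φ₀) * (p ^ (j + 1 - k φ₀)) ^ 2 := by
      rw [← pow_mul, ← pow_add]
      congr 1
      omega
    rw [hexp] at hge
    have hge' := Nat.le_of_mul_le_mul_left hge (pow_pos hp.out.pos _)
    have h3 : 3 ≤ p ^ (j + 1 - k φ₀) := by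
      have h2 := hp.out.two_le
      have h4 : p ≤ p ^ (j + 1 - k φ₀) := Nat.le_self_pow (by omega) p
      omega
    have hlt : 2 * p ^ (j + 1 - k φ₀) < ∑ φ ∈ Y j, (p ^ (k φ - k φ₀)) ^ 2 := by nlinarith
    rw [hχk]
    push_cast
    exact_mod_cast hlt

end FrobK

end Cfsg.Agent.Coherence
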