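/-
Sibley's coherence theorem for a TI Sylow subgroup.

* `ti_isometry`  : induction from `N_G(H)` for a TI subgroup `H`
* `swap_pair`    : the second extension on a two-element set
* `frobK_ti`     : centraliser form of the hypothesis inside the normaliser
* `sylow_of_frobK` : a TI `p`-group kernel is a Sylow subgroup
* `sibley`       : coherence for a non-abelian TI Sylow `p`-subgroup, `p` odd
-/
import Cfsg.Agent.Lib.Coherence.CenterPart
import Cfsg.Agent.Lib.Coherence.TICongruence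
import Cfsg.Agent.Lib.Char.Virtual
import Cfsg.Agent.Lib.OddOrder.MaxBasic
import Cfsg.Agent.S1531

set_option autoImplicit false
set_option linter.style.haveILetI false
set_option linter.unusedSectionVars false

namespace Cfsg.Agent.Coherence

open Cfsg Cfsg.Agent.Char
open scoped commutatorElement ComplexConjugate

universe u
variable {G : Type u} [Group G] [Fintype G]

instance subgroupOf_normalizer_normal (H : Subgroup G) :
    (H.subgroupOf (Subgroup.normalizer (H : Set G))).Normal :=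
  Subgroup.normal_in_normalizer

theorem indFun_zsmul' (K : Subgroup G) (n : ℤ) (θ : K → ℂ) :
    indFun K (n • θ) = n • indFun K θ := by
  rw [← Int.cast_smul_eq_zsmul ℂ n θ, indFun_smul, Int.cast_smul_eq_zsmul]

theorem ti_isometry (H : Subgroup G) (hTI : IsTISubset (H : Set G))
    [Fintype ↥(Subgroup.normalizer (H : Set G))] :
    IsLinearIsometryOn (zspanOn (inducedIrrAbove
        (H.subgroupOf (Subgroup.normalizer (H : Set G))) ⊥) {1}ᶜ)
      (fun α => indFun (Subgroup.normalizer (H : Set G)) α) ∧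
    ∀ α ∈ zspanOn (inducedIrrAbove (H.subgroupOf (Subgroup.normalizer (H : Set G))) ⊥) {1}ᶜ,
      indFun (Subgroup.normalizer (H : Set G)) α 1 = 0 := by
  classical
  set K := H.subgroupOf (Subgroup.normalizer (H : Set G)) with hK
  have hz : ∀ α ∈ zspan (inducedIrrAbove K ⊥), IsGeneralizedCharacter _ α ∧
      ∀ x : Subgroup.normalizer (H : Set G), (x : G) ∉ (H : Set G) → α x = 0 := by
    intro α hα
    refine zspan_induction (P := fun α => IsGeneralizedCharacter _ α ∧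
      ∀ x : Subgroup.normalizer (H : Set G), (x : G) ∉ (H : Set G) → α x = 0) ?_
      ⟨isGC_zero, fun _ _ => rfl⟩ (fun a _ b _ ha hb => ⟨isGC_add ha.1 hb.1,
        fun x hx => by rw [Pi.add_apply, ha.2 x hx, hb.2 x hx, add_zero]⟩)
      (fun n a _ ha => ⟨isGC_zsmul ha.1 n,
        fun x hx => by rw [Pi.smul_apply, ha.2 x hx, smul_zero]⟩) hα
    rintro φ ⟨θ, h1, -, -, rfl⟩
    exact ⟨isGC_of_isCharacter (IsCharacter.indFun (H := K) (IsIrrCharacter.isCharacter h1)),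
      fun x hx => CliffordChar.indFun_not_mem K θ (by rwa [hK, Subgroup.mem_subgroupOf])⟩
  refine ⟨⟨fun α _ β _ => indFun_add _ α β, fun α _ n => indFun_zsmul' _ n α, ?_, ?_⟩, ?_⟩
  · intro α hα β hβ
    obtain ⟨h1, h2⟩ := hz α (mem_zspanOn_one.1 hα).1
    exact indFun_ti_isometry (H : Set G) hTI α β (isGC_isClassFunction h1) h2
      (hz β (mem_zspanOn_one.1 hβ).1).2 (mem_zspanOn_one.1 hα).2
  · exact fun α hα => Char.IsGeneralizedCharacter.indFun (hz α (mem_zspanOn_one.1 hα).1).1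
  · intro α hα
    rw [indFun_one_apply, (mem_zspanOn_one.1 hα).2, mul_zero]

theorem frobK_ti (H : Subgroup G)
    (hC : ∀ k ∈ H, k ≠ 1 → Subgroup.centralizer ({k} : Set G) ≤ H) :
    FrobK (H.subgroupOf (Subgroup.normalizer (H : Set G))) := by
  intro h hh h1 x hx
  refine hC h hh (fun e => h1 (Subtype.ext e)) ?_
  rw [Subgroup.mem_centralizer_singleton_iff] at hx ⊢
  exact congrArg Subtype.val hx

theorem subgroupOf_ne_top {H : Subgroup G} (hlt : H < Subgroup.normalizer (H : Set G)) :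
    H.subgroupOf (Subgroup.normalizer (H : Set G)) ≠ ⊤ := fun e =>
  hlt.not_ge (Subgroup.subgroupOf_eq_top.1 e)

theorem subgroupOf_ne_bot {H : Subgroup G} (h : H ≠ ⊥) :
    H.subgroupOf (Subgroup.normalizer (H : Set G)) ≠ ⊥ := by
  intro e
  apply h
  have h1 := congrArg (Subgroup.map (Subgroup.normalizer (H : Set G)).subtype) e
  rwa [Subgroup.map_subgroupOf_eq_of_le Subgroup.le_normalizer, Subgroup.map_bot] at h1

/-- A `p`-group which is a Frobenius kernel in its normaliser is a Sylow subgroup. -/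
theorem sylow_of_frobK {p : ℕ} [Fact p.Prime] (H : Subgroup G) (hP : IsPGroup p H) (h1 : H ≠ ⊥)
    (hF : FrobK (H.subgroupOf (Subgroup.normalizer (H : Set G)))) :
    ∃ P : Sylow p G, (P : Subgroup G) = H := by
  set L := Subgroup.normalizer (H : Set G)
  haveI := Fintype.ofFinite L
  obtain ⟨S, hS⟩ := hP.exists_le_sylow
  refine ⟨S, ?_⟩
  by_contra hne
  have hpH : p ∣ Nat.card (H.subgroupOf L) := by
    obtain ⟨m, hm⟩ := IsPGroup.iff_card.1 hP
    rw [Nat.card_congr (Subgroup.subgroupOfEquivOfLe Subgroup.le_normalizer).toEquiv, hm]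
    rcases m with _ | m
    · exact absurd (Subgroup.eq_bot_of_card_eq H (by simpa using hm)) h1
    · exact dvd_pow_self p m.succ_ne_zero
  have hnd : ¬ p ∣ (H.subgroupOf L).index := fun h =>
    (Fact.out : p.Prime).ne_one (Nat.eq_one_of_dvd_coprimes hF.hall hpH h)
  haveI := S.2.isNilpotent
  have hlt : H.subgroupOf S < ⊤ := by
    rw [lt_top_iff_ne_top, Ne, Subgroup.subgroupOf_eq_top]
    exact fun h => hne (le_antisymm h hS)
  obtain ⟨x, hx, hxH⟩ := SetLike.exists_of_lt (Group.normalizerCondition_of_isNilpotent _ hlt)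
  have hxL : (x : G) ∈ L := by
    refine Subgroup.mem_normalizer_iff.2 fun h => ⟨fun hh => ?_, fun hh => ?_⟩
    · exact (Subgroup.mem_normalizer_iff.1 hx ⟨h, hS hh⟩).1 hh
    · have hhS : h ∈ (S : Subgroup G) := by
        have h2 := mul_mem (mul_mem (inv_mem x.2) (hS hh)) x.2
        simpa [mul_assoc] using h2
      exact (Subgroup.mem_normalizer_iff.1 hx ⟨h, hhS⟩).2 hh
  refine hxH (Subgroup.mem_subgroupOf.2 ?_)
  have hq : QuotientGroup.mk' (H.subgroupOf L) ⟨x, hxL⟩ = 1 := by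
    obtain ⟨i, hi⟩ := IsPGroup.iff_orderOf.1 S.2 x
    have h2 : orderOf (QuotientGroup.mk' (H.subgroupOf L) ⟨x, hxL⟩) ∣ p ^ i := by
      refine (orderOf_map_dvd _ _).trans (dvd_of_eq ?_)
      rw [← hi, ← Subgroup.orderOf_coe, ← Subgroup.orderOf_coe]
    obtain ⟨j, -, hj⟩ := (Nat.dvd_prime_pow (Fact.out : p.Prime)).1 h2
    rcases j with _ | j
    · rwa [pow_zero, orderOf_eq_one_iff] at hj
    · refine absurd ?_ hnd
      rw [Subgroup.index_eq_card]
      exact ((dvd_pow_self p j.succ_ne_zero).trans (dvd_of_eq hj.symm)).trans (orderOf_dvd_natCard _)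
  exact Subgroup.mem_subgroupOf.1
    ((QuotientGroup.eq_one_iff (N := H.subgroupOf L) (⟨x, hxL⟩ : L)).1 hq)

/-- On a two element set of equal degree there is a second extension, exchanging the two values
up to sign. -/
theorem swap_pair {L : Type u} [Group L] [Fintype L] {τ ρ : (L → ℂ) → (G → ℂ)} {u v : L → ℂ}
    (hu : IsIrrCharacter L u) (hv : IsIrrCharacter L v) (huv : u ≠ v) (hd : u 1 = v 1)
    (hρ : IsLinearIsometryOn (zspan ({u, v} : Set (L → ℂ))) ρ)
    (hag : ∀ α ∈ zspanOn ({u, v} : Set (L → ℂ)) {1}ᶜ, ρ α = τ α) :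
    ∃ ρ' : (L → ℂ) → (G → ℂ), IsLinearIsometryOn (zspan ({u, v} : Set (L → ℂ))) ρ' ∧
      (∀ α ∈ zspanOn ({u, v} : Set (L → ℂ)) {1}ᶜ, ρ' α = τ α) ∧ ρ' u = -ρ v := by
  classical
  have hcoe : (↑({u, v} : Finset (L → ℂ)) : Set (L → ℂ)) = {u, v} := by simp
  have hmu : u ∈ zspan ({u, v} : Set (L → ℂ)) := subset_zspan (by simp)
  have hmv : v ∈ zspan ({u, v} : Set (L → ℂ)) := subset_zspan (by simp)
  have huv0 : classInner u v = 0 := classInner_irr_of_ne hu hv huv
  obtain ⟨ρ', hρ', hval⟩ := exists_extension (G := G) ({u, v} : Finset (L → ℂ))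
    (fun φ hφ => by
      rcases Finset.mem_insert.1 hφ with rfl | hφ
      · exact irr_ne_zero hu
      · rw [Finset.mem_singleton.1 hφ]; exact irr_ne_zero hv)
    (fun φ hφ ψ hψ hne => by
      have key : ∀ a ∈ ({u, v} : Finset (L → ℂ)), IsIrrCharacter L a := fun a ha => by
        rcases Finset.mem_insert.1 ha with rfl | ha
        · exact hu
        · rw [Finset.mem_singleton.1 ha]; exact hv
      exact classInner_irr_of_ne (key φ hφ) (key ψ hψ) hne)
    (fun φ => if φ = u then -ρ v else -ρ u)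
    (fun φ _ => by
      split_ifs
      · exact isGC_neg (hρ.2.2.2 _ hmv)
      · exact isGC_neg (hρ.2.2.2 _ hmu))
    (fun φ hφ ψ hψ => by
      rcases Finset.mem_insert.1 hφ with h | h <;> rcases Finset.mem_insert.1 hψ with h' | h' <;>
        (try rw [Finset.mem_singleton] at h) <;> (try rw [Finset.mem_singleton] at h') <;>
        subst h h' <;>
        simp only [if_pos, if_neg huv.symm, classInner_neg_left, classInner_neg_right, neg_neg,
          hρ.2.2.1 _ hmu _ hmu, hρ.2.2.1 _ hmv _ hmv, hρ.2.2.1 _ hmu _ hmv, hρ.2.2.1 _ hmv _ hmu,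
          classInner_irr_self hu, classInner_irr_self hv, huv0, classInner_symm_zero huv0])
  rw [hcoe] at hρ'
  have h1 : ρ' u = -ρ v := by rw [hval u (by simp), if_pos rfl]
  have h2 : ρ' v = -ρ u := by rw [hval v (by simp), if_neg huv.symm]
  refine ⟨ρ', hρ', fun α hα => ?_, h1⟩
  obtain ⟨hα1, hα0⟩ := mem_zspanOn_one.1 hα
  rw [← hag α hα]
  rw [← hcoe] at hα1
  obtain ⟨m, hm⟩ := exists_coeffs_of_mem_zspan hα1
  rw [Finset.sum_pair huv] at hm
  have hmn : m v = -m u := by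
    rw [hm, Pi.add_apply, Pi.smul_apply, Pi.smul_apply, hd, ← add_smul, zsmul_eq_mul,
      mul_eq_zero, Int.cast_eq_zero] at hα0
    have := hα0.resolve_right (IsIrrCharacter.apply_one_ne_zero hv)
    omega
  rw [hm, hρ'.1 _ (zspan_zsmul _ hmu) _ (zspan_zsmul _ hmv),
    hρ.1 _ (zspan_zsmul _ hmu) _ (zspan_zsmul _ hmv), hρ'.2.1 _ hmu, hρ'.2.1 _ hmv, hρ.2.1 _ hmu,
    hρ.2.1 _ hmv, h1, h2, hmn]
  module

/-- A pair `u, v` which is all of a finite set with two members. -/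
theorem exists_pair {L : Type u} [Group L] (U : Finset (L → ℂ)) (x : (L → ℂ) → ℤ)
    (hx : ∀ φ ∈ U, 0 < x φ) (h1 : 1 < U.card) (h2 : ∑ φ ∈ U, x φ ^ 2 = 2) {u : L → ℂ} (hu : u ∈ U) :
    ∃ v, v ≠ u ∧ (↑U : Set (L → ℂ)) = {u, v} ∧ x u = 1 ∧ x v = 1 := by
  classical
  have hle : (U.card : ℤ) ≤ 2 := by
    rw [← h2, Finset.card_eq_sum_ones, Nat.cast_sum]
    refine Finset.sum_le_sum fun φ hφ => ?_
    have := hx φ hφ
    push_cast
    nlinarith
  have hcard : U.card = 2 := by omega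
  obtain ⟨a, b, hab, hU⟩ := Finset.card_eq_two.1 hcard
  rw [hU, Finset.sum_pair hab] at h2
  have ha := hx a (by simp [hU])
  have hb := hx b (by simp [hU])
  have ha1 : x a = 1 := by nlinarith
  have hb1 : x b = 1 := by nlinarith
  rw [hU, Finset.mem_insert, Finset.mem_singleton] at hu
  rcases hu with rfl | rfl
  · exact ⟨b, hab.symm, by simp [hU], ha1, hb1⟩
  · exact ⟨a, hab, by simp [hU, Set.pair_comm], hb1, ha1⟩

theorem sibley {p : ℕ} [Fact p.Prime] (hp2 : p ≠ 2) (P : Sylow p G)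
    (hTI : IsTISubset ((P : Subgroup G) : Set G))
    [Fintype ↥(Subgroup.normalizer ((P : Subgroup G) : Set G))]
    (hF : FrobK ((P : Subgroup G).subgroupOf (Subgroup.normalizer ((P : Subgroup G) : Set G))))
    (hlt : (P : Subgroup G) < Subgroup.normalizer ((P : Subgroup G) : Set G))
    (hna : ¬ IsMulCommutative (P : Subgroup G)) :
    IsCoherent (inducedIrrAbove
        ((P : Subgroup G).subgroupOf (Subgroup.normalizer ((P : Subgroup G) : Set G))) ⊥) {1}ᶜ
      (fun α => indFun (Subgroup.normalizer ((P : Subgroup G) : Set G)) α) := by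
  classical
  set L := Subgroup.normalizer ((P : Subgroup G) : Set G) with hL
  set K := (P : Subgroup G).subgroupOf L with hK
  haveI : K.Normal := Subgroup.normal_in_normalizer
  obtain ⟨hτ, hτ1⟩ := ti_isometry (P : Subgroup G) hTI
  set ind := fun α : L → ℂ => indFun L α with hind
  set S := inducedIrrAbove K ⊥ with hS
  have hirr : ∀ φ ∈ S, IsIrrCharacter L φ := fun φ => hF.irr_of_mem
  have hPL : (P : Subgroup G) ≤ L := Subgroup.le_normalizer
  have eK : K ≃* (P : Subgroup G) := Subgroup.subgroupOfEquivOfLe hPL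
  have hKp : IsPGroup p K := P.2.of_equiv eK.symm
  have hKna : ¬ IsMulCommutative K := fun h => hna ⟨⟨fun a b => eK.symm.injective (by
    rw [map_mul, map_mul]; exact h.1.1 _ _)⟩⟩
  have hK2 : K ≠ ⊤ := subgroupOf_ne_top hlt
  have hKnil : Group.IsNilpotent K := hKp.isNilpotent
  set e := K.index with he
  have heodd : Odd e := by
    rw [← Nat.not_even_iff_odd, even_iff_two_dvd]
    exact fun h => hKna (hF.comm_of_even_index h)
  have hcardK : Nat.card K = Nat.card (P : Subgroup G) := Nat.card_congr eK.toEquiv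
  obtain ⟨mK, hmK⟩ := IsPGroup.iff_card.1 hKp
  have hoddp : Odd p := (Fact.out : p.Prime).odd_of_ne_two hp2
  have hoddK : Odd (Nat.card K) := hmK ▸ hoddp.pow
  have hodd : Odd (Nat.card L) := by
    rw [← Subgroup.card_mul_index K]; exact hoddK.mul heodd
  -- the derived subgroup and the linear characters
  set D := ⁅K, K⁆ with hD
  haveI : D.Normal := by rw [hD]; infer_instance
  have hDK : D ≤ K := Subgroup.commutator_le_self K
  have hDne : D ≠ ⊥ := by
    intro h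
    rw [hD, Subgroup.commutator_eq_bot_iff_le_centralizer] at h
    exact hKna ⟨⟨fun a b => Subtype.ext ((Subgroup.mem_centralizer_iff.1 (h b.2) a a.2))⟩⟩
  have hDsub : D.subgroupOf K = commutator K := by
    apply Subgroup.map_injective K.subtype_injective
    rw [Subgroup.map_subgroupOf_eq_of_le hDK, Subgroup.map_subtype_commutator, hD]
  have hDlt : D < K := by
    refine lt_of_le_of_ne hDK fun h => ?_
    haveI : Nontrivial K := by
      rw [Subgroup.nontrivial_iff_ne_bot]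
      exact fun e => hDne (le_bot_iff.1 (e ▸ hDK))
    haveI : Group.IsSolvable K := inferInstance
    apply (Group.IsSolvable.commutator_lt_top_of_nontrivial K).ne
    rw [← hDsub, h, Subgroup.subgroupOf_self]
  have hn2e : 2 * e < D.relIndex K := by
    have hd := hF.dvd_relIndex_sub_one D K hDK le_rfl
      fun h hh b hb => Subgroup.commutator_mem_commutator hh hb
    have hne1 : D.relIndex K ≠ 1 := fun h => hDlt.not_ge (Subgroup.relIndex_eq_one.1 h)
    have hne0 : D.relIndex K ≠ 0 := Subgroup.index_ne_zero_of_finite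
    have hoddn : Odd (D.relIndex K) := hoddK.of_dvd_nat (Subgroup.index_dvd_card _)
    have := S1521.le_of_dvd_sub_one heodd hoddn (by omega) hd
    omega
  have hYcoh := hF.linear_coherent hτ hτ1 D hDK le_rfl hn2e
  -- the central subgroup
  let Z : Subgroup L := D ⊓ Subgroup.centralizer (K : Set L)
  haveI : Z.Normal := inferInstance
  have hZK : Z ≤ K := fun z hz => hDK hz.1
  have hZc : ∀ z ∈ Z, ∀ k ∈ K, z * k = k * z := fun z hz k hk =>
    (Subgroup.mem_centralizer_iff.1 hz.2 k hk).symm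
  have hZ1 : Z ≠ ⊥ := by
    haveI := hKnil
    have hD' : D.subgroupOf K ≠ ⊥ := by
      intro h
      apply hDne
      have h1 := congrArg (Subgroup.map K.subtype) h
      rwa [Subgroup.map_subgroupOf_eq_of_le hDK, Subgroup.map_bot] at h1
    obtain ⟨⟨z, hzD, hzc⟩, hz1⟩ :=
      Subgroup.ne_bot_iff_exists_ne_one.1 (Cores.inf_center_ne_bot _ hD')
    intro h
    have hmem : (z : L) ∈ Z := ⟨hzD, Subgroup.mem_centralizer_iff.2 fun k hk =>
      congrArg Subtype.val (Subgroup.mem_center_iff.1 hzc ⟨k, hk⟩)⟩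
    rw [h, Subgroup.mem_bot] at hmem
    exact hz1 (Subtype.ext (Subtype.ext hmem))
  have hXcoh := hF.center_part_coherent hp2 hKp heodd Z hZ1 hZK hZc hτ hτ1
  obtain ⟨q, hq2, hq⟩ := hF.center_q hp2 hKp heodd Z hZ1 hZK hZc
  -- degrees
  choose! k hk hkdvd using fun φ (hφ : φ ∈ S) => hF.degree_pow hKp Z hZK hZc hφ
  have hfX : (S \ inducedIrrAbove K Z).Finite := (FrobK.finite_set (H := K) ⊥).subset fun φ h => h.1
  have hfY : (inducedIrrAbove K D).Finite := FrobK.finite_set D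
  set Xf := hfX.toFinset with hXf
  set Yf := hfY.toFinset with hYf
  have hXm : ∀ φ, φ ∈ Xf ↔ φ ∈ S \ inducedIrrAbove K Z := fun φ => Set.Finite.mem_toFinset hfX
  have hYm : ∀ φ, φ ∈ Yf ↔ φ ∈ inducedIrrAbove K D := fun φ => Set.Finite.mem_toFinset hfY
  have hXS : ∀ φ ∈ Xf, φ ∈ S := fun φ hφ => ((hXm φ).1 hφ).1
  have hYS : ∀ φ ∈ Yf, φ ∈ S := fun φ hφ => inducedSet_le_bot D ((hYm φ).1 hφ)
  have hdisj : Disjoint Xf Yf := Finset.disjoint_left.2 fun φ h1 h2 =>
    ((hXm φ).1 h1).2 (inducedSet_mono (show Z ≤ D from inf_le_left) ((hYm φ).1 h2))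
  have hYdeg : ∀ η ∈ Yf, η 1 = (e : ℂ) := fun η hη =>
    FrobK.degree_of_commutator_le le_rfl ((hYm η).1 hη)
  have hq0 : 0 < Z.relIndex K := Nat.pos_of_ne_zero Subgroup.index_ne_zero_of_finite
  have hsumX := hF.sum_sq_X Z hZK hq Xf (Set.Finite.coe_toFinset hfX)
    (fun φ => ((p ^ k φ : ℕ) : ℤ)) (fun φ hφ => by rw [hk φ hφ]; push_cast; rfl)
  have hXne : Xf.Nonempty := by
    by_contra h
    rw [Finset.not_nonempty_iff_eq_empty] at h
    rw [h, Finset.sum_empty] at hsumX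
    have : (0 : ℤ) < ((Z.relIndex K * q : ℕ) : ℤ) := by
      exact_mod_cast Nat.mul_pos hq0 (by omega)
    omega
  obtain ⟨χ₀, hχ₀, hmin⟩ := Finset.exists_min_image Xf k hXne
  -- ratios relative to `χ₀`
  set x : (L → ℂ) → ℤ := fun φ => ((p ^ (k φ - k χ₀) : ℕ) : ℤ) with hxdef
  set a : ℤ := ((p ^ k χ₀ : ℕ) : ℤ) with hadef
  have ha0 : 0 < a := by rw [hadef]; exact_mod_cast pow_pos (Fact.out : p.Prime).pos _
  have hx0 : ∀ φ, 0 < x φ := fun φ => by
    simp only [hxdef]; exact_mod_cast pow_pos (Fact.out : p.Prime).pos _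
  have hx1 : x χ₀ = 1 := by simp [hxdef]
  have hd₀ : χ₀ 1 = (a : ℂ) * (e : ℂ) := by
    rw [hk χ₀ (hXS _ hχ₀), hadef]; push_cast; rfl
  have hxdeg : ∀ φ ∈ Xf, φ 1 = (x φ : ℂ) * χ₀ 1 := by
    intro φ hφ
    rw [hk φ (hXS φ hφ), hd₀, hxdef, hadef]
    push_cast
    rw [← mul_assoc, ← pow_add, Nat.sub_add_cancel (hmin φ hφ)]
  set DX := ∑ φ ∈ Xf, x φ ^ 2 with hDX
  have hDX2 : 2 ≤ DX := by
    have h1 : a ^ 2 * DX = ((Z.relIndex K * q : ℕ) : ℤ) := by
      rw [← hsumX, hDX, Finset.mul_sum]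
      refine Finset.sum_congr rfl fun φ hφ => ?_
      rw [hadef, hxdef]
      push_cast
      rw [← mul_pow, ← pow_add, Nat.add_sub_cancel' (hmin φ hφ)]
    have h2 : a ^ 2 ≤ (Z.relIndex K : ℤ) := by
      rw [hadef]
      have := Nat.le_of_dvd hq0 (hkdvd χ₀ (hXS _ hχ₀))
      rw [← Nat.cast_pow, ← pow_mul, mul_comm]
      exact_mod_cast this
    by_contra h
    have h3 : a ^ 2 * DX ≤ a ^ 2 * 1 := mul_le_mul_of_nonneg_left (by omega) (sq_nonneg a)
    have h4 : 2 * (Z.relIndex K : ℤ) ≤ ((Z.relIndex K * q : ℕ) : ℤ) := by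
      push_cast
      have : (2 : ℤ) ≤ q := by exact_mod_cast hq2
      nlinarith
    have h5 : (0 : ℤ) < Z.relIndex K := by exact_mod_cast hq0
    nlinarith
  have hX2 : 1 < Xf.card := by
    by_contra h
    have : Xf = {χ₀} := Finset.eq_singleton_iff_unique_mem.2
      ⟨hχ₀, fun y hy => Finset.card_le_one.1 (not_lt.1 h) y hy χ₀ hχ₀⟩
    rw [hDX, this, Finset.sum_singleton, hx1] at hDX2
    norm_num at hDX2
  have hsumY := hF.sum_sq D hDK Yf (Set.Finite.coe_toFinset hfY) (fun _ => 1)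
    (fun φ hφ => by rw [hYdeg φ hφ]; simp [he])
  have hY2 : 1 < Yf.card := by
    simp only [one_pow, Finset.sum_const, nsmul_eq_mul, mul_one] at hsumY
    by_contra h
    have h1 : (Yf.card : ℤ) ≤ 1 := by exact_mod_cast not_lt.1 h
    have h2 : ((2 * e : ℕ) : ℤ) < D.relIndex K := by exact_mod_cast hn2e
    push_cast at h2
    rw [← he] at hsumY
    have : (0 : ℤ) < e := by exact_mod_cast heodd.pos
    nlinarith
  obtain ⟨η₀, hη₀⟩ := Finset.card_pos.1 (show 0 < Yf.card by omega)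
  obtain ⟨-, σ, hσ, hσag⟩ := hXcoh
  obtain ⟨-, ρ, hρ, hρag⟩ := hYcoh
  rw [← Set.Finite.coe_toFinset hfX] at hσ hσag
  rw [← Set.Finite.coe_toFinset hfY] at hρ hρag
  rw [← hXf] at hσ hσag
  rw [← hYf] at hρ hρag
  have hXS' : (↑Xf : Set (L → ℂ)) ⊆ S := fun φ hφ => hXS φ hφ
  have hYS' : (↑Yf : Set (L → ℂ)) ⊆ S := fun φ hφ => hYS φ hφ
  have hXY' : Disjoint (↑Xf : Set (L → ℂ)) ↑Yf := Finset.disjoint_coe.2 hdisj
  have hXtwo : ∃ u ∈ (↑Xf : Set (L → ℂ)), ∃ v ∈ (↑Xf : Set (L → ℂ)), u ≠ v := by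
    obtain ⟨u, hu, v, hv, huv⟩ := Finset.one_lt_card.1 hX2
    exact ⟨u, hu, v, hv, huv⟩
  have hYtwo : ∃ u ∈ (↑Yf : Set (L → ℂ)), ∃ v ∈ (↑Yf : Set (L → ℂ)), u ≠ v := by
    obtain ⟨u, hu, v, hv, huv⟩ := Finset.one_lt_card.1 hY2
    exact ⟨u, hu, v, hv, huv⟩
  have horth := (S1531.result L S ↑Xf ↑Yf hirr hXS' hYS' hXY' hXtwo hYtwo ind hτ hτ1 σ ρ hσ hσag
    hρ hρag).1
  -- the difference `β`
  set v₀ := χ₀ - a • η₀ with hv₀
  have hv₀m : v₀ ∈ zspanOn S {1}ᶜ := mem_zspanOn_one.2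
    ⟨zspan_sub (subset_zspan (hXS _ hχ₀)) (zspan_zsmul a (subset_zspan (hYS _ hη₀))), by
      simp [hv₀, hd₀, hYdeg _ hη₀]⟩
  set β := ind v₀ with hβ
  have iS : ∀ φ ∈ S, ∀ ψ ∈ S, classInner φ ψ = if φ = ψ then 1 else 0 := fun φ hφ ψ hψ =>
    classInner_irr (hirr φ hφ) (hirr ψ hψ)
  have hne0 : ∀ φ ∈ Xf, φ ≠ η₀ := fun φ hφ e => Finset.disjoint_left.1 hdisj hφ (e ▸ hη₀)
  have hne1 : ∀ η ∈ Yf, η ≠ χ₀ := fun η hη e => Finset.disjoint_left.1 hdisj hχ₀ (e ▸ hη)
  -- inner products with the images of `X`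
  obtain ⟨c₁, hc₁⟩ := classInner_gc_int (hτ.2.2.2 _ hv₀m) (hσ.2.2.2 _ (subset_zspan hχ₀))
  set c := c₁ - 1 with hc
  have hcX : ∀ φ ∈ Xf, classInner β (σ φ) =
      ((x φ * c + (if φ = χ₀ then 1 else 0) : ℤ) : ℂ) := by
    intro φ hφ
    have hw : φ - x φ • χ₀ ∈ zspanOn (↑Xf : Set (L → ℂ)) {1}ᶜ := mem_zspanOn_one.2
      ⟨zspan_sub (subset_zspan hφ) (zspan_zsmul _ (subset_zspan hχ₀)), by simp [hxdeg φ hφ]⟩
    have h := hτ.2.2.1 _ hv₀m _ (zspanOn_mono hXS' hw)
    rw [← hσag _ hw, sub_eq_add_neg φ, hσ.1 _ (subset_zspan hφ) _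
      (zspan_neg (zspan_zsmul _ (subset_zspan hχ₀))), lin_neg hσ (zspan_zsmul _ (subset_zspan hχ₀)),
      hσ.2.1 _ (subset_zspan hχ₀), ← sub_eq_add_neg, ← sub_eq_add_neg, classInner_sub_right,
      classInner_zsmul_right] at h
    change classInner β (σ φ) - (x φ : ℂ) * classInner β (σ χ₀) = classInner v₀ (φ - x φ • χ₀) at h
    simp only [hv₀, classInner_sub_left, classInner_sub_right, classInner_zsmul_left,
      classInner_zsmul_right, iS _ (hXS _ hχ₀) _ (hXS _ hφ), iS _ (hXS _ hχ₀) _ (hXS _ hχ₀),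
      iS _ (hYS _ hη₀) _ (hXS _ hφ), iS _ (hYS _ hη₀) _ (hXS _ hχ₀),
      if_neg (hne0 φ hφ).symm, if_neg (hne0 χ₀ hχ₀).symm] at h
    have hcc : classInner β (σ χ₀) = (c₁ : ℂ) := hc₁
    rw [hcc] at h
    by_cases hφ1 : φ = χ₀
    · rw [if_pos hφ1, hφ1, hx1, hcc, hc]; push_cast; ring
    · rw [if_neg (Ne.symm hφ1)] at h
      rw [if_neg hφ1, hc]
      simp only [if_true] at h
      push_cast
      linear_combination h
  -- inner products with the images of `Y`
  obtain ⟨r, hr⟩ := classInner_gc_int (hτ.2.2.2 _ hv₀m) (hρ.2.2.2 _ (subset_zspan hη₀))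
  have hcY : ∀ η ∈ Yf, classInner β (ρ η) =
      ((r + a - a * (if η = η₀ then 1 else 0) : ℤ) : ℂ) := by
    intro η hη
    have hw : η - η₀ ∈ zspanOn (↑Yf : Set (L → ℂ)) {1}ᶜ := mem_zspanOn_one.2
      ⟨zspan_sub (subset_zspan hη) (subset_zspan hη₀), by simp [hYdeg η hη, hYdeg η₀ hη₀]⟩
    have h := hτ.2.2.1 _ hv₀m _ (zspanOn_mono hYS' hw)
    rw [← hρag _ hw, sub_eq_add_neg η, hρ.1 _ (subset_zspan hη) _
      (zspan_neg (subset_zspan hη₀)), lin_neg hρ (subset_zspan hη₀), ← sub_eq_add_neg,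
      ← sub_eq_add_neg, classInner_sub_right] at h
    change classInner β (ρ η) - classInner β (ρ η₀) = classInner v₀ (η - η₀) at h
    simp only [hv₀, classInner_sub_left, classInner_sub_right, classInner_zsmul_left,
      iS _ (hXS _ hχ₀) _ (hYS _ hη), iS _ (hXS _ hχ₀) _ (hYS _ hη₀),
      iS _ (hYS _ hη₀) _ (hYS _ hη), iS _ (hYS _ hη₀) _ (hYS _ hη₀),
      if_neg (hne1 η hη).symm, if_neg (hne0 χ₀ hχ₀), if_true] at h
    have hrr : classInner β (ρ η₀) = (r : ℂ) := hr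
    rw [hrr] at h
    by_cases hη1 : η = η₀
    · rw [if_pos hη1, hη1, hrr]; push_cast; ring
    · rw [if_neg (Ne.symm hη1)] at h
      rw [if_neg hη1]
      push_cast
      linear_combination h
  -- the congruence
  have hadvd : a ∣ r := by
    set res := fun l : L => ρ η₀ l with hres
    have hgc := hρ.2.2.2 _ (subset_zspan hη₀)
    have hgres : IsGeneralizedCharacter L res := Char.IsGeneralizedCharacter.restrict hgc L
    have hcl := isGC_isClassFunction hgc
    obtain ⟨A, hA⟩ := classInner_gc_int (isGC_of_irr (hirr _ (hXS _ hχ₀))) hgres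
    obtain ⟨B, hB⟩ := classInner_gc_int (isGC_of_irr (hirr _ (hYS _ hη₀))) hgres
    have hr' : (r : ℂ) = (A : ℂ) - (a : ℂ) * B := by
      rw [← hr, hv₀]
      show classInner (indFun L (χ₀ - a • η₀)) (ρ η₀) = _
      rw [frobenius_reciprocity L _ hcl, classInner_sub_left, classInner_zsmul_left]
      show classInner χ₀ res - _ * classInner η₀ res = _
      rw [hA, hB]
    have hXA : ∀ φ ∈ Xf, classInner res φ = ((x φ * A : ℤ) : ℂ) := by
      intro φ hφ
      have hw : φ - x φ • χ₀ ∈ zspanOn (↑Xf : Set (L → ℂ)) {1}ᶜ := mem_zspanOn_one.2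
        ⟨zspan_sub (subset_zspan hφ) (zspan_zsmul _ (subset_zspan hχ₀)), by simp [hxdeg φ hφ]⟩
      have h0 : classInner (indFun L (φ - x φ • χ₀)) (ρ η₀) = 0 := by
        show classInner (ind (φ - x φ • χ₀)) (ρ η₀) = 0
        rw [← hσag _ hw, sub_eq_add_neg φ, hσ.1 _ (subset_zspan hφ) _
          (zspan_neg (zspan_zsmul _ (subset_zspan hχ₀))),
          lin_neg hσ (zspan_zsmul _ (subset_zspan hχ₀)), hσ.2.1 _ (subset_zspan hχ₀),
          classInner_add_left, classInner_neg_left, classInner_zsmul_left,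
          horth φ hφ η₀ hη₀, horth χ₀ hχ₀ η₀ hη₀]
        ring
      rw [frobenius_reciprocity L _ hcl, classInner_sub_left, classInner_zsmul_left, sub_eq_zero]
        at h0
      refine classInner_symm_of_int (n := x φ * A) ?_
      show classInner φ res = _
      rw [h0]
      show _ * classInner χ₀ res = _
      rw [hA]; push_cast; rfl
    haveI := Fintype.ofFinite (IrrCharacter L)
    have hd0 : χ₀ 1 ≠ 0 := IsIrrCharacter.apply_one_ne_zero (hirr _ (hXS _ hχ₀))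
    have hkey : ∀ z ∈ Z, z ≠ 1 →
        χ₀ 1 * (res z - res 1) = -((A : ℂ) * (Nat.card L : ℂ)) := by
      intro z hz hz1
      have hexp := classFunction_eq_sum (isGC_isClassFunction hgres)
      rw [congrFun hexp z, congrFun hexp 1]
      simp only [Finset.sum_apply, Pi.smul_apply, smul_eq_mul]
      rw [← Finset.sum_sub_distrib, Finset.mul_sum]
      have hterm : ∀ φ : IrrCharacter L, χ₀ 1 * (classInner res (φ : L → ℂ) * (φ : L → ℂ) z -
          classInner res (φ : L → ℂ) * (φ : L → ℂ) 1) =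
          (A : ℂ) * ((φ : L → ℂ) 1 * (φ : L → ℂ) z - (φ : L → ℂ) 1 ^ 2) := by
        intro φ
        by_cases hzφ : (φ : L → ℂ) z = (φ : L → ℂ) 1
        · rw [hzφ]; ring
        · have hφX : (φ : L → ℂ) ∈ Xf := (hXm _).2 ((hF.mem_X_iff Z hZK).2 ⟨φ.2, z, hz, hzφ⟩)
          rw [hXA _ hφX, hxdeg _ hφX]
          push_cast; ring
      rw [Finset.sum_congr rfl fun φ _ => hterm φ, ← Finset.mul_sum, Finset.sum_sub_distrib,
        sum_sq_degrees]
      have hz0 : ∑ φ : IrrCharacter L, (φ : L → ℂ) 1 * (φ : L → ℂ) z = 0 := by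
        rw [sum_degree_mul_apply, if_neg hz1]
      rw [hz0]; ring
    obtain ⟨⟨z, hz⟩, hz1⟩ := Subgroup.ne_bot_iff_exists_ne_one.1 hZ1
    have hz1' : z ≠ 1 := fun e => hz1 (Subtype.ext e)
    -- apply the congruence to `± ρ η₀`
    have hsg : IsSignedIrr G (ρ η₀) := gc_norm_one hgc (by
      rw [hρ.2.2.1 _ (subset_zspan hη₀) _ (subset_zspan hη₀), iS _ (hYS _ hη₀) _ (hYS _ hη₀),
        if_pos rfl])
    obtain ⟨s, hs, hψ⟩ : ∃ s : ℤ, (s = 1 ∨ s = -1) ∧ IsIrrCharacter G (s • ρ η₀) := by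
      rcases hsg with h | h
      · exact ⟨1, Or.inl rfl, by rwa [one_smul]⟩
      · exact ⟨-1, Or.inr rfl, by rwa [neg_smul, one_smul]⟩
    obtain ⟨n, d, hn, hd, j, hj⟩ := ti_congruence p P hTI hodd (Z.map L.subtype)
      (by
        rintro _ ⟨w, hw, rfl⟩
        exact hZK hw)
      (by
        rintro g hg _ ⟨w, hw, rfl⟩
        exact ⟨⟨g, hg⟩ * w * ⟨g, hg⟩⁻¹, (inferInstance : Z.Normal).conj_mem w hw _, rfl⟩)
      (by
        rintro _ ⟨w, hw, rfl⟩ y hy
        exact congrArg Subtype.val (hZc w hw ⟨y, hPL hy⟩ hy))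
      hψ (by
        rintro _ ⟨w, hw, rfl⟩ _ ⟨w', hw', rfl⟩ h1 h1'
        have hw1 : w ≠ 1 := fun e => h1 (by rw [e, map_one])
        have hw1' : w' ≠ 1 := fun e => h1' (by rw [e, map_one])
        rw [Pi.smul_apply, Pi.smul_apply]
        congr 1
        exact sub_left_injective (mul_left_cancel₀ hd0
          ((hkey w hw hw1).trans (hkey w' hw' hw1').symm)))
      (z := (z : G)) ⟨z, hz, rfl⟩ (fun e => hz1' (Subtype.ext e))
    have hj' : (d : ℂ) - n = (Nat.card K : ℂ) * j := by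
      rw [hcardK]; exact_mod_cast hj
    have hk' := hkey z hz hz1'
    have hrz : (n : ℂ) - d = (s : ℂ) * (res z - res 1) := by
      rw [← hn, ← hd, Pi.smul_apply, Pi.smul_apply, zsmul_eq_mul, zsmul_eq_mul, mul_sub]
      rfl
    have hss : (s : ℂ) * s = 1 := by rcases hs with rfl | rfl <;> simp
    have hK0 : (Nat.card K : ℂ) ≠ 0 := Nat.cast_ne_zero.2 Nat.card_pos.ne'
    have he0 : (e : ℂ) ≠ 0 := Nat.cast_ne_zero.2 heodd.pos.ne'
    rw [hd₀, show (Nat.card L : ℂ) = (Nat.card K : ℂ) * (e : ℂ) by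
      rw [he, ← Nat.cast_mul, Subgroup.card_mul_index]] at hk'
    have hAa : (A : ℂ) = (a : ℂ) * ((s : ℂ) * j) := by
      refine mul_left_cancel₀ (mul_ne_zero hK0 he0) ?_
      linear_combination hk' + (a : ℂ) * (e : ℂ) * (s : ℂ) * (hj' + hrz) +
        (a : ℂ) * (e : ℂ) * (res z - res 1) * hss
    refine ⟨s * j - B, ?_⟩
    have : (r : ℂ) = ((a * (s * j - B) : ℤ) : ℂ) := by
      rw [hr', hAa]; push_cast; ring
    exact_mod_cast this
  obtain ⟨r', hr'⟩ := hadvd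
  set t := r' + 1 with ht
  have hrt : r + a = a * t := by rw [hr', ht]; ring
  -- Bessel
  set w : (L → ℂ) → (G → ℂ) := fun φ => if φ ∈ Xf then σ φ else ρ φ with hw
  have hwX : ∀ φ ∈ Xf, w φ = σ φ := fun φ hφ => if_pos hφ
  have hwY : ∀ φ ∈ Yf, w φ = ρ φ := fun φ hφ => if_neg (Finset.disjoint_right.1 hdisj hφ)
  obtain ⟨hle, hexp⟩ := bessel (Xf ∪ Yf) w (fun _ => 1) (fun _ _ => one_pos)
    (fun φ hφ => by
      rcases Finset.mem_union.1 hφ with h | h
      · rw [hwX φ h, hσ.2.2.1 _ (subset_zspan h) _ (subset_zspan h), iS _ (hXS _ h) _ (hXS _ h)]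
        simp
      · rw [hwY φ h, hρ.2.2.1 _ (subset_zspan h) _ (subset_zspan h), iS _ (hYS _ h) _ (hYS _ h)]
        simp)
    (fun φ hφ ψ hψ hne => by
      rcases Finset.mem_union.1 hφ with h | h <;> rcases Finset.mem_union.1 hψ with h' | h'
      · rw [hwX φ h, hwX ψ h', hσ.2.2.1 _ (subset_zspan h) _ (subset_zspan h'),
          iS _ (hXS _ h) _ (hXS _ h'), if_neg hne]
      · rw [hwX φ h, hwY ψ h', horth φ h ψ h']
      · rw [hwY φ h, hwX ψ h', classInner_symm_zero (horth ψ h' φ h)]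
      · rw [hwY φ h, hwY ψ h', hρ.2.2.1 _ (subset_zspan h) _ (subset_zspan h'),
          iS _ (hYS _ h) _ (hYS _ h'), if_neg hne]) β
  simp only [div_one, Complex.ofReal_one] at hle hexp
  set m : ℤ := (Yf.card : ℤ) with hm
  have hm2 : 2 ≤ m := by rw [hm]; exact_mod_cast hY2
  have hsumB : ∑ φ ∈ Xf ∪ Yf, ‖classInner β (w φ)‖ ^ 2 =
      (((c ^ 2 * DX + 2 * c + 1) + (a ^ 2 * (m * t ^ 2 - 2 * t) + a ^ 2) : ℤ) : ℝ) := by
    rw [Finset.sum_union hdisj, Int.cast_add]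
    congr 1
    · have : c ^ 2 * DX + 2 * c + 1 = ∑ φ ∈ Xf, (x φ * c + (if φ = χ₀ then 1 else 0)) ^ 2 := by
        rw [Finset.sum_congr rfl (g := fun φ => c ^ 2 * x φ ^ 2 + (if φ = χ₀ then 2 * c + 1 else 0)) ?_]
        · rw [Finset.sum_add_distrib, ← Finset.mul_sum, ← hDX, Finset.sum_ite_eq', if_pos hχ₀]; ring
        · intro φ hφ
          split_ifs with h
          · rw [h, hx1]; ring
          · ring
      rw [this, Int.cast_sum]
      refine Finset.sum_congr rfl fun φ hφ => ?_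
      rw [hwX φ hφ, hcX φ hφ, Complex.norm_intCast, sq_abs, Int.cast_pow]
    · have : a ^ 2 * (m * t ^ 2 - 2 * t) + a ^ 2 =
          ∑ η ∈ Yf, (r + a - a * (if η = η₀ then 1 else 0)) ^ 2 := by
        rw [Finset.sum_congr rfl (g := fun η => a ^ 2 * t ^ 2 +
          (if η = η₀ then a ^ 2 - 2 * a ^ 2 * t else 0)) ?_]
        · rw [Finset.sum_add_distrib, Finset.sum_const, nsmul_eq_mul, Finset.sum_ite_eq',
            if_pos hη₀, ← hm]
          ring
        · intro η hη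
          rw [hrt]
          split_ifs with h <;> ring
      rw [this, Int.cast_sum]
      refine Finset.sum_congr rfl fun η hη => ?_
      rw [hwY η hη, hcY η hη, Complex.norm_intCast, sq_abs, Int.cast_pow]
  have hββ : (classInner β β).re = ((1 + a ^ 2 : ℤ) : ℝ) := by
    show (classInner (ind v₀) (ind v₀)).re = _
    rw [hτ.2.2.1 _ hv₀m _ hv₀m]
    simp only [hv₀, classInner_sub_left, classInner_sub_right, classInner_zsmul_left,
      classInner_zsmul_right, iS _ (hXS _ hχ₀) _ (hXS _ hχ₀), iS _ (hXS _ hχ₀) _ (hYS _ hη₀),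
      iS _ (hYS _ hη₀) _ (hXS _ hχ₀), iS _ (hYS _ hη₀) _ (hYS _ hη₀),
      if_neg (hne0 χ₀ hχ₀), if_neg (hne0 χ₀ hχ₀).symm, if_true]
    simp; ring
  rw [hsumB, hββ] at hle hexp
  have hle' : (c ^ 2 * DX + 2 * c + 1) + (a ^ 2 * (m * t ^ 2 - 2 * t) + a ^ 2) ≤ 1 + a ^ 2 := by
    exact_mod_cast hle
  have hT0 : 0 ≤ m * t ^ 2 - 2 * t := by
    have h1 : 0 ≤ (m - 2) * t ^ 2 := mul_nonneg (by omega) (sq_nonneg t)
    have h2 : 0 ≤ t * (t - 1) := by
      rcases le_or_gt t 0 with h | h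
      · exact mul_nonneg_of_nonpos_of_nonpos h (by omega)
      · exact mul_nonneg h.le (by omega)
    nlinarith
  have hC0 : 0 ≤ c ^ 2 * DX + 2 * c := by
    have h1 : 0 ≤ (DX - 2) * c ^ 2 := mul_nonneg (by omega) (sq_nonneg c)
    have h2 : 0 ≤ c * (c + 1) := by
      rcases le_or_gt 0 c with h | h
      · exact mul_nonneg h (by omega)
      · exact mul_nonneg_of_nonpos_of_nonpos h.le (by omega)
    nlinarith
  have hT1 : m * t ^ 2 - 2 * t = 0 := by
    have ha2 : 0 < a ^ 2 := pow_pos ha0 2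
    nlinarith [mul_nonneg ha2.le hT0]
  have hC1 : c ^ 2 * DX + 2 * c = 0 := by
    have : 0 ≤ a ^ 2 * (m * t ^ 2 - 2 * t) := mul_nonneg (sq_nonneg a) hT0
    omega
  have htc : t = 0 ∨ (t = 1 ∧ m = 2) := by
    rcases mul_eq_zero.1 (show t * (m * t - 2) = 0 by linear_combination hT1) with h | h
    · exact Or.inl h
    · right
      have ht0 : 0 < t := by
        by_contra h'
        nlinarith [mul_nonpos_iff.2 (Or.inl ⟨(by omega : (0 : ℤ) ≤ m), (by omega : t ≤ 0)⟩)]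
      have : t = 1 := by nlinarith
      exact ⟨this, by rw [this] at h; omega⟩
  have hcc : c = 0 ∨ (c = -1 ∧ DX = 2) := by
    rcases mul_eq_zero.1 (show c * (c * DX + 2) = 0 by linear_combination hC1) with h | h
    · exact Or.inl h
    · right
      have hc0 : c < 0 := by
        by_contra h'
        nlinarith [mul_nonneg (not_lt.1 h') (by omega : (0 : ℤ) ≤ DX)]
      have : c = -1 := by nlinarith
      exact ⟨this, by rw [this] at h; omega⟩
  have hβeq := hexp (by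
    have : (1 + a ^ 2 : ℤ) ≤ (c ^ 2 * DX + 2 * c + 1) + (a ^ 2 * (m * t ^ 2 - 2 * t) + a ^ 2) := by
      rw [hC1, hT1]; ring_nf; rfl
    exact_mod_cast this)
  rw [Finset.sum_union hdisj] at hβeq
  -- the part of `β` in the image of `X`
  obtain ⟨σ', hσ', hσ'ag, hXpart⟩ : ∃ σ' : (L → ℂ) → (G → ℂ),
      IsLinearIsometryOn (zspan (↑Xf : Set (L → ℂ))) σ' ∧
      (∀ α ∈ zspanOn (↑Xf : Set (L → ℂ)) {1}ᶜ, σ' α = ind α) ∧
      ∑ φ ∈ Xf, classInner β (w φ) • w φ = σ' χ₀ := by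
    have hrw : ∑ φ ∈ Xf, classInner β (w φ) • w φ =
        ∑ φ ∈ Xf, ((x φ * c + (if φ = χ₀ then 1 else 0) : ℤ) : ℂ) • σ φ :=
      Finset.sum_congr rfl fun φ hφ => by rw [hwX φ hφ, hcX φ hφ]
    rcases hcc with hc0 | ⟨hc1, hD2⟩
    · refine ⟨σ, hσ, hσag, ?_⟩
      rw [hrw, Finset.sum_eq_single χ₀]
      · rw [if_pos rfl, hc0]; simp
      · intro φ _ hne; rw [if_neg hne, hc0]; simp
      · exact fun h => absurd hχ₀ h
    · obtain ⟨χ₁, hne, hset, -, hx1'⟩ := exists_pair Xf x (fun φ _ => hx0 φ) hX2 hD2 hχ₀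
      have hχ₁ : χ₁ ∈ Xf := Finset.mem_coe.1 (hset ▸ by simp)
      rw [hset] at hσ hσag ⊢
      obtain ⟨σ', h1, h2, h3⟩ := swap_pair (hirr _ (hXS _ hχ₀)) (hirr _ (hXS _ hχ₁)) hne.symm
        (by rw [hxdeg _ hχ₁, hx1']; simp) hσ hσag
      refine ⟨σ', h1, h2, ?_⟩
      rw [hrw, show Xf = {χ₀, χ₁} from Finset.coe_injective (by rw [hset]; simp),
        Finset.sum_pair hne.symm, if_pos rfl, if_neg hne, hx1, hx1', hc1, h3]
      simp
  -- the part of `β` in the image of `Y`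
  obtain ⟨ρ', hρ', hρ'ag, hYpart⟩ : ∃ ρ' : (L → ℂ) → (G → ℂ),
      IsLinearIsometryOn (zspan (↑Yf : Set (L → ℂ))) ρ' ∧
      (∀ α ∈ zspanOn (↑Yf : Set (L → ℂ)) {1}ᶜ, ρ' α = ind α) ∧
      ∑ φ ∈ Yf, classInner β (w φ) • w φ = -((a : ℂ) • ρ' η₀) := by
    have hrw : ∑ φ ∈ Yf, classInner β (w φ) • w φ =
        ∑ φ ∈ Yf, ((r + a - a * (if φ = η₀ then 1 else 0) : ℤ) : ℂ) • ρ φ :=
      Finset.sum_congr rfl fun φ hφ => by rw [hwY φ hφ, hcY φ hφ]
    rcases htc with ht0 | ⟨ht1, hm'⟩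
    · refine ⟨ρ, hρ, hρag, ?_⟩
      rw [hrw, hrt, ht0, Finset.sum_eq_single η₀]
      · rw [if_pos rfl]; simp
      · intro φ _ hne; rw [if_neg hne]; simp
      · exact fun h => absurd hη₀ h
    · obtain ⟨η₁, hne, hset, -, -⟩ := exists_pair Yf (fun _ => 1) (fun _ _ => one_pos) hY2
        (by simpa [← hm] using hm') hη₀
      have hη₁ : η₁ ∈ Yf := Finset.mem_coe.1 (hset ▸ by simp)
      rw [hset] at hρ hρag ⊢
      obtain ⟨ρ', h1, h2, h3⟩ := swap_pair (hirr _ (hYS _ hη₀)) (hirr _ (hYS _ hη₁)) hne.symm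
        (by rw [hYdeg _ hη₀, hYdeg _ hη₁]) hρ hρag
      refine ⟨ρ', h1, h2, ?_⟩
      rw [hrw, hrt, ht1, show Yf = {η₀, η₁} from Finset.coe_injective (by rw [hset]; simp),
        Finset.sum_pair hne.symm, if_pos rfl, if_neg hne, h3]
      simp
  rw [hXpart, hYpart] at hβeq
  have hXYcoh : IsCoherent (↑Xf ∪ ↑Yf : Set (L → ℂ)) {1}ᶜ ind :=
    (S1531.result L S ↑Xf ↑Yf hirr hXS' hYS' hXY' hXtwo hYtwo ind hτ hτ1 σ' ρ' hσ' hσ'ag
      hρ' hρ'ag).2 ⟨χ₀, hχ₀, η₀, hη₀, by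
        rw [hd₀, hYdeg _ hη₀]
        have h1 : ((a : ℂ) * (e : ℂ)) • η₀ - (e : ℂ) • χ₀ = (-(e : ℂ)) • v₀ := by
          rw [hv₀, ← Int.cast_smul_eq_zsmul ℂ a η₀]
          module
        rw [h1]
        show indFun L ((-(e : ℂ)) • v₀) = _
        rw [indFun_smul, show indFun L v₀ = β from rfl, hβeq]
        module⟩
  -- adjoin the rest
  have hfS : S.Finite := FrobK.finite_set (H := K) ⊥
  suffices h : IsCoherent S {1}ᶜ ind by
    convert h using 2
  rw [← Set.Finite.coe_toFinset hfS]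
  rw [← Finset.coe_union] at hXYcoh
  refine irr_adjoin hirr hτ hτ1 (Xf ∪ Yf) hfS.toFinset ?_ (by simp) ?_ hXYcoh
    (Finset.mem_union_right _ hη₀) (fun φ => ((p ^ k φ : ℕ) : ℤ)) ?_ ?_
  · rw [Finset.coe_union]; exact Set.union_subset hXS' hYS'
  · intro φ hφ
    rw [Set.Finite.mem_toFinset]
    exact (Finset.mem_union.1 hφ).elim (hXS φ) (hYS φ)
  · intro φ hφ
    rw [hYdeg _ hη₀, hk φ ((Set.Finite.mem_toFinset hfS).1 hφ)]
    push_cast; rfl
  intro φ hφ _
  rw [Finset.sum_union hdisj, hsumX]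
  have hφS := (Set.Finite.mem_toFinset hfS).1 hφ
  have h1 : p ^ k φ ≤ Z.relIndex K :=
    le_trans (Nat.pow_le_pow_right (Fact.out : p.Prime).pos (by omega))
      (Nat.le_of_dvd hq0 (hkdvd φ hφS))
  have h2 : 0 < ∑ η ∈ Yf, ((p ^ k η : ℕ) : ℤ) ^ 2 := by
    refine Finset.sum_pos (fun η _ => ?_) ⟨η₀, hη₀⟩
    have := pow_pos (Fact.out : p.Prime).pos (k η)
    exact pow_pos (by exact_mod_cast this) 2
  have h3 : 2 * p ^ k φ ≤ Z.relIndex K * q := by
    calc 2 * p ^ k φ ≤ Z.relIndex K * 2 := by omega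
      _ ≤ _ := Nat.mul_le_mul_left _ hq2
  have h3' : (2 : ℤ) * ((p ^ k φ : ℕ) : ℤ) ≤ ((Z.relIndex K * q : ℕ) : ℤ) := by exact_mod_cast h3
  linarith

end Cfsg.Agent.Coherence
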