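/-
The trichotomy for a TI subgroup which is a Frobenius kernel in its normaliser.

* `ti_set_eq`     : the character set of the statements is `inducedIrrAbove H ⊥`
* `frobK_fpf`     : `FrobK` from a fixed-point-free complement
* `ti_trichotomy` : one character and elementary abelian, or a non-abelian Sylow 2-subgroup with
  small derived index, or coherence
-/
import Cfsg.Agent.Lib.Coherence.Sibley
import Cfsg.Agent.Lib.Frobenius.Basic

set_option autoImplicit false
set_option linter.style.haveILetI false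
set_option linter.unusedSectionVars false

namespace Cfsg.Agent.Coherence

open Cfsg Cfsg.Agent.Char
open scoped commutatorElement ComplexConjugate

universe u
variable {G : Type u} [Group G] [Fintype G]

theorem ti_set_eq (H : Subgroup G) [Fintype ↥(Subgroup.normalizer (H : Set G))]
    (hF : FrobK (H.subgroupOf (Subgroup.normalizer (H : Set G)))) :
    {χ : ↥(Subgroup.normalizer (H : Set G)) → ℂ |
        IsIrrCharacter ↥(Subgroup.normalizer (H : Set G)) χ ∧
          ∃ x : ↥(Subgroup.normalizer (H : Set G)), (x : G) ∈ H ∧ χ x ≠ χ 1} =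
      inducedIrrAbove (H.subgroupOf (Subgroup.normalizer (H : Set G))) ⊥ := by
  rw [← hF.set_eq]
  ext χ
  simp only [Set.mem_ofPred_eq, Subgroup.mem_subgroupOf]

theorem frobK_fpf (H W : Subgroup G) (hW : W ≤ Subgroup.normalizer (H : Set G))
    (hsup : H ⊔ W = Subgroup.normalizer (H : Set G))
    (hfpf : ∀ w ∈ W, w ≠ 1 → ∀ h ∈ H, w * h = h * w → h = 1) :
    FrobK (H.subgroupOf (Subgroup.normalizer (H : Set G))) := by
  intro h hh h1 x hx
  rw [Subgroup.mem_centralizer_singleton_iff] at hx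
  rw [Subgroup.mem_subgroupOf] at hh ⊢
  have hxG : (x : G) * h = h * x := congrArg Subtype.val hx
  have hxs : (x : G) ∈ ((H ⊔ W : Subgroup G) : Set G) := by rw [hsup]; exact x.2
  rw [Subgroup.coe_mul_of_right_le_normalizer_left H W hW] at hxs
  obtain ⟨a, ha, w, hw, he⟩ := Set.mem_mul.1 hxs
  rcases eq_or_ne w 1 with rfl | hw1
  · rw [← he, mul_one]; exact ha
  exfalso
  obtain ⟨k, hk, e⟩ := Frobenius.FPF.exists_conj hfpf hw hw1 (hW hw) ha
  rw [he] at e
  have hc : w * (k⁻¹ * (h : G) * k) = k⁻¹ * (h : G) * k * w := by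
    rw [← e] at hxG
    calc w * (k⁻¹ * (h : G) * k) = k⁻¹ * (k * w * k⁻¹ * (h : G)) * k := by group
      _ = k⁻¹ * ((h : G) * (k * w * k⁻¹)) * k := by rw [hxG]
      _ = _ := by group
  have h2 := hfpf w hw hw1 _ (mul_mem (mul_mem (inv_mem hk) hh) hk) hc
  have h3 : (h : G) = 1 := by
    calc (h : G) = k * (k⁻¹ * (h : G) * k) * k⁻¹ := by group
      _ = 1 := by rw [h2]; group
  exact h1 (Subtype.ext h3)

variable {N : Type u} [Group N] [Fintype N] {K : Subgroup N} [K.Normal]

/-- An abelian kernel of order `e + 1` is elementary abelian. -/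
theorem FrobK.elementary (hC : FrobK K) (hK : K ≠ ⊥) (hab : IsMulCommutative K)
    (he : Nat.card K = K.index + 1) : ∃ p : ℕ, p.Prime ∧ ∀ a ∈ K, a ^ p = 1 := by
  obtain ⟨p, hp, hpd⟩ := Nat.exists_prime_and_dvd (n := Nat.card K)
    (fun e => hK (Subgroup.eq_bot_of_card_eq K e))
  haveI := Fact.mk hp
  refine ⟨p, hp, ?_⟩
  have hcm : ∀ a ∈ K, ∀ b ∈ K, Commute a b := fun a ha b hb =>
    congrArg Subtype.val (hab.1.1 ⟨a, ha⟩ ⟨b, hb⟩)
  let B : Subgroup N :=
    { carrier := {a | a ∈ K ∧ a ^ p = 1}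
      one_mem' := ⟨one_mem _, one_pow _⟩
      mul_mem' := fun {a b} ha hb => ⟨mul_mem ha.1 hb.1, by
        rw [(hcm a ha.1 b hb.1).mul_pow, ha.2, hb.2, one_mul]⟩
      inv_mem' := fun {a} ha => ⟨inv_mem ha.1, by rw [inv_pow, ha.2, inv_one]⟩ }
  haveI : B.Normal := ⟨fun a ha g => ⟨(inferInstance : K.Normal).conj_mem a ha.1 g, by
    rw [conj_pow, ha.2, mul_one, mul_inv_cancel]⟩⟩
  have hBK : B ≤ K := fun a ha => ha.1
  have hd := hC.dvd_relIndex_sub_one ⊥ B bot_le hBK fun h hh b hb => by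
    rw [Subgroup.mem_bot, (hcm h hh b hb.1).eq, mul_inv_cancel_right, mul_inv_cancel]
  rw [Subgroup.relIndex_bot_left] at hd
  have hB1 : 1 < Nat.card B := by
    obtain ⟨y, hy⟩ := exists_prime_orderOf_dvd_card' (G := K) p hpd
    rw [← Subgroup.orderOf_coe] at hy
    have hyB : (y : N) ∈ B := ⟨y.2, by rw [← hy, pow_orderOf_eq_one]⟩
    refine (B.one_lt_card_iff_ne_bot).2 fun e => hp.ne_one ?_
    rw [e, Subgroup.mem_bot] at hyB
    rw [← hy, hyB, orderOf_one]
  have hle := Subgroup.card_le_of_le hBK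
  have h1 := Nat.le_of_dvd (by omega) hd
  have hBK' : B = K := Subgroup.eq_of_le_of_card_ge hBK (by omega)
  exact fun a ha => (hBK'.symm ▸ ha : a ∈ B).2

theorem FrobK.card_eq_one (hC : FrobK K) (hab : IsMulCommutative K)
    (he : Nat.card K = K.index + 1) :
    Nat.card ↥(inducedIrrAbove K ⊥) = 1 := by
  classical
  have hf := FrobK.finite_set (H := K) (⊥ : Subgroup N)
  have hcomm : ⁅K, K⁆ ≤ (⊥ : Subgroup N) := by
    rw [Subgroup.commutator_le]
    intro a ha b hb
    rw [Subgroup.mem_bot, commutatorElement_eq_one_iff_mul_comm]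
    exact congrArg Subtype.val (hab.1.1 ⟨a, ha⟩ ⟨b, hb⟩)
  have h := hC.sum_sq ⊥ bot_le hf.toFinset (Set.Finite.coe_toFinset hf) (fun _ => 1) fun φ hφ => by
    rw [Int.cast_one, one_mul]
    exact FrobK.degree_of_commutator_le hcomm ((Set.Finite.mem_toFinset hf).1 hφ)
  rw [Subgroup.relIndex_bot_left, he, Nat.cast_add, Nat.cast_one, add_sub_cancel_right] at h
  simp only [one_pow, Finset.sum_const, nsmul_one] at h
  have he0 : (K.index : ℤ) ≠ 0 := by exact_mod_cast Subgroup.index_ne_zero_of_finite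
  have h2 : (hf.toFinset.card : ℤ) = 1 := by
    refine mul_left_cancel₀ he0 ?_
    rw [mul_one]; exact h
  rw [Nat.card_eq_card_finite_toFinset hf]
  exact_mod_cast h2

omit N K in
theorem ti_trichotomy (H : Subgroup G) (hH1 : H ≠ ⊥) (hTI : IsTISubset (H : Set G))
    (hlt : H < Subgroup.normalizer (H : Set G)) [Fintype ↥(Subgroup.normalizer (H : Set G))]
    (hF : FrobK (H.subgroupOf (Subgroup.normalizer (H : Set G)))) :
    (Nat.card ↥(inducedIrrAbove (H.subgroupOf (Subgroup.normalizer (H : Set G))) ⊥) = 1 ∧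
      IsMulCommutative H ∧
      Nat.card H = (H.subgroupOf (Subgroup.normalizer (H : Set G))).index + 1 ∧
      ∃ p : ℕ, p.Prime ∧ IsElementaryAbelian p H) ∨
    (Nat.card H = 2 ^ (Nat.card G).factorization 2 ∧
      (⁅H, H⁆.subgroupOf H).index <
        4 * (H.subgroupOf (Subgroup.normalizer (H : Set G))).index ^ 2) ∨
    IsCoherent (inducedIrrAbove (H.subgroupOf (Subgroup.normalizer (H : Set G))) ⊥) {1}ᶜ
      (fun α => indFun (Subgroup.normalizer (H : Set G)) α) := by
  have hHL : H ≤ Subgroup.normalizer (H : Set G) := Subgroup.le_normalizer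
  have eH := Subgroup.subgroupOfEquivOfLe hHL
  have hcardH := Nat.card_congr eH.toEquiv
  have hK1 := subgroupOf_ne_bot hH1
  have hK2 := subgroupOf_ne_top hlt
  obtain ⟨hτ, hτ1⟩ := ti_isometry H hTI
  rcases hF.feit hK1 hK2 hτ hτ1 with h | ⟨hab, hcard⟩ | ⟨p, hp, ⟨m, hm⟩, hna, hn⟩
  · exact Or.inr (Or.inr h)
  · obtain ⟨p, hp, hel⟩ := hF.elementary hK1 hab hcard
    have hab' : IsMulCommutative H := ⟨⟨fun a b => eH.symm.injective (by
      rw [map_mul, map_mul]; exact hab.1.1 _ _)⟩⟩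
    refine Or.inl ⟨hF.card_eq_one hab hcard, hab', hcardH ▸ hcard, p, hp, hab', fun a ha => ?_⟩
    exact congrArg Subtype.val (hel ⟨a, hHL ha⟩ (Subgroup.mem_subgroupOf.2 ha))
  haveI := Fact.mk hp
  have hP : IsPGroup p H := IsPGroup.of_card (hcardH ▸ hm)
  obtain ⟨P, rfl⟩ := sylow_of_frobK H hP hH1 hF
  have hnaP : ¬ IsMulCommutative (P : Subgroup G) := fun h => hna ⟨⟨fun a b => eH.injective (by
    rw [map_mul, map_mul]; exact h.1.1 _ _)⟩⟩
  rcases eq_or_ne p 2 with rfl | hp2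
  swap
  · exact Or.inr (Or.inr (sibley hp2 P hTI hF hlt hnaP))
  refine Or.inr (Or.inl ⟨P.card_eq_multiplicity, ?_⟩)
  set L := Subgroup.normalizer ((P : Subgroup G) : Set G)
  set K' := (P : Subgroup G).subgroupOf L with hK'
  have hDle : ⁅(P : Subgroup G), (P : Subgroup G)⁆ ≤ (P : Subgroup G) :=
    Subgroup.commutator_le.2 fun a ha b hb => by
      rw [commutatorElement_def]
      exact mul_mem (mul_mem (mul_mem ha hb) (inv_mem ha)) (inv_mem hb)
  have hD : ⁅K', K'⁆ = ⁅(P : Subgroup G), (P : Subgroup G)⁆.subgroupOf L := by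
    apply Subgroup.map_injective L.subtype_injective
    rw [Subgroup.map_commutator, hK', Subgroup.map_subgroupOf_eq_of_le hHL,
      Subgroup.map_subgroupOf_eq_of_le (hDle.trans hHL)]
  rw [hD, hK', Subgroup.relIndex_subgroupOf hHL] at hn
  show Subgroup.relIndex _ _ < _
  set n := ⁅(P : Subgroup G), (P : Subgroup G)⁆.relIndex (P : Subgroup G) with hndef
  set e := K'.index with hedef
  have hm' : Nat.card (P : Subgroup G) = 2 ^ m := hcardH ▸ hm
  obtain ⟨i, -, hi⟩ := (Nat.dvd_prime_pow Nat.prime_two).1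
    (hm' ▸ Subgroup.index_dvd_card (⁅(P : Subgroup G), (P : Subgroup G)⁆.subgroupOf (P : Subgroup G)))
  change n = 2 ^ i at hi
  have heodd : ¬ 2 ∣ e := fun h => by
    have hm0 : m ≠ 0 := by
      rintro rfl
      exact hH1 (Subgroup.eq_bot_of_card_eq _ hm')
    exact (Nat.prime_two).ne_one (Nat.eq_one_of_dvd_coprimes hF.hall
      (hm ▸ dvd_pow_self 2 hm0) h)
  have he1 : e ≠ 1 := fun h => hK2 (Subgroup.index_eq_one.1 h)
  have he0 : e ≠ 0 := Subgroup.index_ne_zero_of_finite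
  have hne1 : n ≠ 4 * e ^ 2 := by
    intro h
    have h2 : e ∣ 2 ^ i := ⟨4 * e, by rw [← hi, h]; ring⟩
    obtain ⟨j, -, hj⟩ := (Nat.dvd_prime_pow Nat.prime_two).1 h2
    rcases j with _ | j
    · exact he1 (by simpa using hj)
    · exact heodd (hj ▸ dvd_pow_self 2 j.succ_ne_zero)
  have hne2 : n ≠ 4 * e ^ 2 + 1 := by
    intro h
    rcases i with _ | i
    · rw [hi, pow_zero] at h
      have : 0 < e ^ 2 := pow_pos (Nat.pos_of_ne_zero he0) 2
      omega
    · rw [hi, pow_succ] at h; omega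
  omega

end Cfsg.Agent.Coherence
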