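/-
Exceptional characters at a TI subgroup with Frobenius normaliser.

* `FrobK.sum_kernel_eq_zero`, `FrobK.sum_inflated`, `FrobK.const_of_orth`, `FrobK.orth_of_const`
* `tifn_mem_iff`, `tifn_ind_apply`, `tifn_restrict_inner`
-/
import Cfsg.Agent.Lib.Coherence.Sibley

set_option autoImplicit false
set_option linter.style.haveILetI false
set_option linter.unusedSectionVars false

namespace Cfsg.Agent.Coherence

open Cfsg Cfsg.Agent.Char
open scoped ComplexConjugate

universe u
variable {N : Type u} [Group N] [Fintype N] {H : Subgroup N} [H.Normal]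

theorem sum_kernel_eq_zero [Fintype H] {χ : N → ℂ} (hχ : χ ∈ inducedIrrAbove H ⊥) :
    ∑ h : H, χ (h : N) = 0 := by
  classical
  obtain ⟨θ, h1, h2, -, rfl⟩ := hχ
  have hθ : ∑ h : H, θ h = 0 := by
    have := classInner_irr_of_ne h1 isIrrCharacter_one h2
    simpa [Cfsg.classInner, Nat.card_eq_fintype_card, Fintype.card_ne_zero] using this
  simp only [Cfsg.indFun, ← Finset.mul_sum]
  rw [Finset.sum_comm, Finset.sum_eq_zero, mul_zero]
  intro x _
  rw [← hθ]
  refine Fintype.sum_equiv (MulAut.conjNormal (x⁻¹ : N)).toEquiv _ _ fun h => ?_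
  have hx : (x⁻¹ * (h : N) * x) ∈ H := by
    simpa using (inferInstance : H.Normal).conj_mem _ h.2 x⁻¹
  rw [extendByZero_mem H θ hx]
  exact congrArg θ (Subtype.ext (by simp [MulAut.conjNormal_apply]))

namespace FrobK

theorem eq_one_on_out (hC : FrobK H) {χ : IrrCharacter N}
    (hχ : (χ : N → ℂ) ∉ inducedIrrAbove H ⊥) : ∀ h ∈ H, (χ : N → ℂ) h = (χ : N → ℂ) 1 := by
  intro h hh
  by_contra hne
  exact hχ (hC.set_eq ▸ ⟨χ.2, h, hh, hne⟩)

open Classical in
/-- The squares of the degrees of the characters trivial on `H` add up to the index. -/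
theorem sum_inflated (hC : FrobK H) [Fintype (IrrCharacter N)] :
    ∑ χ ∈ Finset.univ.filter (fun χ : IrrCharacter N => (χ : N → ℂ) ∉ inducedIrrAbove H ⊥),
      (χ : N → ℂ) 1 ^ 2 = (H.index : ℂ) := by
  haveI := Fintype.ofFinite H
  set f : N → ℂ := fun n => if n ∈ H then 1 else 0 with hf
  have hfc : IsClassFunction N f := by
    intro g x
    simp only [hf]
    have : x * g * x⁻¹ ∈ H ↔ g ∈ H :=
      ⟨fun h => by simpa [mul_assoc] using (inferInstance : H.Normal).conj_mem _ h x⁻¹,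
        fun h => (inferInstance : H.Normal).conj_mem _ h x⟩
    simp only [this]
  have hsum : ∀ χ : N → ℂ, classInner f χ = (Nat.card N : ℂ)⁻¹ * ∑ h : H, conj (χ (h : N)) := by
    intro χ
    rw [Cfsg.classInner]
    congr 1
    rw [← Finset.sum_filter_add_sum_filter_not Finset.univ (· ∈ H),
      Finset.sum_eq_zero (s := Finset.univ.filter fun x => ¬ x ∈ H) fun x hx => by
        simp [hf, (Finset.mem_filter.1 hx).2], add_zero,
      Finset.sum_subtype (p := (· ∈ H)) _ (fun x => by simp)]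
    exact Finset.sum_congr rfl fun h _ => by simp [hf]
  have h1 := congrFun (classFunction_eq_sum hfc) 1
  simp only [Finset.sum_apply, Pi.smul_apply, smul_eq_mul, hsum] at h1
  rw [Finset.sum_congr rfl (g := fun χ : IrrCharacter N =>
    if (χ : N → ℂ) ∉ inducedIrrAbove H ⊥ then
      (Nat.card N : ℂ)⁻¹ * (Nat.card H : ℂ) * (χ : N → ℂ) 1 ^ 2 else 0) ?_,
    ← Finset.sum_filter, ← Finset.mul_sum] at h1
  · have hf1 : f 1 = 1 := by simp [hf]
    rw [hf1, ← Subgroup.card_mul_index H, Nat.cast_mul] at h1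
    have a : (Nat.card H : ℂ) ≠ 0 := Nat.cast_ne_zero.2 Nat.card_pos.ne'
    have b : (H.index : ℂ) ≠ 0 := Nat.cast_ne_zero.2 Subgroup.index_ne_zero_of_finite
    field_simp at h1
    exact h1.symm
  · intro χ _
    by_cases hm : (χ : N → ℂ) ∈ inducedIrrAbove H ⊥
    · rw [if_neg (fun h => h hm), ← map_sum, sum_kernel_eq_zero hm, map_zero, mul_zero, zero_mul]
    · rw [if_pos hm, Finset.sum_congr rfl (g := fun _ => (χ : N → ℂ) 1) fun h _ => by
        rw [hC.eq_one_on_out hm h h.2,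
          IsCharacter.conj_apply_one (IsIrrCharacter.isCharacter χ.2)],
        Finset.sum_const, Finset.card_univ, nsmul_eq_mul, ← Nat.card_eq_fintype_card]
      ring

/-- A class function orthogonal to the members of `zspan S` vanishing at `1` is constant on the
non-identity elements of `H`; the constant is an integer for a generalized character. -/
theorem const_of_orth (hC : FrobK H) (hH1 : H ≠ ⊥) (hH2 : H ≠ ⊤) {f : N → ℂ}
    (hf : IsClassFunction N f)
    (horth : ∀ α ∈ zspanOn (inducedIrrAbove H ⊥) {1}ᶜ, classInner f α = 0) :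
    ∃ d : ℂ, (∀ h ∈ H, h ≠ 1 → f h = d) ∧ (IsGeneralizedCharacter N f → ∃ m : ℤ, d = m) := by
  classical
  haveI := Fintype.ofFinite (IrrCharacter N)
  haveI := hC.nilpotent hH2
  haveI : Group.IsSolvable H := inferInstance
  obtain ⟨χ₁, hχ₁, hχ₁d⟩ := exists_linear_mem (K := H) ⊥ inferInstance (bot_lt_iff_ne_bot.2 hH1)
  set c₁ := classInner f χ₁ with hc₁
  set out := Finset.univ.filter (fun χ : IrrCharacter N => (χ : N → ℂ) ∉ inducedIrrAbove H ⊥)
    with hout
  refine ⟨-c₁ + ∑ χ ∈ out, classInner f (χ : N → ℂ) * (χ : N → ℂ) 1, fun h hh h1 => ?_,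
    fun hgc => ?_⟩
  · have he : (H.index : ℂ) ≠ 0 := Nat.cast_ne_zero.2 Subgroup.index_ne_zero_of_finite
    have hc : ∀ χ : IrrCharacter N, (χ : N → ℂ) ∈ inducedIrrAbove H ⊥ →
        classInner f (χ : N → ℂ) = c₁ * (χ : N → ℂ) 1 / (H.index : ℂ) := by
      intro χ hχ
      obtain ⟨x, -, hx⟩ := hC.degree hχ
      have h0 := horth ((χ : N → ℂ) - x • χ₁) (mem_zspanOn_one.2
        ⟨zspan_sub (subset_zspan hχ) (zspan_zsmul x (subset_zspan hχ₁)), by simp [hx, hχ₁d]⟩)
      rw [classInner_sub_right, classInner_zsmul_right, sub_eq_zero] at h0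
      rw [h0, hx, hc₁]
      field_simp
    have hreg := sum_degree_mul_apply (G := N) h
    rw [if_neg h1, ← Finset.sum_filter_not_add_sum_filter Finset.univ
      (fun χ : IrrCharacter N => (χ : N → ℂ) ∉ inducedIrrAbove H ⊥), ← hout,
      Finset.sum_congr rfl (s₁ := out) (g := fun χ : IrrCharacter N => (χ : N → ℂ) 1 ^ 2)
        (fun χ hχ => by rw [hC.eq_one_on_out (Finset.mem_filter.1 hχ).2 h hh, sq]),
      hC.sum_inflated] at hreg
    rw [congrFun (classFunction_eq_sum hf) h, Finset.sum_apply,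
      ← Finset.sum_filter_not_add_sum_filter Finset.univ
      (fun χ : IrrCharacter N => (χ : N → ℂ) ∉ inducedIrrAbove H ⊥), ← hout]
    congr 1
    · rw [Finset.sum_congr rfl (g := fun χ : IrrCharacter N =>
        c₁ / (H.index : ℂ) * ((χ : N → ℂ) 1 * (χ : N → ℂ) h)) fun χ hχ => by
          rw [Pi.smul_apply, smul_eq_mul, hc χ (not_not.1 (Finset.mem_filter.1 hχ).2)]; ring,
        ← Finset.mul_sum, eq_neg_of_add_eq_zero_left hreg]
      field_simp
    · exact Finset.sum_congr rfl fun χ hχ => by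
        rw [Pi.smul_apply, smul_eq_mul, hC.eq_one_on_out (Finset.mem_filter.1 hχ).2 h hh]
  · have key : ∀ χ : IrrCharacter N,
        ∃ m : ℤ, classInner f (χ : N → ℂ) * (χ : N → ℂ) 1 = (m : ℂ) := by
      intro χ
      obtain ⟨a, ha⟩ := classInner_gc_int hgc (isGC_of_irr χ.2)
      obtain ⟨b, -, hb⟩ := irr_int_degree χ.2
      exact ⟨a * b, by rw [ha, hb, Int.cast_mul]⟩
    choose m hm using key
    obtain ⟨a, ha⟩ := classInner_gc_int hgc (isGC_of_irr (hC.irr_of_mem hχ₁))
    exact ⟨-a + ∑ χ ∈ out, m χ, by push_cast; rw [hc₁, ha]; simp [hm]⟩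

/-- Conversely, a class function constant on `H` minus the identity is orthogonal to the members
of `zspan S` vanishing at `1`. -/
theorem orth_of_const {f : N → ℂ} {d : ℂ} (hd : ∀ h ∈ H, h ≠ 1 → f h = d) {α : N → ℂ}
    (hα : α ∈ zspanOn (inducedIrrAbove H ⊥) {1}ᶜ) : classInner f α = 0 := by
  classical
  haveI := Fintype.ofFinite H
  obtain ⟨hα1, hα0⟩ := mem_zspanOn_one.1 hα
  have key : (∀ x ∉ H, α x = 0) ∧ ∑ h : H, α (h : N) = 0 := by
    refine zspan_induction (P := fun β : N → ℂ => (∀ x ∉ H, β x = 0) ∧ ∑ h : H, β (h : N) = 0)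
      ?_ ⟨fun _ _ => rfl, by simp⟩ (fun a _ b _ ha hb => ⟨fun x hx => by simp [ha.1 x hx, hb.1 x hx],
        by simp [Finset.sum_add_distrib, ha.2, hb.2]⟩)
      (fun n a _ ha => ⟨fun x hx => by simp [ha.1 x hx],
        by simp [← Finset.mul_sum, ha.2]⟩) hα1
    intro φ hφ
    refine ⟨fun x hx => ?_, sum_kernel_eq_zero hφ⟩
    obtain ⟨θ, -, -, -, rfl⟩ := hφ
    exact CliffordChar.indFun_not_mem H θ hx
  rw [Cfsg.classInner, ← Finset.sum_filter_add_sum_filter_not Finset.univ (· ∈ H),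
    Finset.sum_eq_zero (s := Finset.univ.filter fun x => ¬ x ∈ H) fun x hx => by
      simp [key.1 x (Finset.mem_filter.1 hx).2], add_zero,
    Finset.sum_subtype (p := (· ∈ H)) _ (fun x => by simp),
    Finset.sum_congr rfl (g := fun h : H => d * conj (α (h : N))) fun h _ => by
      by_cases h1 : (h : N) = 1
      · simp [h1, hα0]
      · rw [hd h h.2 h1],
    ← Finset.mul_sum, ← map_sum, key.2, map_zero, mul_zero, mul_zero]

end FrobK

section TI

variable {G : Type u} [Group G] [Fintype G] (K : Subgroup G)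

theorem tifn_set (hC : ∀ k ∈ K, k ≠ 1 → Subgroup.centralizer ({k} : Set G) ≤ K)
    [Fintype ↥(Subgroup.normalizer (K : Set G))] :
    {χ : ↥(Subgroup.normalizer (K : Set G)) → ℂ |
      IsIrrCharacter ↥(Subgroup.normalizer (K : Set G)) χ ∧
      ∃ k : ↥(Subgroup.normalizer (K : Set G)), (k : G) ∈ K ∧ χ k ≠ χ 1} =
    inducedIrrAbove (K.subgroupOf (Subgroup.normalizer (K : Set G))) ⊥ :=
  (frobK_ti K hC).set_eq

theorem tifn_ind_apply (hTI : IsTISubset (K : Set G)) {α : ↥(Subgroup.normalizer (K : Set G)) → ℂ}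
    [Fintype ↥(Subgroup.normalizer (K : Set G))]
    (hα : α ∈ zspan (inducedIrrAbove (K.subgroupOf (Subgroup.normalizer (K : Set G))) ⊥))
    (k : ↥(Subgroup.normalizer (K : Set G))) (hk : (k : G) ∈ K) (hk1 : k ≠ 1) :
    indFun (Subgroup.normalizer (K : Set G)) α (k : G) = α k := by
  have key : IsClassFunction _ α ∧
      ∀ x : ↥(Subgroup.normalizer (K : Set G)), (x : G) ∉ (K : Set G) → α x = 0 := by
    refine zspan_induction (P := fun β : ↥(Subgroup.normalizer (K : Set G)) → ℂ =>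
      IsClassFunction _ β ∧ ∀ x : ↥(Subgroup.normalizer (K : Set G)), (x : G) ∉ (K : Set G) → β x = 0)
      ?_ ⟨fun _ _ => rfl, fun _ _ => rfl⟩
      (fun a _ b _ ha hb => ⟨isClassFunction_add ha.1 hb.1,
        fun x hx => by simp [ha.2 x hx, hb.2 x hx]⟩)
      (fun n a _ ha => ⟨fun g x => by simp [ha.1 g x], fun x hx => by simp [ha.2 x hx]⟩) hα
    rintro φ ⟨θ, -, -, -, rfl⟩
    exact ⟨indFun_isClassFunction _ θ, fun x hx => CliffordChar.indFun_not_mem _ θ
      (by rwa [Subgroup.mem_subgroupOf])⟩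
  exact indFun_eq_on_ti (K : Set G) hTI key.1 key.2 k hk hk1

theorem tifn_ne_bot [Fintype ↥(Subgroup.normalizer (K : Set G))]
    {χ : ↥(Subgroup.normalizer (K : Set G)) → ℂ}
    (h : ∃ k : ↥(Subgroup.normalizer (K : Set G)), (k : G) ∈ K ∧ χ k ≠ χ 1) : K ≠ ⊥ := by
  rintro rfl
  obtain ⟨k, hk, hne⟩ := h
  exact hne (by rw [show k = 1 from Subtype.ext (Subgroup.mem_bot.1 hk)])

theorem tifn_inner [Fintype ↥(Subgroup.normalizer (K : Set G))] {Φ : G → ℂ}
    (hΦ : IsClassFunction G Φ) (α : ↥(Subgroup.normalizer (K : Set G)) → ℂ) :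
    classInner (fun x : ↥(Subgroup.normalizer (K : Set G)) => Φ x) α =
      classInner Φ (indFun (Subgroup.normalizer (K : Set G)) α) :=
  (frobenius_reciprocity' _ α hΦ).symm

/-- Equal degrees make `star` on a coherent set have one sign. -/
theorem signed_same_sign {μ ν : G → ℂ} (hμ : IsSignedIrr G μ) (hν : IsSignedIrr G ν)
    (h : μ 1 = ν 1) :
    (IsIrrCharacter G μ ∧ IsIrrCharacter G ν) ∨ (IsIrrCharacter G (-μ) ∧ IsIrrCharacter G (-ν)) := by
  have hh := congrArg Complex.re h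
  rcases hμ with a | a <;> rcases hν with b | b
  · exact Or.inl ⟨a, b⟩
  · have h1 := re_degree_pos a
    have h2 := re_degree_pos b
    simp at h2
    linarith
  · have h1 := re_degree_pos a
    have h2 := re_degree_pos b
    simp at h1
    linarith
  · exact Or.inr ⟨a, b⟩

end TI

end Cfsg.Agent.Coherence
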