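/-
Inner products in a Frobenius group with kernel `K`, computed on `K^#`.

* `kSharp K`, `classInner_supp`, `indFun_of_const`
* `FrobK.regular_part` : `∑_{φ ∈ S} φ(1) φ = Ind_K (ρ - 1)`
* `augFun K χ` : `1_K^N - χ`, with `augFun_apply_one`, `inner_augFun_*`
* `FrobK.values` : the sums over `K^#` of a function with proportional inner products against `S`
-/
import Cfsg.Agent.Lib.Coherence.FrobKernel

set_option autoImplicit false
set_option linter.style.haveILetI false
set_option linter.unusedSectionVars false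

namespace Cfsg.Agent.Coherence

open Cfsg Cfsg.Agent.Char
open scoped ComplexConjugate

universe u
variable {N : Type u} [Group N] [Fintype N] {K : Subgroup N}

open Classical in
/-- The non-identity elements of `K`. -/
noncomputable def kSharp (K : Subgroup N) : Finset N :=
  Finset.univ.filter fun x => x ∈ K ∧ x ≠ 1

theorem mem_kSharp {x : N} : x ∈ kSharp K ↔ x ∈ K ∧ x ≠ 1 := by
  simp [kSharp]

theorem sum_supp {f : N → ℂ} (hf : ∀ x, x ∉ K → f x = 0) :
    ∑ x, f x = f 1 + ∑ x ∈ kSharp K, f x := by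
  classical
  rw [← Finset.add_sum_erase _ _ (Finset.mem_univ (1 : N))]
  congr 1
  symm
  refine Finset.sum_subset (fun x hx => Finset.mem_erase.2 ⟨(mem_kSharp.1 hx).2, Finset.mem_univ _⟩)
    fun x hx hx' => hf x fun h => hx' (mem_kSharp.2 ⟨h, (Finset.mem_erase.1 hx).1⟩)

theorem card_cast : (Nat.card N : ℂ) = (Nat.card K : ℂ) * (K.index : ℂ) := by
  rw [← Nat.cast_mul, Subgroup.card_mul_index]

theorem classInner_supp {f : N → ℂ} (hf : ∀ x, x ∉ K → f x = 0) (g : N → ℂ) :
    (Nat.card K : ℂ) * (K.index : ℂ) * classInner f g =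
      f 1 * conj (g 1) + ∑ x ∈ kSharp K, f x * conj (g x) := by
  rw [classInner, ← card_cast, ← mul_assoc, mul_inv_cancel₀ (Nat.cast_ne_zero.2 Nat.card_pos.ne'),
    one_mul]
  exact sum_supp fun x hx => by rw [hf x hx, zero_mul]

theorem card_kSharp : ((kSharp K).card : ℂ) = (Nat.card K : ℂ) - 1 := by
  classical
  have h : Finset.univ.filter (fun x : N => x ∈ K) = insert 1 (kSharp K) := by
    ext x
    simp only [Finset.mem_filter, Finset.mem_univ, true_and, Finset.mem_insert, mem_kSharp]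
    constructor
    · intro hx; by_cases h1 : x = 1
      · exact Or.inl h1
      · exact Or.inr ⟨hx, h1⟩
    · rintro (rfl | h)
      · exact one_mem _
      · exact h.1
  have h2 : Nat.card K = (kSharp K).card + 1 := by
    rw [Nat.card_eq_fintype_card, Fintype.card_subtype, h,
      Finset.card_insert_of_notMem fun h => (mem_kSharp.1 h).2 rfl]
  rw [h2]; push_cast; ring

theorem card_kSharp_real : ((kSharp K).card : ℝ) = (Nat.card K : ℝ) - 1 := by
  have h : (((kSharp K).card : ℝ) : ℂ) = (((Nat.card K : ℝ) - 1 : ℝ) : ℂ) := by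
    push_cast; exact card_kSharp
  exact Complex.ofReal_injective h

variable [K.Normal]

theorem indFun_of_const (θ : K → ℂ) (x : N) (hx : x ∈ K) (c : ℂ)
    (hθ : ∀ (y : N) (h : y⁻¹ * x * y ∈ K), θ ⟨_, h⟩ = c) :
    indFun K θ x = (K.index : ℂ) * c := by
  classical
  simp only [Cfsg.indFun]
  have hk : ∀ y : N, y⁻¹ * x * y ∈ K := fun y => by
    simpa using (inferInstance : K.Normal).conj_mem x hx y⁻¹
  rw [Finset.sum_congr rfl fun y _ => (by
    rw [Char.extendByZero_eq, dif_pos (hk y)]; exact hθ y (hk y) :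
      extendByZero K θ (y⁻¹ * x * y) = c)]
  rw [Finset.sum_const, Finset.card_univ, nsmul_eq_mul, ← Nat.card_eq_fintype_card, card_cast (K := K),
    ← mul_assoc, ← mul_assoc, inv_mul_cancel₀ (Nat.cast_ne_zero.2 Nat.card_pos.ne'), one_mul]

theorem mem_inducedSet_supp {A : Subgroup N} {φ : N → ℂ} (hφ : φ ∈ inducedIrrAbove K A) :
    ∀ x, x ∉ K → φ x = 0 := by
  obtain ⟨θ, -, -, -, rfl⟩ := hφ
  exact fun x hx => CliffordChar.indFun_not_mem K θ hx

theorem finite_induced : (inducedIrrAbove K ⊥).Finite := by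
  haveI := Fintype.ofFinite (IrrCharacter K)
  refine Set.Finite.subset (Set.finite_range fun θ : IrrCharacter K => indFun K (θ : K → ℂ)) ?_
  rintro φ ⟨θ, h1, -, -, rfl⟩
  exact ⟨⟨θ, h1⟩, rfl⟩

namespace FrobK

theorem regular_part (hC : FrobK K) (s : Finset (N → ℂ))
    (hs : (↑s : Set (N → ℂ)) = inducedIrrAbove K ⊥) [DecidableEq K] :
    ∑ φ ∈ s, φ 1 • φ =
      indFun K (fun k : K => (if k = 1 then (Nat.card K : ℂ) else 0) - 1) := by
  classical
  haveI := Fintype.ofFinite (IrrCharacter K)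
  haveI := Fintype.ofFinite K
  let one : IrrCharacter K := ⟨fun _ => 1, Char.isIrrCharacter_one⟩
  have hone : ∀ θ : IrrCharacter K, θ ≠ one ↔ (θ : K → ℂ) ≠ fun _ => 1 := fun θ =>
    ⟨fun h e => h (Subtype.ext e), fun h e => h (congrArg Subtype.val e)⟩
  have hbot : ∀ (f : K → ℂ) (a : K), (a : N) ∈ (⊥ : Subgroup N) → f a = f 1 := fun f a ha => by
    rw [show a = 1 from Subtype.ext (Subgroup.mem_bot.1 ha)]
  set T := (Finset.univ : Finset (IrrCharacter K)).erase one with hT
  have hfun : (fun k : K => (if k = 1 then (Nat.card K : ℂ) else 0) - 1) =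
      ∑ θ ∈ T, ((θ : K → ℂ) 1) • (θ : K → ℂ) := by
    funext k
    rw [Finset.sum_apply, hT, Finset.sum_erase_eq_sub (Finset.mem_univ one),
      ← Char.sum_degree_mul_apply k]
    simp [one]
  have himg : T.image (fun θ : IrrCharacter K => indFun K (θ : K → ℂ)) = s := by
    apply Finset.coe_injective
    rw [hs, Finset.coe_image]
    ext φ
    simp only [hT, Finset.coe_erase, Finset.coe_univ, Set.mem_image, Set.mem_diff, Set.mem_univ,
      true_and, Set.mem_singleton_iff]
    constructor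
    · rintro ⟨θ, h1, rfl⟩; exact ⟨θ, θ.2, (hone θ).1 h1, hbot _, rfl⟩
    · rintro ⟨θ, h0, h1, -, rfl⟩; exact ⟨⟨θ, h0⟩, (hone _).2 h1, rfl⟩
  rw [hfun, indFun_sum, ← Finset.sum_fiberwise_of_maps_to (s := T) (t := s)
      (g := fun θ : IrrCharacter K => indFun K (θ : K → ℂ))
      (fun θ hθ => himg ▸ Finset.mem_image_of_mem _ hθ)]
  refine Finset.sum_congr rfl fun φ hφ => ?_
  rw [Finset.sum_congr rfl (g := fun θ : IrrCharacter K => ((θ : K → ℂ) 1) • φ) fun θ hθ => by
    rw [indFun_smul, (Finset.mem_filter.1 hθ).2], ← Finset.sum_smul]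
  congr 1
  have hφirr := hC.irr_of_mem (hs ▸ hφ : φ ∈ inducedIrrAbove K ⊥)
  rw [← himg, Finset.mem_image] at hφ
  obtain ⟨θ₀, hθ₀, rfl⟩ := hφ
  rw [norm_mul_sum θ₀.2, Char.classInner_irr_self hφirr, one_mul]
  refine Finset.sum_congr ?_ fun _ _ => rfl
  ext θ
  simp only [hT, Finset.mem_filter, Finset.mem_erase, Finset.mem_univ, and_true, true_and]
  exact ⟨fun h => ⟨(hone θ).2 (eq_of_indFun_eq ⊥ bot_le θ₀.2 θ.2 h
    ((hone θ₀).1 (Finset.mem_erase.1 hθ₀).1) (hbot _)).1, h⟩, fun h => h.2⟩

end FrobK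

/-- `1_K^N - χ`. -/
noncomputable def augFun (K : Subgroup N) (χ : N → ℂ) : N → ℂ :=
  indFun K (fun _ => 1) - χ

variable {χ : N → ℂ}

theorem indOne_apply {x : N} (hx : x ∈ K) : indFun K (fun _ : K => (1 : ℂ)) x = (K.index : ℂ) := by
  rw [indFun_of_const (fun _ => 1) x hx 1 fun _ _ => rfl, mul_one]

theorem augFun_mem {x : N} (hx : x ∈ K) : augFun K χ x = (K.index : ℂ) - χ x := by
  rw [augFun, Pi.sub_apply, indOne_apply hx]

theorem augFun_supp (hχ : χ ∈ inducedIrrAbove K ⊥) : ∀ x, x ∉ K → augFun K χ x = 0 := fun x hx => by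
  rw [augFun, Pi.sub_apply, CliffordChar.indFun_not_mem K _ hx, mem_inducedSet_supp hχ x hx,
    sub_zero]

theorem augFun_apply_one (hd : χ 1 = (K.index : ℂ)) : augFun K χ 1 = 0 := by
  rw [augFun_mem (one_mem K), hd, sub_self]

theorem isGC_augFun (hC : FrobK K) (hχ : χ ∈ inducedIrrAbove K ⊥) :
    IsGeneralizedCharacter N (augFun K χ) :=
  isGC_sub (isGC_of_isCharacter (IsCharacter.indFun (H := K)
    (IsIrrCharacter.isCharacter isIrrCharacter_one))) (isGC_of_irr (hC.irr_of_mem hχ))

theorem inner_one (hχ : χ ∈ inducedIrrAbove K ⊥) : classInner χ (fun _ : N => 1) = 0 := by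
  obtain ⟨θ, h1, h2, -, rfl⟩ := hχ
  haveI := Fintype.ofFinite K
  rw [Char.frobenius_reciprocity K θ (χ := fun _ : N => (1 : ℂ))
    (IsIrrCharacter.isClassFunction isIrrCharacter_one)]
  exact Char.classInner_irr_of_ne h1 isIrrCharacter_one h2

theorem sum_chi (hχ : χ ∈ inducedIrrAbove K ⊥) (hd : χ 1 = (K.index : ℂ)) :
    ∑ x ∈ kSharp K, χ x = -(K.index : ℂ) := by
  have h := classInner_supp (mem_inducedSet_supp hχ) (fun _ => 1)
  rw [inner_one hχ, mul_zero, hd] at h
  simp only [map_one, mul_one] at h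
  linear_combination -h

theorem sum_chi_sq (hC : FrobK K) (hχ : χ ∈ inducedIrrAbove K ⊥) (hd : χ 1 = (K.index : ℂ)) :
    ∑ x ∈ kSharp K, χ x * conj (χ x) =
      (Nat.card K : ℂ) * (K.index : ℂ) - (K.index : ℂ) ^ 2 := by
  have h := classInner_supp (mem_inducedSet_supp hχ) χ
  rw [Char.classInner_irr_self (hC.irr_of_mem hχ), mul_one, hd, Complex.conj_natCast] at h
  linear_combination -h

theorem inner_augFun_one (hχ : χ ∈ inducedIrrAbove K ⊥) :
    classInner (augFun K χ) (fun _ => 1) = 1 := by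
  rw [augFun, classInner_sub_left, inner_one hχ, sub_zero]
  haveI := Fintype.ofFinite K
  rw [Char.frobenius_reciprocity K _ (χ := fun _ : N => (1 : ℂ))
      (IsIrrCharacter.isClassFunction isIrrCharacter_one)]
  exact Char.classInner_irr_self (χ := fun _ : K => (1 : ℂ)) isIrrCharacter_one

theorem inner_augFun_chi (hC : FrobK K) (hχ : χ ∈ inducedIrrAbove K ⊥) :
    classInner (augFun K χ) χ = -1 := by
  have h0 : classInner (indFun K fun _ : K => (1 : ℂ)) χ = 0 := by
    obtain ⟨θ, h1, h2, -, rfl⟩ := hχ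
    haveI := Fintype.ofFinite K
    have hirr := hC.irr_induced ⟨θ, h1⟩ h2
    by_contra hne
    have h87 := S1486.result K θ (fun _ => 1) h1 isIrrCharacter_one
    refine hne (h87.2 fun hg => ?_)
    have e := h87.1 hg
    exact h2 (by
      by_contra h3
      exact (eq_of_indFun_eq (K := K) ⊥ bot_le h1 isIrrCharacter_one e h3 (fun a ha => by
        rw [show a = 1 from Subtype.ext (Subgroup.mem_bot.1 ha)])).1 rfl)
  rw [augFun, classInner_sub_left, h0, Char.classInner_irr_self (hC.irr_of_mem hχ), zero_sub]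

theorem inner_augFun_self (hC : FrobK K) (hχ : χ ∈ inducedIrrAbove K ⊥) :
    classInner (augFun K χ) (augFun K χ) = (K.index : ℂ) + 1 := by
  have h1 := inner_augFun_chi hC hχ
  have hI : classInner (indFun K fun _ : K => (1 : ℂ)) (indFun K fun _ : K => (1 : ℂ)) =
      (K.index : ℂ) := by
    have hne : (Nat.card K : ℂ) * (K.index : ℂ) ≠ 0 := mul_ne_zero
      (Nat.cast_ne_zero.2 Nat.card_pos.ne') (Nat.cast_ne_zero.2 K.index_ne_zero_of_finite)
    refine mul_left_cancel₀ hne ?_
    rw [classInner_supp (fun x hx => CliffordChar.indFun_not_mem K _ hx) _, indOne_apply (one_mem K),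
      Finset.sum_congr rfl (g := fun _ : N => (K.index : ℂ) * (K.index : ℂ)) (fun x hx => by
        rw [indOne_apply (mem_kSharp.1 hx).1, Complex.conj_natCast]),
      Finset.sum_const, nsmul_eq_mul, card_kSharp, Complex.conj_natCast]
    ring
  rw [augFun, classInner_sub_left, Char.classInner_irr_self (hC.irr_of_mem hχ)] at h1
  have h2 : classInner (indFun K fun _ : K => (1 : ℂ)) χ = 0 := by linear_combination h1
  rw [augFun, classInner_sub_left, classInner_sub_right, classInner_sub_right, hI, h2,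
    classInner_symm_zero h2, Char.classInner_irr_self (hC.irr_of_mem hχ)]
  ring

/-- The sums over `K^#` of a function whose inner products with `S` are proportional to the
degrees. -/
theorem FrobK.values (hC : FrobK K) (hχ : χ ∈ inducedIrrAbove K ⊥) (hd : χ 1 = (K.index : ℂ))
    (g : N → ℂ) (a : ℂ)
    (hga : ∀ φ ∈ inducedIrrAbove K ⊥, classInner φ g * (K.index : ℂ) = φ 1 * a) :
    ∑ x ∈ kSharp K, conj (g x) = ((Nat.card K : ℂ) - 1) * classInner (augFun K χ) g ∧
      ∑ x ∈ kSharp K, χ x * conj (g x) = -(K.index : ℂ) * classInner (augFun K χ) g := by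
  classical
  have he : (K.index : ℂ) ≠ 0 := Nat.cast_ne_zero.2 K.index_ne_zero_of_finite
  have hh : (Nat.card K : ℂ) ≠ 0 := Nat.cast_ne_zero.2 Nat.card_pos.ne'
  set e : ℂ := (K.index : ℂ)
  set h : ℂ := (Nat.card K : ℂ)
  have ha : classInner χ g = a := by
    have := hga χ hχ
    rw [hd, mul_comm] at this
    exact mul_left_cancel₀ he this
  have hfin := finite_induced (K := K)
  set u : K → ℂ := fun k : K => (if k = 1 then h else 0) - 1 with hu
  have hreg := hC.regular_part hfin.toFinset (Set.Finite.coe_toFinset hfin)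
  have hsq := sum_sq_div (K := K) ⊥ bot_le hfin.toFinset (Set.Finite.coe_toFinset hfin)
  rw [Subgroup.relIndex_bot_left] at hsq
  have hug : classInner (indFun K u) g = a * (h - 1) := by
    rw [← hreg, classInner_sum_left]
    refine mul_right_cancel₀ he ?_
    calc (∑ φ ∈ hfin.toFinset, classInner (φ 1 • φ) g) * e
        = (∑ φ ∈ hfin.toFinset, φ 1 ^ 2 / classInner φ φ) * a := by
          rw [Finset.sum_mul, Finset.sum_mul]
          refine Finset.sum_congr rfl fun φ hφ => ?_
          have hm := (Set.Finite.mem_toFinset hfin).1 hφ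
          rw [classInner_smul_left, mul_assoc, hga φ hm,
            Char.classInner_irr_self (hC.irr_of_mem hm), div_one]
          ring
      _ = a * (h - 1) * e := by rw [hsq]; ring
  have hu1 : indFun K u 1 = e * (h - 1) := by
    rw [indFun_one_apply, hu]; simp [e]
  have hux : ∀ x ∈ kSharp K, indFun K u x = -e := by
    intro x hx
    obtain ⟨hxK, hx1⟩ := mem_kSharp.1 hx
    rw [indFun_of_const u x hxK (-1) (fun y hy => ?_)]
    · ring
    · rw [hu]
      dsimp only
      rw [if_neg, zero_sub]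
      intro e1
      apply hx1
      have e2 := congrArg Subtype.val e1
      simp only [OneMemClass.coe_one] at e2
      have e3 := congrArg (fun t => y * t * y⁻¹) e2
      simpa [mul_assoc] using e3
  have e1 := classInner_supp (f := indFun K u) (fun x hx => CliffordChar.indFun_not_mem K _ hx) g
  rw [hug, hu1, Finset.sum_congr rfl (g := fun x => -e * conj (g x)) (fun x hx => by rw [hux x hx]),
    ← Finset.mul_sum] at e1
  have e2 := classInner_supp (mem_inducedSet_supp hχ) g
  rw [ha, hd] at e2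
  have e3 := classInner_supp (augFun_supp hχ) g
  rw [augFun_apply_one hd, zero_mul, zero_add,
    Finset.sum_congr rfl (g := fun x => e * conj (g x) - χ x * conj (g x)) (fun x hx => by
      rw [augFun_mem (mem_kSharp.1 hx).1, sub_mul]),
    Finset.sum_sub_distrib, ← Finset.mul_sum] at e3
  change h * e * (a * (h - 1)) = _ at e1
  change h * e * a = e * _ + _ at e2
  change h * e * _ = _ at e3
  set s := ∑ x ∈ kSharp K, conj (g x)
  set t := ∑ x ∈ kSharp K, χ x * conj (g x)
  set c := classInner (augFun K χ) g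
  have hs : s = (h - 1) * (conj (g 1) - a * h) := by
    refine mul_left_cancel₀ he ?_
    linear_combination e1
  have hc : c = conj (g 1) - a * h := by
    refine mul_left_cancel₀ (mul_ne_zero hh he) ?_
    linear_combination e3 + e * hs + e2
  exact ⟨by rw [hs, hc], by linear_combination -e2 + e * hc⟩

/-- A function with real integer average: Cauchy-Schwarz on `K^#`. -/
theorem sum_norm_sq_ge (g : N → ℂ) (c : ℝ)
    (hs : ∑ x ∈ kSharp K, conj (g x) = ((Nat.card K : ℂ) - 1) * (c : ℂ)) :
    ((Nat.card K : ℝ) - 1) * c ^ 2 ≤ ∑ x ∈ kSharp K, ‖g x‖ ^ 2 := by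
  have hre : ∑ x ∈ kSharp K, (g x).re = ((Nat.card K : ℝ) - 1) * c := by
    have h := congrArg Complex.re hs
    rw [Complex.re_sum] at h
    simpa using h
  have h0 : 0 ≤ ∑ x ∈ kSharp K, ((g x).re - c) ^ 2 := Finset.sum_nonneg fun _ _ => sq_nonneg _
  have h1 : ∑ x ∈ kSharp K, ((g x).re - c) ^ 2 =
      ∑ x ∈ kSharp K, (g x).re ^ 2 - 2 * c * (((Nat.card K : ℝ) - 1) * c) +
        ((Nat.card K : ℝ) - 1) * c ^ 2 := by
    rw [← hre, ← card_kSharp_real, Finset.mul_sum]
    simp only [sub_sq, Finset.sum_add_distrib, Finset.sum_sub_distrib, Finset.sum_const,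
      nsmul_eq_mul]
    congr 2
    exact Finset.sum_congr rfl fun x _ => by ring
  have h2 : ∑ x ∈ kSharp K, (g x).re ^ 2 ≤ ∑ x ∈ kSharp K, ‖g x‖ ^ 2 := by
    refine Finset.sum_le_sum fun x _ => ?_
    rw [Complex.sq_norm, Complex.normSq_apply]
    nlinarith [mul_self_nonneg (g x).im]
  nlinarith

end Cfsg.Agent.Coherence
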