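/-
Odd groups covered by TI Frobenius kernels of coprime orders: the data attached to one kernel.

* `OffH H f`, `hSharp H`, `sum_cover`
* `Piece H` : coherent characters, `β = Ind (1_H^L - χ)` and the two lower bounds on `H^#`
* `piece_exists`, `cross_orth`, `real_inner_even`, `partition_false`
-/
import Cfsg.Agent.Lib.Coherence.FrobValues
import Cfsg.Agent.Lib.Coherence.TIKernel
import Cfsg.Agent.Lib.CharApp.PermLemma
import Cfsg.Agent.Lib.Char.Virtual

set_option autoImplicit false
set_option linter.style.haveILetI false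
set_option linter.unusedSectionVars false

namespace Cfsg.Agent.OddPartition

open Cfsg Cfsg.Agent.Char Cfsg.Agent.Coherence
open scoped ComplexConjugate

universe u v
variable {G : Type u} [Group G] [Fintype G]

/-- `f` lives on the conjugates of `H^#`. -/
def OffH (H : Subgroup G) (f : G → ℂ) : Prop :=
  ∀ g, f g ≠ 0 → g ≠ 1 ∧ ∃ y : G, y * g * y⁻¹ ∈ H

open Classical in
/-- The non-identity elements of `H`. -/
noncomputable def hSharp (H : Subgroup G) : Finset G :=
  Finset.univ.filter fun g => g ∈ H ∧ g ≠ 1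

theorem inner_offH {H H' : Subgroup G} (hcop : Nat.Coprime (Nat.card H) (Nat.card H'))
    {f f' : G → ℂ} (hf : OffH H f) (hf' : OffH H' f') : classInner f f' = 0 := by
  rw [classInner, Finset.sum_eq_zero fun g _ => ?_, mul_zero]
  by_contra h
  obtain ⟨h1, h2⟩ := mul_ne_zero_iff.1 h
  obtain ⟨hg, y, hy⟩ := hf g h1
  obtain ⟨-, z, hz⟩ := hf' g fun e => h2 (by rw [e, map_zero])
  have key : ∀ (K : Subgroup G) (w : G), w * g * w⁻¹ ∈ K → orderOf g ∣ Nat.card K := by
    intro K w hw
    have := Subgroup.orderOf_dvd_natCard _ hw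
    rwa [← MulAut.conj_apply, MulEquiv.orderOf_eq (MulAut.conj w) g] at this
  exact hg (orderOf_eq_one_iff.1 (Nat.eq_one_of_dvd_coprimes hcop (key H y hy) (key H' z hz)))

/-- Data attached to one kernel. -/
structure Piece (H : Subgroup G) where
  U : Finset (G → ℂ)
  ψ : G → ℂ
  β : G → ℂ
  x : (G → ℂ) → ℤ
  e : ℕ
  k : ℕ
  C : ℤ
  signed : ∀ v ∈ U, IsSignedIrr G v
  orth : ∀ v ∈ U, ∀ w ∈ U, v ≠ w → classInner v w = 0
  inner_one : ∀ v ∈ U, classInner v (fun _ => 1) = 0
  off_conj : ∀ v ∈ U, OffH H (v - conjFun v)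
  off_deg : ∀ v ∈ U, OffH H (v - (x v : ℂ) • ψ)
  sum_sq : ∑ v ∈ U, x v ^ 2 = (k : ℤ)
  card_eq : Nat.card H = k * e + 1
  index_eq : Nat.card (Subgroup.normalizer (H : Set G)) = e * Nat.card H
  two_le_e : 2 ≤ e
  two_le_k : 2 ≤ k
  mem : ψ ∈ U
  β_off : OffH H β
  β_gc : IsGeneralizedCharacter G β
  β_one : classInner β (fun _ => 1) = 1
  β_self : classInner β β = (e : ℂ) + 1
  β_conj : conjFun β = β + ψ - conjFun ψ
  β_ψ : classInner β ψ = (C : ℂ) - 1
  own : (Nat.card H : ℝ) * e - (e : ℝ) ^ 2 ≤ ∑ g ∈ hSharp H, ‖ψ g‖ ^ 2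
  other : ∀ f, IsGeneralizedCharacter G f →
    (∀ v ∈ U, classInner (v - (x v : ℂ) • ψ) f = 0) → ∀ c : ℤ, classInner β f = (c : ℂ) →
      ((Nat.card H : ℝ) - 1) * (c : ℝ) ^ 2 ≤ ∑ g ∈ hSharp H, ‖f g‖ ^ 2

theorem conjFun_add' {X : Type*} (f g : X → ℂ) : conjFun (f + g) = conjFun f + conjFun g := by
  funext x; simp [conjFun]

theorem conjFun_sub' {X : Type*} (f g : X → ℂ) : conjFun (f - g) = conjFun f - conjFun g := by
  funext x; simp [conjFun]

theorem conjFun_one' {X : Type*} : conjFun (fun _ : X => (1 : ℂ)) = fun _ => 1 := by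
  funext x; simp [conjFun]

theorem signed_conjFun {v : G → ℂ} (h : IsSignedIrr G v) : IsSignedIrr G (conjFun v) := by
  rcases h with h | h
  · exact Or.inl (IsIrrCharacter.conj h)
  · refine Or.inr ?_
    have e : -conjFun v = fun g => conj ((-v) g) := by funext g; simp [conjFun]
    rw [e]; exact IsIrrCharacter.conj h

theorem conjFun_gc {v : G → ℂ} (h : IsGeneralizedCharacter G v) :
    IsGeneralizedCharacter G (conjFun v) := by
  obtain ⟨a, b, ha, hb, rfl⟩ := h
  exact ⟨conjFun a, conjFun b, IsCharacter.conj ha, IsCharacter.conj hb, conjFun_sub' a b⟩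

theorem signed_eq_of_inner_ne {v w : G → ℂ} (hv : IsSignedIrr G v) (hw : IsSignedIrr G w)
    (h : classInner v w ≠ 0) : w = v ∨ w = -v := by
  rcases (classInner_signed hv hw).2 with h' | ⟨h', -⟩ | ⟨h', -⟩
  · exact absurd h' h
  · exact Or.inl h'
  · exact Or.inr h'

theorem conj_ne (hodd : Odd (Nat.card G)) {v : G → ℂ} (hv : IsSignedIrr G v)
    (h1 : classInner v (fun _ => 1) = 0) :
    conjFun v ≠ v ∧ conjFun v ≠ -v ∧ classInner (conjFun v) v = 0 := by
  have hne : conjFun v ≠ v := by
    intro e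
    rcases hv with h | h
    · have := CharApp.real_irr_of_odd hodd h fun g => Complex.conj_eq_iff_im.1 (congrFun e g)
      rw [this, classInner_irr_self (χ := fun _ : G => (1 : ℂ)) isIrrCharacter_one] at h1
      exact one_ne_zero h1
    · have := CharApp.real_irr_of_odd hodd h fun g => by
        have := Complex.conj_eq_iff_im.1 (congrFun e g)
        simp [this]
      rw [neg_eq_iff_eq_neg] at this
      rw [this, classInner_neg_left,
        classInner_irr_self (χ := fun _ : G => (1 : ℂ)) isIrrCharacter_one] at h1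
      norm_num at h1
  have hne' : conjFun v ≠ -v := by
    intro e
    have h0 := congrFun e 1
    have hreal : conj (v 1) = v 1 := by
      rcases hv with h | h
      · exact IsCharacter.conj_apply_one (IsIrrCharacter.isCharacter h)
      · have := IsCharacter.conj_apply_one (IsIrrCharacter.isCharacter h)
        simpa using this
    simp only [conjFun, Pi.neg_apply, hreal] at h0
    exact signed_apply_one_ne_zero hv (by linear_combination h0 / 2)
  refine ⟨hne, hne', ?_⟩
  by_contra h
  rcases signed_eq_of_inner_ne (signed_conjFun hv) hv h with e | e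
  · exact hne e.symm
  · exact hne' (neg_eq_iff_eq_neg.2 e).symm

theorem indFun_offH (H : Subgroup G) (α : Subgroup.normalizer (H : Set G) → ℂ)
    (hs : ∀ x : Subgroup.normalizer (H : Set G), (x : G) ∉ H → α x = 0) (h1 : α 1 = 0) :
    OffH H (indFun (Subgroup.normalizer (H : Set G)) α) := by
  classical
  intro g hg
  simp only [Cfsg.indFun] at hg
  obtain ⟨y, -, hy⟩ := Finset.exists_ne_zero_of_sum_ne_zero (mul_ne_zero_iff.1 hg).2
  rw [Char.extendByZero_eq] at hy
  split_ifs at hy with hm
  · refine ⟨?_, y⁻¹, ?_⟩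
    · rintro rfl
      refine hy ?_
      rw [← h1]
      congr 1
      ext
      simp
    · by_contra hH
      exact hy (hs _ fun h => hH (by simpa using h))
  · exact absurd rfl hy

theorem real_inner_even (hodd : Odd (Nat.card G)) {D D' : G → ℂ} (hD : IsGeneralizedCharacter G D)
    (hD' : IsGeneralizedCharacter G D') (hc : conjFun D = D) (hc' : conjFun D' = D')
    (h1 : classInner D (fun _ => 1) = 0) : ∃ n : ℤ, classInner D D' = ((2 * n : ℤ) : ℂ) := by
  classical
  haveI := Fintype.ofFinite (IrrCharacter G)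
  obtain ⟨a, -, ha, -⟩ := gc_eq_sum hD
  obtain ⟨b, -, hb, -⟩ := gc_eq_sum hD'
  have hsum : classInner D D' = ((∑ χ, a χ * b χ : ℤ) : ℂ) := by
    rw [Char.classInner_eq_sum (isGC_isClassFunction hD) D', Int.cast_sum]
    refine Finset.sum_congr rfl fun χ _ => ?_
    rw [ha, hb, map_intCast, Int.cast_mul]
  let inv : IrrCharacter G → IrrCharacter G := fun χ =>
    ⟨conjFun (χ : G → ℂ), IsIrrCharacter.conj χ.2⟩
  have hinv : ∀ (F : G → ℂ) (c : IrrCharacter G → ℤ), conjFun F = F →
      (∀ χ : IrrCharacter G, classInner F (χ : G → ℂ) = c χ) → ∀ χ, c (inv χ) = c χ := by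
    intro F c hF hFc χ
    have h := hFc (inv χ)
    rw [← hF, classInner_conjFun, hFc, map_intCast] at h
    exact_mod_cast h.symm
  have h2 : ((∑ χ, a χ * b χ : ℤ) : ZMod 2) = 0 := by
    rw [Int.cast_sum]
    refine Finset.sum_involution (fun χ _ => inv χ) (fun χ _ => ?_) (fun χ _ hne e => hne ?_)
      (fun χ _ => Finset.mem_univ _) fun χ _ => Subtype.ext (conjFun_conjFun _)
    · rw [hinv D a hc ha χ, hinv D' b hc' hb χ]
      exact CharTwo.add_self_eq_zero _
    · have h3 : (χ : G → ℂ) = fun _ => 1 := by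
        refine CharApp.real_irr_of_odd hodd χ.2 fun g => Complex.conj_eq_iff_im.1 ?_
        exact congrFun (congrArg Subtype.val e) g
      have h4 : a χ = 0 := by
        have := ha χ
        rw [h3, h1] at this
        exact_mod_cast this.symm
      simp [h4]
  obtain ⟨n, hn⟩ := (ZMod.intCast_zmod_eq_zero_iff_dvd _ 2).1 h2
  exact ⟨n, by rw [hsum, hn]; push_cast; ring⟩

theorem sum_kSharp (H : Subgroup G) [Fintype ↥(Subgroup.normalizer (H : Set G))] {M : Type*}
    [AddCommMonoid M] (F : G → M) :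
    ∑ x ∈ kSharp (H.subgroupOf (Subgroup.normalizer (H : Set G))), F x = ∑ g ∈ hSharp H, F g := by
  classical
  refine Finset.sum_bij (fun x _ => (x : G)) ?_ ?_ ?_ fun _ _ => rfl
  · intro x hx
    obtain ⟨h1, h2⟩ := mem_kSharp.1 hx
    exact Finset.mem_filter.2 ⟨Finset.mem_univ _, Subgroup.mem_subgroupOf.1 h1,
      fun e => h2 (Subtype.ext e)⟩
  · exact fun _ _ _ _ e => Subtype.ext e
  · intro g hg
    obtain ⟨-, h1, h2⟩ := Finset.mem_filter.1 hg
    exact ⟨⟨g, Subgroup.le_normalizer h1⟩, mem_kSharp.2 ⟨Subgroup.mem_subgroupOf.2 h1,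
      fun e => h2 (congrArg Subtype.val e)⟩, rfl⟩

theorem piece_exists (hodd : Odd (Nat.card G)) (H : Subgroup G) (hH1 : H ≠ ⊥)
    (hlt : H < Subgroup.normalizer (H : Set G)) (hTI : IsTISubset (H : Set G))
    [Fintype ↥(Subgroup.normalizer (H : Set G))]
    (hF : FrobK (H.subgroupOf (Subgroup.normalizer (H : Set G)))) : Nonempty (Piece H) := by
  classical
  set K := H.subgroupOf (Subgroup.normalizer (H : Set G)) with hK
  obtain ⟨hτ, hτ1⟩ := ti_isometry H hTI
  have hoddL : Odd (Nat.card (Subgroup.normalizer (H : Set G))) :=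
    hodd.of_dvd_nat (Subgroup.card_subgroup_dvd_card _)
  have hoddH : Odd (Nat.card H) := hodd.of_dvd_nat (Subgroup.card_subgroup_dvd_card _)
  have hodde : Odd K.index := hoddL.of_dvd_nat (Subgroup.index_dvd_card _)
  have hcoh : IsCoherent (inducedIrrAbove K ⊥) {1}ᶜ
      (fun α => indFun (Subgroup.normalizer (H : Set G)) α) := by
    rcases ti_trichotomy H hH1 hTI hlt hF with ⟨-, -, hc, -⟩ | ⟨h2, -⟩ | h
    · exfalso
      rw [hc, Nat.odd_add_one] at hoddH
      exact hoddH hodde
    · exfalso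
      rw [h2] at hoddH
      rcases Nat.eq_zero_or_pos ((Nat.card G).factorization 2) with h0 | h0
      · exact hH1 (Subgroup.eq_bot_of_card_eq _ (by rw [h2, h0, pow_zero]))
      · exact Nat.not_even_iff_odd.2 hoddH ((Nat.even_pow).2 ⟨even_two, h0.ne'⟩)
    · exact h
  obtain ⟨-, τ, hτl, hag⟩ := hcoh
  have hKne := subgroupOf_ne_bot hH1
  have hKtop := subgroupOf_ne_top hlt
  have hcardK : Nat.card K = Nat.card H :=
    Nat.card_congr (Subgroup.subgroupOfEquivOfLe Subgroup.le_normalizer).toEquiv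
  haveI : Group.IsNilpotent K := hF.nilpotent hKtop
  obtain ⟨χ, hχ, hd⟩ := exists_linear_mem (K := K) ⊥ inferInstance (bot_lt_iff_ne_bot.2 hKne)
  have hirr : ∀ η ∈ inducedIrrAbove K ⊥, IsIrrCharacter _ η := fun η => hF.irr_of_mem
  choose! xS hxS0 hxS using fun η (hη : η ∈ inducedIrrAbove K ⊥) => hF.degree hη
  have hxχ : xS χ = 1 := by
    have h := hxS χ hχ
    rw [hd] at h
    have he : (K.index : ℂ) ≠ 0 := Nat.cast_ne_zero.2 K.index_ne_zero_of_finite
    have h' : (xS χ : ℂ) = 1 := mul_right_cancel₀ he (h.symm.trans (one_mul _).symm)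
    exact_mod_cast h'
  have hmem : ∀ η ∈ inducedIrrAbove K ⊥, η ∈ zspan (inducedIrrAbove K ⊥) := fun η => subset_zspan
  have hsgn : ∀ η ∈ inducedIrrAbove K ⊥, IsSignedIrr G (τ η) := fun η hη =>
    gc_norm_one (hτl.2.2.2 _ (hmem η hη))
      (by rw [hτl.2.2.1 _ (hmem η hη) _ (hmem η hη), classInner_irr_self (hirr η hη)])
  have horth : ∀ η ∈ inducedIrrAbove K ⊥, ∀ η' ∈ inducedIrrAbove K ⊥,
      classInner (τ η) (τ η') = if η = η' then 1 else 0 := fun η hη η' hη' => by
    rw [hτl.2.2.1 _ (hmem η hη) _ (hmem η' hη'), classInner_irr (hirr η hη) (hirr η' hη')]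
  have hn1' : ∀ η ∈ inducedIrrAbove K ⊥, classInner (τ η) (τ η) = 1 := fun η hη => by
    rw [horth η hη η hη, if_pos rfl]
  have hinj : ∀ η ∈ inducedIrrAbove K ⊥, ∀ η' ∈ inducedIrrAbove K ⊥, τ η = τ η' → η = η' := by
    intro η hη η' hη' e
    have h := horth η hη η' hη'
    rw [e, horth η' hη' η' hη', if_pos rfl] at h
    split_ifs at h with h'
    · exact h'
    · exact absurd h one_ne_zero
  -- differences
  have hdiff : ∀ η ∈ inducedIrrAbove K ⊥, ∀ η' ∈ inducedIrrAbove K ⊥, ∀ n : ℤ,
      η 1 = (n : ℂ) * η' 1 →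
      τ η - (n : ℂ) • τ η' = indFun (Subgroup.normalizer (H : Set G)) (η - (n : ℂ) • η') ∧
      OffH H (τ η - (n : ℂ) • τ η') := by
    intro η hη η' hη' n hdeg
    have hm : η - n • η' ∈ zspanOn (inducedIrrAbove K ⊥) {1}ᶜ := mem_zspanOn_one.2
      ⟨zspan_sub (hmem η hη) (zspan_zsmul n (hmem η' hη')), by simp [hdeg]⟩
    have h1 : τ (η - n • η') = τ η - (n : ℂ) • τ η' := by
      rw [sub_eq_add_neg η, ← neg_smul, hτl.1 _ (hmem η hη) _ (zspan_zsmul _ (hmem η' hη')),
        hτl.2.1 _ (hmem η' hη'), neg_smul, ← sub_eq_add_neg, Int.cast_smul_eq_zsmul]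
    have h2 : τ η - (n : ℂ) • τ η' =
        indFun (Subgroup.normalizer (H : Set G)) (η - (n : ℂ) • η') := by
      rw [← h1, hag _ hm, Int.cast_smul_eq_zsmul]
    refine ⟨h2, h2 ▸ indFun_offH H _ (fun x hx => ?_) (by simp [hdeg])⟩
    have hxK : x ∉ K := fun h => hx (Subgroup.mem_subgroupOf.1 h)
    simp [mem_inducedSet_supp hη x hxK, mem_inducedSet_supp hη' x hxK]
  have hone1 : IsSignedIrr G (fun _ : G => (1 : ℂ)) := Or.inl isIrrCharacter_one
  have hcc : ∀ η ∈ inducedIrrAbove K ⊥, conjFun η ∈ inducedIrrAbove K ⊥ ∧ conjFun η ≠ η ∧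
      classInner (τ η) (fun _ => 1) = 0 ∧ conjFun (τ η) = τ (conjFun η) ∧
      τ η - τ (conjFun η) =
        indFun (Subgroup.normalizer (H : Set G)) (η - conjFun η) := by
    intro η hη
    have hη' := inducedSet_conj_mem ⊥ hη
    have hne : conjFun η ≠ η := (conj_ne hoddL (Or.inl (hirr η hη)) (inner_one hη)).1
    have hdg : η 1 = ((1 : ℤ) : ℂ) * conjFun η 1 := by
      rw [Int.cast_one, one_mul, conjFun, IsCharacter.conj_apply_one
        (IsIrrCharacter.isCharacter (hirr η hη))]
    obtain ⟨h2, -⟩ := hdiff η hη _ hη' 1 hdg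
    rw [Int.cast_one, one_smul, one_smul] at h2
    have hvw : classInner (τ η) (τ (conjFun η)) = 0 := by
      rw [horth η hη _ hη', if_neg hne.symm]
    have h10 : classInner (τ η) (fun _ => 1) = classInner (τ (conjFun η)) (fun _ => 1) := by
      rw [← sub_eq_zero, ← classInner_sub_left, h2,
        frobenius_reciprocity (Subgroup.normalizer (H : Set G)) _ (χ := fun _ : G => (1 : ℂ))
          (IsIrrCharacter.isClassFunction isIrrCharacter_one), classInner_sub_left,
        inner_one hη, inner_one hη', sub_zero]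
    have h11 : classInner (τ η) (fun _ => 1) = 0 := by
      by_contra hne1
      have e1 := signed_eq_of_inner_ne (hsgn η hη) hone1 hne1
      have e2 := signed_eq_of_inner_ne (hsgn _ hη') hone1 (h10 ▸ hne1)
      have hh := hn1' η hη
      have he : τ (conjFun η) = τ η ∨ τ (conjFun η) = -τ η := by
        rcases e1 with e1 | e1 <;> rcases e2 with e2 | e2
        · exact Or.inl (e2.symm.trans e1)
        · exact Or.inr (by rw [← neg_neg (τ (conjFun η)), ← e2, e1])
        · exact Or.inr (e2.symm.trans e1)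
        · exact Or.inl (neg_injective (e2.symm.trans e1))
      have this : classInner (τ η) (τ (conjFun η)) ≠ 0 := by
        rcases he with he | he <;> rw [he]
        · rw [hh]; exact one_ne_zero
        · rw [classInner_neg_right, hh]; norm_num
      exact this hvw
    obtain ⟨-, -, hcv⟩ := conj_ne hodd (hsgn η hη) h11
    refine ⟨hη', hne, h11, ?_, h2⟩
    have hconj : conjFun (τ η) - conjFun (τ (conjFun η)) = τ (conjFun η) - τ η := by
      rw [← conjFun_sub', h2, conjFun_indFun, ← neg_sub (τ η), h2, ← indFun_neg]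
      congr 1
      funext k
      simp [conjFun]
    have hi : classInner (conjFun (τ (conjFun η))) (τ η) = 1 := by
      have h := congrArg (fun f => classInner f (τ η)) hconj
      simp only [classInner_sub_left, hcv, classInner_symm_zero hvw,
        (classInner_signed (hsgn η hη) (hsgn η hη)).1] at h
      linear_combination -h
    have heq : conjFun (τ (conjFun η)) = τ η := by
      rcases (classInner_signed (signed_conjFun (hsgn _ hη')) (hsgn η hη)).2 with
        h | ⟨h, -⟩ | ⟨-, h⟩
      · rw [hi] at h; exact absurd h one_ne_zero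
      · exact h.symm
      · rw [hi] at h; norm_num at h
    rw [← heq, conjFun_conjFun]
  -- the piece
  have hfin := finite_induced (K := K)
  set inv := Function.invFunOn τ (inducedIrrAbove K ⊥) with hinv
  have hinvτ : ∀ η ∈ inducedIrrAbove K ⊥, inv (τ η) = η := fun η hη =>
    hinj _ (Function.invFunOn_mem ⟨η, hη, rfl⟩) η hη (Function.invFunOn_eq ⟨η, hη, rfl⟩)
  set U := hfin.toFinset.image τ with hU
  have hUm : ∀ v, v ∈ U → ∃ η ∈ inducedIrrAbove K ⊥, τ η = v := fun v hv => by
    obtain ⟨η, hη, rfl⟩ := Finset.mem_image.1 hv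
    exact ⟨η, (Set.Finite.mem_toFinset hfin).1 hη, rfl⟩
  have hmU : ∀ η ∈ inducedIrrAbove K ⊥, τ η ∈ U := fun η hη =>
    Finset.mem_image_of_mem _ ((Set.Finite.mem_toFinset hfin).2 hη)
  obtain ⟨hχ', hχne, -, hψc, hψd⟩ := hcc χ hχ
  have hsum : (K.index : ℤ) * ∑ η ∈ hfin.toFinset, xS η ^ 2 = (Nat.card H : ℤ) - 1 := by
    have h := hF.sum_sq ⊥ bot_le hfin.toFinset (Set.Finite.coe_toFinset hfin) xS
      fun η hη => hxS η ((Set.Finite.mem_toFinset hfin).1 hη)
    rwa [Subgroup.relIndex_bot_left, hcardK] at h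
  have hksq : (∑ η ∈ hfin.toFinset, xS η ^ 2) =
      ((∑ η ∈ hfin.toFinset, (xS η).natAbs ^ 2 : ℕ) : ℤ) := by
    push_cast
    exact Finset.sum_congr rfl fun η _ => by rw [sq_abs]
  have hk2 : 2 ≤ ∑ η ∈ hfin.toFinset, (xS η).natAbs ^ 2 := by
    have hsub : ({χ, conjFun χ} : Finset _) ⊆ hfin.toFinset := by
      intro η hη
      rw [Set.Finite.mem_toFinset]
      rcases Finset.mem_insert.1 hη with rfl | hη
      · exact hχ
      · rw [Finset.mem_singleton.1 hη]; exact hχ'
    refine le_trans ?_ (Finset.sum_le_sum_of_subset hsub)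
    rw [Finset.sum_pair hχne.symm]
    have p1 := hxS0 χ hχ
    have p2 := hxS0 _ hχ'
    have q1 : 1 ≤ (xS χ).natAbs ^ 2 := Nat.one_le_pow _ _ (by omega)
    have q2 : 1 ≤ (xS (conjFun χ)).natAbs ^ 2 := Nat.one_le_pow _ _ (by omega)
    omega
  have he2 : 2 ≤ K.index := by
    have h0 : K.index ≠ 0 := Subgroup.index_ne_zero_of_finite
    have h1 : K.index ≠ 1 := fun h => hKtop (Subgroup.index_eq_one.1 h)
    omega
  have hcard : Nat.card H = (∑ η ∈ hfin.toFinset, (xS η).natAbs ^ 2) * K.index + 1 := by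
    rw [hksq] at hsum
    have : (Nat.card H : ℤ) =
        (((∑ η ∈ hfin.toFinset, (xS η).natAbs ^ 2) * K.index + 1 : ℕ) : ℤ) := by
      rw [Nat.cast_add, Nat.cast_mul, Nat.cast_one]
      linear_combination -hsum
    exact_mod_cast this
  have hβL := augFun_supp hχ
  have hsuppG : ∀ x : Subgroup.normalizer (H : Set G), (x : G) ∉ (H : Set G) →
      augFun K χ x = 0 := fun x hx => hβL x fun h => hx (Subgroup.mem_subgroupOf.1 h)
  have hgcβ := Char.IsGeneralizedCharacter.indFun (H := Subgroup.normalizer (H : Set G))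
    (isGC_augFun hF hχ)
  obtain ⟨n, hn⟩ := classInner_gc_int hgcβ (isGC_signed (hsgn χ hχ))
  have hres : ∀ (f : G → ℂ), IsClassFunction G f →
      classInner (indFun (Subgroup.normalizer (H : Set G)) (augFun K χ)) f =
      classInner (augFun K χ) (fun x : Subgroup.normalizer (H : Set G) => f x) := fun f hf =>
    frobenius_reciprocity _ _ hf
  refine ⟨{ U := U, ψ := τ χ,
            β := indFun (Subgroup.normalizer (H : Set G)) (augFun K χ),
            x := fun v => xS (inv v), e := K.index,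
            k := ∑ η ∈ hfin.toFinset, (xS η).natAbs ^ 2, C := n + 1,
            signed := fun v hv => by obtain ⟨η, hη, rfl⟩ := hUm v hv; exact hsgn η hη
            orth := fun v hv w hw hne => by
              obtain ⟨η, hη, rfl⟩ := hUm v hv
              obtain ⟨η', hη', rfl⟩ := hUm w hw
              rw [horth η hη η' hη', if_neg fun e => hne (by rw [e])]
            inner_one := fun v hv => by obtain ⟨η, hη, rfl⟩ := hUm v hv; exact (hcc η hη).2.2.1
            off_conj := ?_, off_deg := ?_, sum_sq := ?_, card_eq := hcard, index_eq := ?_,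
            two_le_e := he2, two_le_k := hk2, mem := hmU χ hχ,
            β_off := indFun_offH H _ hsuppG (augFun_apply_one hd), β_gc := hgcβ,
            β_one := ?_, β_self := ?_, β_conj := ?_, β_ψ := by rw [hn]; push_cast; ring,
            own := ?_, other := ?_ }⟩
  · intro v hv
    obtain ⟨η, hη, rfl⟩ := hUm v hv
    obtain ⟨hη', -, -, hc, he⟩ := hcc η hη
    rw [hc, he]
    refine indFun_offH H _ (fun x hx => ?_) ?_
    · have hxK : x ∉ K := fun h => hx (Subgroup.mem_subgroupOf.1 h)
      simp [mem_inducedSet_supp hη x hxK, mem_inducedSet_supp hη' x hxK]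
    · simp [conjFun, IsCharacter.conj_apply_one (IsIrrCharacter.isCharacter (hirr η hη))]
  · intro v hv
    obtain ⟨η, hη, rfl⟩ := hUm v hv
    refine (hdiff η hη χ hχ _ ?_).2
    rw [hinvτ η hη, hxS η hη, hd]
  · rw [hU, Finset.sum_image fun a ha b hb => hinj a ((Set.Finite.mem_toFinset hfin).1 ha) b
      ((Set.Finite.mem_toFinset hfin).1 hb), ← hksq]
    exact Finset.sum_congr rfl fun η hη => by rw [hinvτ η ((Set.Finite.mem_toFinset hfin).1 hη)]
  · rw [← Subgroup.card_mul_index K, hcardK, mul_comm]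
  · rw [hres (fun _ => (1 : ℂ)) (IsIrrCharacter.isClassFunction isIrrCharacter_one)]
    exact inner_augFun_one hχ
  · rw [Char.indFun_ti_isometry (H : Set G) hTI _ _ (isGC_isClassFunction (isGC_augFun hF hχ))
      hsuppG hsuppG (augFun_apply_one hd), inner_augFun_self hF hχ]
  · rw [conjFun_indFun, hψc, add_sub_assoc, hψd, ← indFun_add]
    congr 1
    have hI : conjFun (indFun K fun _ : K => (1 : ℂ)) = indFun K fun _ : K => (1 : ℂ) := by
      rw [conjFun_indFun]; simp
    show conjFun (augFun K χ) = _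
    rw [augFun, conjFun_sub', hI]
    abel
  · -- own bound
    set g : Subgroup.normalizer (H : Set G) → ℂ := fun x => τ χ x - χ x with hg
    set a : ℂ := classInner χ (fun x : Subgroup.normalizer (H : Set G) => τ χ x) - 1
    have hga : ∀ η ∈ inducedIrrAbove K ⊥, classInner η g * (K.index : ℂ) = η 1 * a := by
      intro η hη
      obtain ⟨he, -⟩ := hdiff η hη χ hχ (xS η) (by rw [hxS η hη, hd])
      have h := congrArg (fun f => classInner f (τ χ)) he
      simp only [classInner_sub_left, classInner_smul_left, horth η hη χ hχ, horth χ hχ χ hχ,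
        if_pos, mul_one, frobenius_reciprocity (Subgroup.normalizer (H : Set G)) _
          (isGC_isClassFunction (isGC_signed (hsgn χ hχ)))] at h
      rw [show g = (fun x : Subgroup.normalizer (H : Set G) => τ χ x) - χ from rfl,
        classInner_sub_right, classInner_irr (hirr η hη) (hirr χ hχ), hxS η hη]
      show _ = _ * (_ - 1)
      linear_combination -(K.index : ℂ) * h
    obtain ⟨hs, ht⟩ := hF.values hχ hd g a hga
    have hC : classInner (augFun K χ) g = (((n + 1 : ℤ) : ℝ) : ℂ) := by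
      rw [show g = (fun x : Subgroup.normalizer (H : Set G) => τ χ x) - χ from rfl,
        classInner_sub_right, ← hres _ (isGC_isClassFunction (isGC_signed (hsgn χ hχ))), hn,
        inner_augFun_chi hF hχ]
      push_cast; ring
    rw [hC] at hs ht
    have hb := sum_norm_sq_ge g _ hs
    have ht' := congrArg Complex.re ht
    rw [Complex.re_sum] at ht'
    have hq := congrArg Complex.re (sum_chi_sq hF hχ hd)
    rw [Complex.re_sum] at hq
    rw [← sum_kSharp H (fun y => ‖τ χ y‖ ^ 2)]
    have hexp : ∀ x : Subgroup.normalizer (H : Set G), ‖τ χ x‖ ^ 2 =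
        (χ x * conj (χ x)).re + 2 * (χ x * conj (g x)).re + ‖g x‖ ^ 2 := by
      intro x
      simp only [hg, Complex.sq_norm, Complex.normSq_apply, Complex.mul_re, Complex.conj_re,
        Complex.conj_im, Complex.sub_re, Complex.sub_im]
      ring
    rw [Finset.sum_congr rfl fun x _ => hexp x, Finset.sum_add_distrib, Finset.sum_add_distrib,
      ← Finset.mul_sum, hq, ht']
    rw [hcardK] at hb
    simp only [hcardK, neg_mul, Complex.neg_re, Complex.mul_re, Complex.natCast_re,
      Complex.natCast_im, Complex.ofReal_re, Complex.ofReal_im, Complex.sub_re, sq,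
      mul_zero, sub_zero]
    have h3 : ((n + 1 : ℤ) : ℝ) ≤ ((n + 1 : ℤ) : ℝ) ^ 2 := by
      exact_mod_cast Int.le_self_sq (n + 1)
    have h4 : 2 * (K.index : ℝ) ≤ (Nat.card H : ℝ) - 1 := by
      have : (2 * K.index + 1 : ℕ) ≤ Nat.card H := by
        rw [hcard]; exact Nat.add_le_add_right (Nat.mul_le_mul_right _ hk2) 1
      have h5 : ((2 * K.index + 1 : ℕ) : ℝ) ≤ (Nat.card H : ℝ) := Nat.cast_le.2 this
      push_cast at h5
      linarith
    have h6 := mul_le_mul h3 h4 (by positivity) (sq_nonneg _)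
    rw [← hK]
    simp only [sq] at hb h6
    linarith
  · intro f hf hperp c hc
    have hfc := isGC_isClassFunction hf
    have hga : ∀ η ∈ inducedIrrAbove K ⊥,
        classInner η (fun x : Subgroup.normalizer (H : Set G) => f x) * (K.index : ℂ) =
          η 1 * classInner χ (fun x : Subgroup.normalizer (H : Set G) => f x) := by
      intro η hη
      obtain ⟨he, -⟩ := hdiff η hη χ hχ (xS η) (by rw [hxS η hη, hd])
      have h := hperp _ (hmU η hη)
      rw [hinvτ η hη, he, frobenius_reciprocity _ _ hfc, classInner_sub_left,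
        classInner_smul_left] at h
      rw [hxS η hη]
      linear_combination (K.index : ℂ) * h
    obtain ⟨hs, -⟩ := hF.values hχ hd _ _ hga
    rw [← hres f hfc, hc] at hs
    have hb := sum_norm_sq_ge (fun x : Subgroup.normalizer (H : Set G) => f x) (c : ℝ)
      (by rw [hs]; push_cast; rfl)
    rw [hcardK] at hb
    rw [← sum_kSharp H (fun y => ‖f y‖ ^ 2)]
    exact hb

/-- Summation over a group covered by TI subgroups of coprime orders. -/
theorem sum_cover {ι : Type v} [Fintype ι] (H : ι → Subgroup G)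
    (hcop : ∀ i j, i ≠ j → Nat.Coprime (Nat.card (H i)) (Nat.card (H j)))
    (hTI : ∀ i, IsTISubset (H i : Set G))
    (hcover : ∀ g : G, g ≠ 1 → ∃ i, ∃ x : G, x * g * x⁻¹ ∈ H i)
    (F : G → ℝ) (hFc : ∀ g y : G, F (y * g * y⁻¹) = F g) :
    ∑ g, F g = F 1 + ∑ i, ((Subgroup.normalizer (H i : Set G)).index : ℝ) *
      ∑ g ∈ hSharp (H i), F g := by
  classical
  let S : ι → Finset G := fun i => Finset.univ.filter fun g => g ≠ 1 ∧ ∃ x : G, x * g * x⁻¹ ∈ H i
  have hdisj : Set.PairwiseDisjoint (↑(Finset.univ : Finset ι) : Set ι) S := by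
    intro i _ j _ hij
    change Disjoint (S i) (S j)
    rw [Finset.disjoint_left]
    intro g hgi hgj
    obtain ⟨h1, y, hy⟩ := (Finset.mem_filter.mp hgi).2
    obtain ⟨-, z, hz⟩ := (Finset.mem_filter.mp hgj).2
    have key : ∀ (K : Subgroup G) (w : G), w * g * w⁻¹ ∈ K → orderOf g ∣ Nat.card K := by
      intro K w hw
      have := Subgroup.orderOf_dvd_natCard _ hw
      rwa [← MulAut.conj_apply, MulEquiv.orderOf_eq (MulAut.conj w) g] at this
    exact h1 (orderOf_eq_one_iff.1 (Nat.eq_one_of_dvd_coprimes (hcop i j hij)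
      (key _ y hy) (key _ z hz)))
  have hpiece : ∀ i, ∑ g ∈ S i, F g = ((Subgroup.normalizer (H i : Set G)).index : ℝ) *
      ∑ g ∈ hSharp (H i), F g := by
    intro i
    set N := Subgroup.normalizer (H i : Set G) with hN
    have hT : ∑ p ∈ (Finset.univ : Finset (G ⧸ N)) ×ˢ hSharp (H i), F p.2 =
        (N.index : ℝ) * ∑ g ∈ hSharp (H i), F g := by
      rw [Finset.sum_product]
      dsimp only
      rw [Finset.sum_const, nsmul_eq_mul, Finset.card_univ, Subgroup.index,
        Nat.card_eq_fintype_card]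
    rw [← hT]
    symm
    have hmemT : ∀ p ∈ (Finset.univ : Finset (G ⧸ N)) ×ˢ hSharp (H i), p.2 ∈ H i ∧ p.2 ≠ 1 :=
      fun p hp => (Finset.mem_filter.1 (Finset.mem_product.1 hp).2).2
    refine Finset.sum_bij (fun p _ => p.1.out * p.2 * p.1.out⁻¹) ?_ ?_ ?_ fun p _ => (hFc _ _).symm
    · intro p hp
      obtain ⟨hpH, hp1⟩ := hmemT p hp
      refine Finset.mem_filter.mpr ⟨Finset.mem_univ _, fun h => hp1 (conj_eq_one_iff.mp h),
        p.1.out⁻¹, ?_⟩
      simpa [mul_assoc] using hpH
    · intro p hp p' hp' he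
      obtain ⟨hpH, hp1⟩ := hmemT p hp
      have hc : p'.1.out⁻¹ * p.1.out * p.2 * (p'.1.out⁻¹ * p.1.out)⁻¹ = p'.2 := by
        have := congrArg (fun t => p'.1.out⁻¹ * t * p'.1.out) he
        simpa [mul_assoc] using this
      have hmem : p'.1.out⁻¹ * p.1.out ∈ N := by
        by_contra h
        exact hp1 (hTI i _ h _ hpH (hc ▸ (hmemT p' hp').1))
      have h1 : p'.1 = p.1 := by
        rw [← QuotientGroup.out_eq' p'.1, ← QuotientGroup.out_eq' p.1]
        exact QuotientGroup.eq.mpr hmem
      refine Prod.ext h1.symm ?_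
      rw [← hc, h1]; simp
    · intro g hg
      obtain ⟨hg1, y, hy⟩ := (Finset.mem_filter.mp hg).2
      set c : G ⧸ N := QuotientGroup.mk y⁻¹
      have hn : y * c.out ∈ N := by
        simpa using QuotientGroup.eq.mp (QuotientGroup.out_eq' c).symm
      have hh : c.out⁻¹ * g * c.out ∈ H i := by
        refine (Subgroup.mem_normalizer_iff.mp hn _).mpr ?_
        simpa [mul_assoc] using hy
      refine ⟨(c, c.out⁻¹ * g * c.out), Finset.mem_product.2 ⟨Finset.mem_univ _,
        Finset.mem_filter.2 ⟨Finset.mem_univ _, hh, fun h => hg1 ?_⟩⟩, by simp [mul_assoc]⟩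
      have := congrArg (fun t => c.out * t * c.out⁻¹) h
      simpa [mul_assoc] using this
  rw [← Finset.add_sum_erase _ _ (Finset.mem_univ (1 : G)),
    ← Finset.sum_congr rfl fun i _ => hpiece i, ← Finset.sum_biUnion hdisj]
  congr 1
  refine Finset.sum_congr ?_ fun _ _ => rfl
  ext g
  simp only [Finset.mem_erase, Finset.mem_univ, and_true, Finset.mem_biUnion, S,
    Finset.mem_filter, true_and]
  exact ⟨fun h => (hcover g h).imp fun i hi => ⟨h, hi⟩, fun ⟨_, h, _⟩ => h⟩

theorem cross_orth (hodd : Odd (Nat.card G)) {H H' : Subgroup G}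
    (hcop : Nat.Coprime (Nat.card H) (Nat.card H')) (P : Piece H) (Q : Piece H') {v w : G → ℂ}
    (hv : v ∈ P.U) (hw : w ∈ Q.U) :
    classInner v w = 0 ∧ classInner (conjFun v) w = 0 := by
  have h := inner_offH hcop (P.off_conj v hv) (Q.off_conj w hw)
  obtain ⟨n, hn⟩ := classInner_gc_int (isGC_signed (P.signed v hv))
    (conjFun_gc (isGC_signed (Q.signed w hw)))
  obtain ⟨m, hm⟩ := classInner_gc_int (isGC_signed (P.signed v hv))
    (isGC_signed (Q.signed w hw))
  have hb : classInner (conjFun v) w = n := by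
    rw [← conjFun_conjFun w, classInner_conjFun, hn, map_intCast]
  rw [classInner_sub_left, classInner_sub_right, classInner_sub_right, classInner_conjFun, hm, hn,
    hb, map_intCast] at h
  have hab : (m : ℂ) = n := by linear_combination h / 2
  have h0 : classInner v w = 0 := by
    by_contra hne
    have e1 := signed_eq_of_inner_ne (P.signed v hv) (Q.signed w hw) hne
    have e2 := signed_eq_of_inner_ne (P.signed v hv) (signed_conjFun (Q.signed w hw))
      (by rw [hn, ← hab, ← hm]; exact hne)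
    obtain ⟨q1, q2, -⟩ := conj_ne hodd (Q.signed w hw) (Q.inner_one w hw)
    rcases e1 with rfl | rfl <;> rcases e2 with e2 | e2
    · exact q1 e2
    · exact q2 e2
    · exact q2 (by rw [e2, neg_neg])
    · exact q1 e2
  exact ⟨h0, by rw [hb, ← hab, ← hm, h0]⟩

theorem arith_false {k e h g : ℝ} (hk : 2 ≤ k) (he : 2 ≤ e) (hh : h = k * e + 1)
    (hg : h * (h + 2) ≤ g) (hb : 1 - 1 / g ≤ (k + e) / h + (e - 1) / (h + 2)) : False := by
  have h0 : 0 < h := by nlinarith
  have hg0 : 0 < g := by nlinarith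
  have hsmall : 1 / g ≤ 1 / (h * (h + 2)) := one_div_le_one_div_of_le (by positivity) hg
  have hb' : 1 - 1 / (h * (h + 2)) ≤ (k + e) / h + (e - 1) / (h + 2) := by linarith
  have h3 : (1 - 1 / (h * (h + 2))) * (h * (h + 2)) ≤
      ((k + e) / h + (e - 1) / (h + 2)) * (h * (h + 2)) :=
    mul_le_mul_of_nonneg_right hb' (by positivity)
  have l1 : (1 - 1 / (h * (h + 2))) * (h * (h + 2)) = h * (h + 2) - 1 := by field_simp
  have l2 : ((k + e) / h + (e - 1) / (h + 2)) * (h * (h + 2)) =
      (k + e) * (h + 2) + (e - 1) * h := by field_simp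
  rw [l1, l2] at h3
  have p1 : 0 ≤ h * ((k - 2) * (e - 1)) :=
    mul_nonneg h0.le (mul_nonneg (by linarith) (by linarith))
  have p2 : 1 ≤ (k - 1) * (e - 1) := by nlinarith
  subst hh
  nlinarith

theorem partition_false (hodd : Odd (Nat.card G)) {ι : Type v} [Fintype ι]
    (hι : 2 ≤ Fintype.card ι) (H : ι → Subgroup G)
    (hcop : ∀ i j, i ≠ j → Nat.Coprime (Nat.card (H i)) (Nat.card (H j)))
    (hTI : ∀ i, IsTISubset (H i : Set G))
    (hcover : ∀ g : G, g ≠ 1 → ∃ i, ∃ x : G, x * g * x⁻¹ ∈ H i)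
    (P : ∀ i, Piece (H i)) : False := by
  classical
  choose c hc using fun i j => classInner_gc_int (P i).β_gc
    (isGC_signed ((P j).signed _ (P j).mem))
  have hpar : ∀ i j, i ≠ j → c i j ≠ 0 ∨ c j i ≠ 0 := by
    intro i j hij
    have hD : ∀ l, IsGeneralizedCharacter G ((P l).β - (fun _ => 1) + (P l).ψ) := fun l =>
      isGC_add (isGC_sub (P l).β_gc (isGC_of_irr isIrrCharacter_one))
        (isGC_signed ((P l).signed _ (P l).mem))
    have hDc : ∀ l, conjFun ((P l).β - (fun _ => 1) + (P l).ψ) =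
        (P l).β - (fun _ => 1) + (P l).ψ := fun l => by
      rw [conjFun_add', conjFun_sub', (P l).β_conj, conjFun_one']; abel
    have hD1 : classInner ((P i).β - (fun _ => 1) + (P i).ψ) (fun _ => 1) = 0 := by
      rw [classInner_add_left, classInner_sub_left, (P i).β_one,
        classInner_irr_self (χ := fun _ : G => (1 : ℂ)) isIrrCharacter_one,
        (P i).inner_one _ (P i).mem]
      ring
    obtain ⟨n, hn⟩ := real_inner_even hodd (hD i) (hD j) (hDc i) (hDc j) hD1
    simp only [classInner_add_left, classInner_sub_left, classInner_add_right,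
      classInner_sub_right] at hn
    rw [inner_offH (hcop i j hij) (P i).β_off (P j).β_off, (P i).β_one, hc i j,
      classInner_symm_of_int (n := 1) (by rw [(P j).β_one, Int.cast_one]),
      classInner_irr_self (χ := fun _ : G => (1 : ℂ)) isIrrCharacter_one,
      classInner_symm_zero ((P j).inner_one _ (P j).mem),
      classInner_symm_of_int (hc j i), (P i).inner_one _ (P i).mem,
      (cross_orth hodd (hcop i j hij) (P i) (P j) (P i).mem (P j).mem).1] at hn
    push_cast at hn
    have hz : c i j + c j i = 2 * n + 1 := by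
      have : ((c i j + c j i : ℤ) : ℂ) = ((2 * n + 1 : ℤ) : ℂ) := by
        push_cast; linear_combination hn
      exact_mod_cast this
    omega
  obtain ⟨i₀, -, hmin⟩ := Finset.exists_min_image (Finset.univ : Finset ι)
    (fun i => Nat.card (H i)) (Finset.card_pos.1 (by rw [Finset.card_univ]; omega))
  let h : ι → ℝ := fun i => (Nat.card (H i) : ℝ)
  let kk : ι → ℝ := fun i => ((P i).k : ℝ)
  let ee : ι → ℝ := fun i => ((P i).e : ℝ)
  let g : ℝ := (Nat.card G : ℝ)
  have hhk : ∀ i, h i = kk i * ee i + 1 := fun i => by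
    show (Nat.card (H i) : ℝ) = _
    rw [(P i).card_eq]; push_cast; rfl
  have hh0 : ∀ i, 0 < h i := fun i => Nat.cast_pos.2 Nat.card_pos
  have hk2 : ∀ i, 2 ≤ kk i := fun i => by
    show (2 : ℝ) ≤ ((P i).k : ℝ)
    exact_mod_cast (P i).two_le_k
  have he2 : ∀ i, 2 ≤ ee i := fun i => by
    show (2 : ℝ) ≤ ((P i).e : ℝ)
    exact_mod_cast (P i).two_le_e
  have hg0 : 0 < g := Nat.cast_pos.2 Nat.card_pos
  have hidx : ∀ i, ((Subgroup.normalizer (H i : Set G)).index : ℝ) = g / (h i * ee i) := by
    intro i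
    rw [eq_div_iff (mul_ne_zero (hh0 i).ne' (by linarith [he2 i]))]
    show _ = (Nat.card G : ℝ)
    rw [← Subgroup.card_mul_index (Subgroup.normalizer (H i : Set G)), (P i).index_eq]
    push_cast
    ring
  have hpart : ∑ i, kk i / h i = 1 - 1 / g := by
    have h1 := sum_cover H hcop hTI hcover (fun _ => 1) fun _ _ => rfl
    simp only [Finset.sum_const, Finset.card_univ, nsmul_eq_mul, mul_one] at h1
    rw [← Nat.card_eq_fintype_card (α := G)] at h1
    have hterm : ∀ i, g / (h i * ee i) * ((hSharp (H i)).card : ℝ) = g * (kk i / h i) := by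
      intro i
      have hcard : ((hSharp (H i)).card : ℝ) = kk i * ee i := by
        haveI := Fintype.ofFinite (Subgroup.normalizer (H i : Set G))
        have e1 := sum_kSharp (H i) (fun _ => (1 : ℝ))
        simp only [Finset.sum_const, nsmul_eq_mul, mul_one] at e1
        rw [← e1, card_kSharp_real,
          Nat.card_congr (Subgroup.subgroupOfEquivOfLe Subgroup.le_normalizer).toEquiv]
        linarith [hhk i, show h i = (Nat.card (H i) : ℝ) from rfl]
      rw [hcard]
      have := (hh0 i).ne'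
      have : ee i ≠ 0 := by linarith [he2 i]
      field_simp
    rw [Finset.sum_congr rfl fun i _ => by rw [hidx i, hterm i], ← Finset.mul_sum] at h1
    have h1' : g = 1 + g * ∑ i, kk i / h i := h1
    field_simp
    linarith
  set J := (Finset.univ : Finset ι).erase i₀ with hJ
  have hne : ∀ j ∈ J, j ≠ i₀ := fun j hj => (Finset.mem_erase.1 hj).1
  -- the values of `ψ` on the other kernels
  have hout : ∑ j ∈ J, kk j / h j * (c j i₀ : ℝ) ^ 2 ≤ ee i₀ / h i₀ := by
    have hψ := (P i₀).signed _ (P i₀).mem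
    have hcl := isGC_isClassFunction (isGC_signed hψ)
    have h1 := sum_cover H hcop hTI hcover (fun y => ‖(P i₀).ψ y‖ ^ 2) fun y z => by
      rw [hcl y z]
    have htot : ∑ y, ‖(P i₀).ψ y‖ ^ 2 = g := by
      have h2 := (classInner_signed hψ hψ).1
      rw [classInner, inv_mul_eq_iff_eq_mul₀ (Nat.cast_ne_zero.2 Nat.card_pos.ne'), mul_one] at h2
      have h3 := congrArg Complex.re h2
      rw [Complex.re_sum, Complex.natCast_re] at h3
      show _ = (Nat.card G : ℝ)
      rw [← h3]
      refine Finset.sum_congr rfl fun y _ => ?_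
      rw [Complex.mul_conj, Complex.ofReal_re, Complex.sq_norm]
    rw [htot, ← Finset.add_sum_erase _ _ (Finset.mem_univ i₀), ← hJ] at h1
    have hown : g * (1 - ee i₀ / h i₀) ≤ ((Subgroup.normalizer (H i₀ : Set G)).index : ℝ) *
        ∑ y ∈ hSharp (H i₀), ‖(P i₀).ψ y‖ ^ 2 := by
      refine le_trans (le_of_eq ?_)
        (mul_le_mul_of_nonneg_left (P i₀).own (Nat.cast_nonneg _))
      rw [hidx]
      have := (hh0 i₀).ne'
      have : ee i₀ ≠ 0 := by linarith [he2 i₀]
      show g * (1 - ee i₀ / h i₀) = g / (h i₀ * ee i₀) * (h i₀ * ee i₀ - ee i₀ ^ 2)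
      field_simp
    have hoth : ∀ j ∈ J, g * (kk j / h j * (c j i₀ : ℝ) ^ 2) ≤
        ((Subgroup.normalizer (H j : Set G)).index : ℝ) *
          ∑ y ∈ hSharp (H j), ‖(P i₀).ψ y‖ ^ 2 := by
      intro j hj
      have h2 := (P j).other (P i₀).ψ (isGC_signed hψ) (fun v hv => by
        rw [classInner_sub_left, classInner_smul_left,
          (cross_orth hodd (hcop j i₀ (hne j hj)) (P j) (P i₀) hv (P i₀).mem).1,
          (cross_orth hodd (hcop j i₀ (hne j hj)) (P j) (P i₀) (P j).mem (P i₀).mem).1]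
        ring) _ (hc j i₀)
      refine le_trans (le_of_eq ?_) (mul_le_mul_of_nonneg_left h2 (Nat.cast_nonneg _))
      rw [hidx, show (Nat.card (H j) : ℝ) = h j from rfl, hhk j, add_sub_cancel_right]
      have := (hh0 j).ne'
      rw [hhk j] at this
      have : ee j ≠ 0 := by linarith [he2 j]
      field_simp
    have h4 := Finset.sum_le_sum hoth
    rw [← Finset.mul_sum] at h4
    have h5 : 0 ≤ ‖(P i₀).ψ 1‖ ^ 2 := sq_nonneg _
    have h6 : g * ∑ j ∈ J, kk j / h j * (c j i₀ : ℝ) ^ 2 ≤ g * (ee i₀ / h i₀) := by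
      rw [mul_sub, mul_one] at hown
      linarith
    exact le_of_mul_le_mul_left h6 hg0
  -- the constituents of `β`
  have hin : ∑ j ∈ J, kk j * (c i₀ j : ℝ) ^ 2 ≤ ee i₀ - 1 := by
    have hψ := (P i₀).signed _ (P i₀).mem
    obtain ⟨q1, -, q3⟩ := conj_ne hodd hψ ((P i₀).inner_one _ (P i₀).mem)
    have hψ1 : classInner (conjFun (P i₀).ψ) (fun _ => 1) = 0 := by
      rw [← conjFun_one', classInner_conjFun, (P i₀).inner_one _ (P i₀).mem, map_zero]
    set A : Finset (G → ℂ) := {fun _ => 1, (P i₀).ψ, conjFun (P i₀).ψ} with hA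
    set B := J.biUnion fun j => (P j).U with hB
    have hn1 : ∀ v : G → ℂ, IsSignedIrr G v → classInner v v = 1 := fun v hv =>
      (classInner_signed hv hv).1
    have hone : IsSignedIrr G (fun _ : G => (1 : ℂ)) := Or.inl isIrrCharacter_one
    have hcψ := signed_conjFun hψ
    have hAB : ∀ v ∈ A, ∀ w ∈ B, classInner v w = 0 := by
      intro v hv w hw
      obtain ⟨j, hj, hwj⟩ := Finset.mem_biUnion.1 hw
      have hco := cross_orth hodd (hcop i₀ j (hne j hj).symm) (P i₀) (P j) (P i₀).mem hwj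
      simp only [hA, Finset.mem_insert, Finset.mem_singleton] at hv
      rcases hv with rfl | rfl | rfl
      · exact classInner_symm_zero ((P j).inner_one w hwj)
      · exact hco.1
      · exact hco.2
    have hsgn : ∀ v ∈ A ∪ B, IsSignedIrr G v := by
      intro v hv
      rcases Finset.mem_union.1 hv with hv | hv
      · simp only [hA, Finset.mem_insert, Finset.mem_singleton] at hv
        rcases hv with rfl | rfl | rfl
        exacts [hone, hψ, hcψ]
      · obtain ⟨j, -, hvj⟩ := Finset.mem_biUnion.1 hv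
        exact (P j).signed v hvj
    have horth : ∀ v ∈ A ∪ B, ∀ w ∈ A ∪ B, v ≠ w → classInner v w = 0 := by
      intro v hv w hw hvw
      rcases Finset.mem_union.1 hv with hv | hv <;> rcases Finset.mem_union.1 hw with hw | hw
      · simp only [hA, Finset.mem_insert, Finset.mem_singleton] at hv hw
        rcases hv with rfl | rfl | rfl <;> rcases hw with rfl | rfl | rfl <;>
          first
            | exact absurd rfl hvw
            | exact (P i₀).inner_one _ (P i₀).mem
            | exact classInner_symm_zero ((P i₀).inner_one _ (P i₀).mem)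
            | exact hψ1
            | exact classInner_symm_zero hψ1
            | exact q3
            | exact classInner_symm_zero q3
      · exact hAB v hv w hw
      · exact classInner_symm_zero (hAB w hw v hv)
      · obtain ⟨j, hj, hvj⟩ := Finset.mem_biUnion.1 hv
        obtain ⟨l, hl, hwl⟩ := Finset.mem_biUnion.1 hw
        by_cases hjl : j = l
        · subst hjl; exact (P j).orth v hvj w hwl hvw
        · exact (cross_orth hodd (hcop j l hjl) (P j) (P l) hvj hwl).1
    have hdisj : Disjoint A B := Finset.disjoint_left.2 fun v hv hv' => by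
      have := hAB v hv v hv'
      rw [hn1 v (hsgn v (Finset.mem_union_left _ hv))] at this
      exact one_ne_zero this
    have hdisjU : (↑J : Set ι).PairwiseDisjoint fun j => (P j).U := by
      intro j _ l _ hjl
      change Disjoint (P j).U (P l).U
      refine Finset.disjoint_left.2 fun v hv hv' => ?_
      have := (cross_orth hodd (hcop j l hjl) (P j) (P l) hv hv').1
      rw [hn1 v ((P j).signed v hv)] at this
      exact one_ne_zero this
    have hb := (bessel (A ∪ B) (fun v => v) (fun _ => (1 : ℝ)) (fun _ _ => one_pos)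
      (fun v hv => by rw [hn1 v (hsgn v hv), Complex.ofReal_one]) horth (P i₀).β).1
    simp only [div_one] at hb
    rw [Finset.sum_union hdisj, hB, Finset.sum_biUnion hdisjU, (P i₀).β_self, Complex.add_re,
      Complex.natCast_re, Complex.one_re] at hb
    have hA2 : (2 : ℝ) ≤ ∑ v ∈ A, ‖classInner (P i₀).β v‖ ^ 2 := by
      have d1 : (fun _ => (1 : ℂ)) ∉ ({(P i₀).ψ, conjFun (P i₀).ψ} : Finset (G → ℂ)) := by
        simp only [Finset.mem_insert, Finset.mem_singleton]
        rintro (e | e)
        · have := (P i₀).inner_one _ (P i₀).mem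
          rw [← e, hn1 _ hone] at this
          exact one_ne_zero this
        · rw [← e, hn1 _ hone] at hψ1
          exact one_ne_zero hψ1
      have e2 : classInner (P i₀).β (conjFun (P i₀).ψ) = ((P i₀).C : ℂ) := by
        rw [← conjFun_conjFun (P i₀).β, classInner_conjFun, (P i₀).β_conj, classInner_sub_left,
          classInner_add_left, (P i₀).β_ψ, hn1 _ hψ, q3]
        simp
      rw [hA, Finset.sum_insert d1, Finset.sum_pair q1.symm, (P i₀).β_one, (P i₀).β_ψ, e2]
      simp only [norm_one, one_pow]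
      rw [show ((P i₀).C : ℂ) - 1 = (((P i₀).C - 1 : ℤ) : ℂ) by push_cast; ring,
        Complex.norm_intCast, Complex.norm_intCast, sq_abs, sq_abs]
      have : (1 : ℤ) ≤ ((P i₀).C - 1) ^ 2 + (P i₀).C ^ 2 := by nlinarith [sq_nonneg (2 * (P i₀).C - 1)]
      have h' : ((1 : ℤ) : ℝ) ≤ ((((P i₀).C - 1) ^ 2 + (P i₀).C ^ 2 : ℤ) : ℝ) := Int.cast_le.2 this
      push_cast at h' ⊢
      linarith
    have hU : ∀ j ∈ J, ∑ v ∈ (P j).U, ‖classInner (P i₀).β v‖ ^ 2 = kk j * (c i₀ j : ℝ) ^ 2 := by
      intro j hj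
      have hk : ∑ v ∈ (P j).U, ((P j).x v : ℝ) ^ 2 = kk j := by
        have := congrArg (fun z : ℤ => (z : ℝ)) (P j).sum_sq
        simpa using this
      rw [← hk, Finset.sum_mul]
      refine Finset.sum_congr rfl fun v hv => ?_
      have h7 := inner_offH (hcop i₀ j (hne j hj).symm) (P i₀).β_off ((P j).off_deg v hv)
      rw [classInner_sub_right, classInner_smul_right, hc i₀ j, map_intCast, sub_eq_zero] at h7
      rw [h7, norm_mul, Complex.norm_intCast, Complex.norm_intCast, mul_pow, sq_abs, sq_abs]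
    rw [Finset.sum_congr rfl hU] at hb
    show _ ≤ ((P i₀).e : ℝ) - 1
    linarith
  -- combine
  have hJne : J.Nonempty := by
    rw [← Finset.card_pos, hJ, Finset.card_erase_of_mem (Finset.mem_univ i₀), Finset.card_univ]
    omega
  have hgap : ∀ j ∈ J, h i₀ + 2 ≤ h j := by
    intro j hj
    have h1 := hmin j (Finset.mem_univ j)
    have h2 : Nat.card (H i₀) ≠ Nat.card (H j) := fun e => by
      have h3 := hcop i₀ j (hne j hj).symm
      rw [← e, Nat.coprime_self] at h3
      have h4 := (P i₀).card_eq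
      have h5 := Nat.mul_le_mul (P i₀).two_le_k (P i₀).two_le_e
      omega
    obtain ⟨a, ha⟩ := hodd.of_dvd_nat (Subgroup.card_subgroup_dvd_card (H i₀))
    obtain ⟨b, hb⟩ := hodd.of_dvd_nat (Subgroup.card_subgroup_dvd_card (H j))
    have : Nat.card (H i₀) + 2 ≤ Nat.card (H j) := by omega
    show (Nat.card (H i₀) : ℝ) + 2 ≤ (Nat.card (H j) : ℝ)
    exact_mod_cast this
  have hkey : ∀ j ∈ J, kk j / h j ≤
      kk j / h j * (c j i₀ : ℝ) ^ 2 + kk j * (c i₀ j : ℝ) ^ 2 / (h i₀ + 2) := by
    intro j hj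
    have hk0 : 0 ≤ kk j := by linarith [hk2 j]
    have hpos : 0 ≤ kk j / h j := div_nonneg hk0 (hh0 j).le
    have hi0 : 0 < h i₀ + 2 := by linarith [hh0 i₀]
    have hle : kk j / h j * (c i₀ j : ℝ) ^ 2 ≤ kk j * (c i₀ j : ℝ) ^ 2 / (h i₀ + 2) := by
      rw [div_mul_eq_mul_div]
      exact div_le_div_of_nonneg_left (mul_nonneg hk0 (sq_nonneg _)) hi0 (hgap j hj)
    have hsq : (1 : ℤ) ≤ c j i₀ ^ 2 + c i₀ j ^ 2 := by
      rcases hpar i₀ j (hne j hj).symm with h' | h'
      · have := mul_self_pos.2 h'; nlinarith [sq_nonneg (c j i₀)]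
      · have := mul_self_pos.2 h'; nlinarith [sq_nonneg (c i₀ j)]
    have hsq' : (1 : ℝ) ≤ (c j i₀ : ℝ) ^ 2 + (c i₀ j : ℝ) ^ 2 := by exact_mod_cast hsq
    have := mul_le_mul_of_nonneg_left hsq' hpos
    rw [mul_one, mul_add] at this
    linarith
  have hsum := Finset.sum_le_sum hkey
  rw [Finset.sum_add_distrib, ← Finset.sum_div] at hsum
  rw [← Finset.add_sum_erase _ _ (Finset.mem_univ i₀), ← hJ] at hpart
  have hin' := div_le_div_of_nonneg_right hin (show (0 : ℝ) ≤ h i₀ + 2 by linarith [hh0 i₀])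
  refine arith_false (hk2 i₀) (he2 i₀) (hhk i₀) (g := g) ?_ ?_
  · obtain ⟨j, hj⟩ := hJne
    have hd : Nat.card (H i₀) * Nat.card (H j) ≤ Nat.card G :=
      Nat.le_of_dvd Nat.card_pos ((hcop i₀ j (hne j hj).symm).mul_dvd_of_dvd_of_dvd
        (Subgroup.card_subgroup_dvd_card _) (Subgroup.card_subgroup_dvd_card _))
    refine le_trans (mul_le_mul_of_nonneg_left (hgap j hj) (hh0 i₀).le) ?_
    show (Nat.card (H i₀) : ℝ) * (Nat.card (H j) : ℝ) ≤ (Nat.card G : ℝ)
    exact_mod_cast hd
  · rw [add_div]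
    linarith

end Cfsg.Agent.OddPartition
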