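/-
The boundary case of the degree criterion (the pattern of Peterfalvi (9.11)).

* `adjoin_all`    : if every member of `S` passes the criterion, `S` is coherent
* `pair_or_flip`  : `2 k` irreducibles of degree `d` and one of degree `k d`
* `exists_pair_of_witness` : a virtual character of small norm rules out the flip
-/
import Cfsg.Agent.Lib.Coherence.Criteria

set_option autoImplicit false
set_option linter.style.haveILetI false

namespace Cfsg.Agent.Coherence

open Cfsg Cfsg.Agent.Char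
open scoped ComplexConjugate

universe u v
variable {L : Type u} [Group L] [Fintype L] {G : Type v} [Group G] [Fintype G]
  {S : Set (L → ℂ)} {τ : (L → ℂ) → (G → ℂ)} {R : (L → ℂ) → Finset (G → ℂ)}

/-- If every member of `S` passes the degree criterion for the coherent `W`, then `S` is coherent. -/
theorem adjoin_all (hS : IsCoherenceSystem S τ R) (W : Finset (L → ℂ)) (hW : ↑W ⊆ S)
    (hWc : ∀ φ ∈ W, conjFun φ ∈ W) (hcoh : IsCoherent (↑W : Set (L → ℂ)) {1}ᶜ τ)
    {χ₁ : L → ℂ} (hχ₁ : χ₁ ∈ W) (hdvd : ∀ χ ∈ S, ∃ a : ℤ, χ 1 = a * χ₁ 1)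
    (hsmall : ∀ χ ∈ S, (2 * (χ 1).re * (χ₁ 1).re : ℝ) <
      ∑ φ ∈ W, ((φ 1).re ^ 2 / (classInner φ φ).re)) :
    IsCoherent S {1}ᶜ τ := by
  classical
  have hfin := sys_finite hS
  suffices h : ∀ s : Finset (L → ℂ), ↑s ⊆ S → ∃ U : Finset (L → ℂ), W ⊆ U ∧ s ⊆ U ∧
      ↑U ⊆ S ∧ (∀ φ ∈ U, conjFun φ ∈ U) ∧ IsCoherent (↑U : Set (L → ℂ)) {1}ᶜ τ by
    obtain ⟨U, -, hsU, hUS, -, hU⟩ := h hfin.toFinset (by simp)
    rwa [show S = (↑U : Set (L → ℂ)) from subset_antisymm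
      (fun φ hφ => hsU (hfin.mem_toFinset.2 hφ)) hUS]
  intro s
  induction s using Finset.induction_on with
  | empty => exact fun _ => ⟨W, subset_rfl, Finset.empty_subset _, hW, hWc, hcoh⟩
  | insert χ s _ ih =>
    intro hs
    rw [Finset.coe_insert, Set.insert_subset_iff] at hs
    obtain ⟨U, hWU, hsU, hUS, hUc, hU⟩ := ih hs.2
    by_cases hχU : χ ∈ U
    · exact ⟨U, hWU, Finset.insert_subset hχU hsU, hUS, hUc, hU⟩
    obtain ⟨a, ha⟩ := hdvd χ hs.1
    have hlt : (2 * (χ 1).re * (χ₁ 1).re : ℝ) <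
        ∑ φ ∈ U, ((φ 1).re ^ 2 / (classInner φ φ).re) :=
      lt_of_lt_of_le (hsmall χ hs.1) (Finset.sum_le_sum_of_subset_of_nonneg hWU
        fun φ _ _ => div_nonneg (sq_nonneg _) (classInner_self_re_nonneg φ))
    have hext := extend_pair hS U hUS hUc hU hs.1 hχU (hWU hχ₁) ha hlt
    refine ⟨U ∪ {χ, conjFun χ}, hWU.trans Finset.subset_union_left, ?_, ?_, ?_, ?_⟩
    · exact Finset.insert_subset (Finset.mem_union_right _ (Finset.mem_insert_self _ _))
        (hsU.trans Finset.subset_union_left)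
    · intro φ hφ
      simp only [Finset.coe_union, Finset.coe_insert, Finset.coe_singleton, Set.mem_union,
        Set.mem_insert_iff, Set.mem_singleton_iff] at hφ
      rcases hφ with h | rfl | rfl
      exacts [hUS h, hs.1, hS.conj_mem χ hs.1]
    · intro φ hφ
      simp only [Finset.mem_union, Finset.mem_insert, Finset.mem_singleton] at hφ ⊢
      rcases hφ with h | rfl | rfl
      · exact Or.inl (hUc φ h)
      · exact Or.inr (Or.inr rfl)
      · exact Or.inr (Or.inl (conjFun_conjFun χ))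
    · simpa using hext

section flip

variable (hS : IsCoherenceSystem S τ R) (S₁ : Finset (L → ℂ)) (hS₁ : ↑S₁ ⊆ S)
  (hS₁c : ∀ φ ∈ S₁, conjFun φ ∈ S₁)
  {τ₁ : (L → ℂ) → (G → ℂ)} (hτ₁ : IsLinearIsometryOn (zspan (↑S₁ : Set (L → ℂ))) τ₁)
  (hag : ∀ α ∈ zspanOn (↑S₁ : Set (L → ℂ)) {1}ᶜ, τ₁ α = τ α)
  (hn : ∀ φ ∈ S₁, classInner φ φ = 1) {d : ℤ} (hd0 : d ≠ 0) (hd : ∀ φ ∈ S₁, φ 1 = d)
  {k : ℕ} (hk : 2 ≤ k) (hcard : S₁.card = 2 * k) {ψ : L → ℂ} (hψ : ψ ∈ S₁)
include hS hS₁ hS₁c hτ₁ hag hn hd0 hd hk hcard hψ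

omit hS₁c hag hd0 hd hk hcard hψ in
theorem inner_images [DecidableEq (L → ℂ)] :
    ∀ φ ∈ S₁, ∀ φ' ∈ S₁, classInner (τ₁ φ) (τ₁ φ') = if φ = φ' then 1 else 0 := by
  intro φ hφ φ' hφ'
  rw [hτ₁.2.2.1 _ (subset_zspan hφ) _ (subset_zspan hφ')]
  split_ifs with e
  · subst e; exact hn φ hφ
  · exact hS.orthogonal φ (hS₁ hφ) φ' (hS₁ hφ') e

/-- Either the pair of `χ` extends the coherent `S₁`, or `τ (χ - k ψ)` is the flipped combination. -/
theorem pair_or_flip [DecidableEq (L → ℂ)] {χ : L → ℂ} (hχ : χ ∈ S) (hχn : classInner χ χ = 1)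
    (hχd : χ 1 = (k : ℤ) * d) (hχS : χ ∉ S₁) :
    IsCoherent (↑S₁ ∪ {χ, conjFun χ} : Set (L → ℂ)) {1}ᶜ τ ∨
      ∃ X : G → ℂ, IsGeneralizedCharacter G X ∧ classInner X X = 1 ∧
        (∀ φ ∈ S₁, classInner X (τ₁ φ) = 0) ∧
        τ (χ - (k : ℤ) • ψ) = X - (k : ℤ) • τ₁ ψ + ∑ φ ∈ S₁, τ₁ φ := by
  classical
  have hχc := hS.conj_mem χ hχ
  have hχS' : conjFun χ ∉ S₁ := fun h => hχS (conjFun_conjFun χ ▸ hS₁c _ h)
  have hm : χ - (k : ℤ) • ψ ∈ zspanOn S {1}ᶜ := mem_zspanOn_one.2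
    ⟨zspan_sub (subset_zspan hχ) (zspan_zsmul _ (subset_zspan (hS₁ hψ))),
      by simp [hχd, hd ψ hψ]⟩
  set β := τ (χ - (k : ℤ) • ψ) with hβ
  have hβgc := hS.isometry.2.2.2 _ hm
  have hχo : ∀ φ ∈ S₁, classInner χ φ = 0 := fun φ hφ =>
    hS.orthogonal χ hχ φ (hS₁ hφ) fun e => hχS (e ▸ hφ)
  have himg := inner_images hS S₁ hS₁ hτ₁ hn
  have hgc : ∀ φ ∈ S₁, IsGeneralizedCharacter G (τ₁ φ) := fun φ hφ =>
    hτ₁.2.2.2 _ (subset_zspan hφ)
  obtain ⟨c, hc⟩ := classInner_gc_int hβgc (hgc ψ hψ)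
  set b : ℤ := c + k with hb
  have hbψ : classInner β (τ₁ ψ) = ((b - k : ℤ) : ℂ) := by rw [hb]; push_cast; rw [hc]; ring
  have hbφ : ∀ φ ∈ S₁, φ ≠ ψ → classInner β (τ₁ φ) = (b : ℂ) := by
    intro φ hφ hne
    have h := inner_rel hS₁ hS.isometry hτ₁ hag hχ hψ hφ (dχ := (k : ℤ) * d) (dψ := d) (dφ := d)
      (a := (k : ℤ)) (by rw [hχd]; push_cast; rfl) (hd ψ hψ) (hd φ hφ) rfl (hχo ψ hψ) (hχo φ hφ)
    rw [hS.orthogonal ψ (hS₁ hψ) φ (hS₁ hφ) (Ne.symm hne), hn ψ hψ, ← hβ, hbψ] at h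
    have hd' : (d : ℂ) ≠ 0 := Int.cast_ne_zero.2 hd0
    refine mul_left_cancel₀ hd' ?_
    push_cast at h
    linear_combination h
  set σ := ∑ φ ∈ S₁, τ₁ φ with hσ
  set X := β + (k : ℤ) • τ₁ ψ - b • σ with hX
  have hσφ : ∀ φ ∈ S₁, classInner σ (τ₁ φ) = 1 := by
    intro φ hφ
    rw [hσ, classInner_sum_left, Finset.sum_congr rfl fun x hx => himg x hx φ hφ,
      Finset.sum_ite_eq', if_pos hφ]
  have hXgc : IsGeneralizedCharacter G X :=
    isGC_sub (isGC_add hβgc (isGC_zsmul (hgc ψ hψ) _)) (isGC_zsmul (isGC_sum _ hgc) _)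
  have hXφ : ∀ φ ∈ S₁, classInner X (τ₁ φ) = 0 := by
    intro φ hφ
    rw [hX, classInner_sub_left, classInner_add_left, classInner_zsmul_left,
      classInner_zsmul_left, hσφ φ hφ, himg ψ hψ φ hφ]
    by_cases e : ψ = φ
    · subst e; rw [hbψ, if_pos rfl]; push_cast; ring
    · rw [hbφ φ hφ (Ne.symm e), if_neg e]; ring
  have hββ : classInner β β = (k : ℂ) ^ 2 + 1 := by
    rw [hβ, hS.isometry.2.2.1 _ hm _ hm]
    simp only [classInner_sub_left, classInner_sub_right, classInner_zsmul_left,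
      classInner_zsmul_right, hχn, hn ψ hψ, hχo ψ hψ, classInner_symm_zero (hχo ψ hψ),
      Int.cast_natCast]
    ring
  have hσσ : classInner σ σ = (2 * k : ℂ) := by
    conv_lhs => arg 2; rw [hσ]
    rw [classInner_sum_right, Finset.sum_congr rfl fun x hx => hσφ x hx, Finset.sum_const, hcard,
      nsmul_eq_mul, mul_one]
    push_cast
    ring
  have hXX : classInner X X = ((1 - 2 * (k : ℤ) * (b * (b - 1)) : ℤ) : ℂ) := by
    have e : β = X - (k : ℤ) • τ₁ ψ + b • σ := by rw [hX]; abel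
    have h1 := hββ
    rw [e] at h1
    have hXσ : classInner X σ = 0 := by
      rw [hσ, classInner_sum_right]
      exact Finset.sum_eq_zero fun φ hφ => hXφ φ hφ
    simp only [classInner_add_left, classInner_add_right, classInner_sub_left, classInner_sub_right,
      classInner_zsmul_left, classInner_zsmul_right, hXφ ψ hψ, classInner_symm_zero (hXφ ψ hψ),
      hXσ, classInner_symm_zero hXσ, himg ψ hψ ψ hψ, if_true, hσσ, hσφ ψ hψ,
      classInner_symm_of_int (n := 1) (by rw [hσφ ψ hψ, Int.cast_one] :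
        classInner σ (τ₁ ψ) = ((1 : ℤ) : ℂ))] at h1
    push_cast at h1 ⊢
    linear_combination h1
  have hb01 : b = 0 ∨ b = 1 := by
    have h0 := classInner_self_re_nonneg X
    rw [hXX, Complex.intCast_re] at h0
    have h1 : 0 ≤ 1 - 2 * (k : ℤ) * (b * (b - 1)) := by exact_mod_cast h0
    have hb0 : 0 ≤ b * (b - 1) := by
      rcases le_or_gt b 0 with hb | hb
      · exact mul_nonneg_of_nonpos_of_nonpos hb (by omega)
      · exact mul_nonneg hb.le (by omega)
    have h3 : b * (b - 1) = 0 := by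
      have hk' : (2 : ℤ) ≤ k := by exact_mod_cast hk
      nlinarith
    rcases mul_eq_zero.1 h3 with h4 | h4
    · exact Or.inl h4
    · exact Or.inr (by omega)
  have hXX1 : classInner X X = 1 := by
    rw [hXX]; rcases hb01 with h | h <;> simp [h]
  rcases hb01 with hb0 | hb1
  swap
  · refine Or.inr ⟨X, hXgc, hXX1, hXφ, ?_⟩
    rw [hX, hb1, one_smul]; abel
  left
  have hβX : β = X - (k : ℤ) • τ₁ ψ := by rw [hX, hb0, zero_smul]; abel
  have hsub1 : χ - conjFun χ ∈ zspanOn S {1}ᶜ := sys_sub_conj_mem hS hχ hχ hχc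
  set D := τ (χ - conjFun χ) with hD
  have hDgc := hS.isometry.2.2.2 _ hsub1
  have hcψ : classInner (conjFun χ) ψ = 0 :=
    hS.orthogonal _ hχc ψ (hS₁ hψ) fun e => hχS' (e ▸ hψ)
  have hDφ : ∀ φ ∈ S₁, classInner D (τ₁ φ) = 0 := by
    intro φ hφ
    obtain ⟨s, hs, hsum⟩ := subset_sum hS hτ₁ hag (hS₁ hφ) hφ (hS₁c φ hφ)
    rw [hsum, hD, hS.sum_eq χ hχ, classInner_sum_left]
    refine Finset.sum_eq_zero fun x hx => ?_
    rw [classInner_sum_right]
    refine Finset.sum_eq_zero fun y hy => classInner_symm_zero (hS.disjoint χ hχ φ (hS₁ hφ) ?_ ?_ y (hs hy) x hx)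
    · exact classInner_symm_zero (hχo φ hφ)
    · exact classInner_symm_zero (hS.orthogonal _ hχc φ (hS₁ hφ) fun e => hχS' (e ▸ hφ))
  have hDD : classInner D D = 2 := by
    rw [hD, hS.isometry.2.2.1 _ hsub1 _ hsub1, classInner_sub_left, classInner_sub_right,
      classInner_sub_right, classInner_conjFun, hχn, map_one,
      hS.orthogonal χ hχ _ hχc (hS.conj_ne χ hχ).symm, hS.orthogonal _ hχc χ hχ (hS.conj_ne χ hχ)]
    norm_num
  have hXD : classInner X D = 1 := by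
    have e : X = β + (k : ℤ) • τ₁ ψ := by rw [hβX]; abel
    rw [e, classInner_add_left, classInner_zsmul_left, classInner_symm_zero (hDφ ψ hψ), mul_zero,
      add_zero, hβ, hD, hS.isometry.2.2.1 _ hm _ hsub1, classInner_sub_left, classInner_sub_right,
      classInner_sub_right, classInner_zsmul_left, classInner_zsmul_left, hχn,
      classInner_symm_zero (hχo ψ hψ), classInner_symm_zero hcψ,
      hS.orthogonal χ hχ _ hχc (hS.conj_ne χ hχ).symm]
    ring
  have hDX : classInner D X = 1 := by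
    rw [← classInner_conj_symm, hXD, map_one]
  have hne := hS.conj_ne χ hχ
  have key := coherent_glue (T := S) S₁ {χ, conjFun χ} ?_ ?_ ?_ ?_ hS.isometry hτ₁ hag hψ
    (fun x => if x = χ then X else X - D) ?_ ?_ ?_ ?_ ?_
  · simpa using key
  · intro x hx
    simp only [Finset.coe_union, Finset.coe_insert, Finset.coe_singleton, Set.mem_union,
      Set.mem_insert_iff, Set.mem_singleton_iff] at hx
    rcases hx with h | rfl | rfl
    exacts [hS₁ h, hχ, hχc]
  · rw [Finset.disjoint_right]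
    intro x hx
    simp only [Finset.mem_insert, Finset.mem_singleton] at hx
    rcases hx with rfl | rfl
    exacts [hχS, hχS']
  · intro x hx
    simp only [Finset.mem_union, Finset.mem_insert, Finset.mem_singleton] at hx
    rcases hx with h | rfl | rfl
    exacts [sys_ne_zero hS (hS₁ h), sys_ne_zero hS hχ, sys_ne_zero hS hχc]
  · intro x hx y hy
    simp only [Finset.mem_union, Finset.mem_insert, Finset.mem_singleton] at hx hy
    refine hS.orthogonal x ?_ y ?_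
    · rcases hx with h | rfl | rfl; exacts [hS₁ h, hχ, hχc]
    · rcases hy with h | rfl | rfl; exacts [hS₁ h, hχ, hχc]
  · intro x _
    split_ifs
    exacts [hXgc, isGC_sub hXgc hDgc]
  · intro x _ φ hφ
    split_ifs
    · exact hXφ φ hφ
    · rw [classInner_sub_left, hXφ φ hφ, hDφ φ hφ, sub_zero]
  · intro x hx y hy
    simp only [Finset.mem_insert, Finset.mem_singleton] at hx hy
    rcases hx with rfl | rfl <;> rcases hy with rfl | rfl
    · rw [if_pos rfl, hXX1, hχn]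
    · rw [if_pos rfl, if_neg hne, classInner_sub_right, hXX1, hXD, sub_self,
        hS.orthogonal _ hχ _ hχc hne.symm]
    · rw [if_neg hne, if_pos rfl, classInner_sub_left, hXX1, hDX, sub_self,
        hS.orthogonal _ hχc _ hχ hne]
    · have e2 : ∀ a a' : G → ℂ, classInner (a - a') (a - a') =
          classInner a a - classInner a a' - classInner a' a + classInner a' a' := fun a a' => by
        rw [classInner_sub_left, classInner_sub_right, classInner_sub_right]; ring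
      rw [if_neg hne, e2, hXX1, hXD, hDX, hDD, classInner_conjFun, hχn, map_one]
      norm_num
  · intro x hx
    simp only [Finset.mem_insert, Finset.mem_singleton] at hx
    obtain ⟨e, -, he, hec⟩ := sys_degree' hS hχ
    refine ⟨(k : ℤ), ?_, ?_⟩
    · rcases hx with rfl | rfl
      · rw [hχd, hd ψ hψ]
      · rw [hec, ← he, hχd, hd ψ hψ]
    · rcases hx with rfl | rfl
      · rw [if_pos rfl]; exact hβX
      · rw [if_neg hne]
        have : conjFun χ - (k : ℤ) • ψ = (χ - (k : ℤ) • ψ) + -(χ - conjFun χ) := by abel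
        rw [this, hS.isometry.1 _ hm _ (zspanOn_neg hsub1), lin_neg hS.isometry hsub1, ← hβ, ← hD,
          hβX]
        abel
  · exact ⟨_, sys_sub_conj_mem hS hχ (by simp) (by simp), sys_sub_conj_ne hS hχ⟩

/-- A virtual character of norm at most the number of candidates excludes the flip for one of
them. -/
theorem exists_pair_of_witness [DecidableEq (L → ℂ)] (C : Finset (L → ℂ)) (hC : ↑C ⊆ S)
    (hCn : ∀ χ ∈ C, classInner χ χ = 1) (hCd : ∀ χ ∈ C, χ 1 = (k : ℤ) * d)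
    (hCS : ∀ χ ∈ C, χ ∉ S₁) {Δ : G → ℂ} (hΔ : IsGeneralizedCharacter G Δ)
    (hΔψ : ∀ φ ∈ S₁, φ ≠ ψ → classInner Δ (τ (φ - ψ)) = 1)
    (hΔχ : ∀ χ ∈ C, classInner Δ (τ (χ - (k : ℤ) • ψ)) = (k : ℂ))
    (hnorm : (classInner Δ Δ).re < (C.card : ℝ) + 1) :
    ∃ χ ∈ C, IsCoherent (↑S₁ ∪ {χ, conjFun χ} : Set (L → ℂ)) {1}ᶜ τ := by
  classical
  by_contra hno
  push Not at hno
  have hflip := fun χ (hχ : χ ∈ C) =>
    (pair_or_flip hS S₁ hS₁ hS₁c hτ₁ hag hn hd0 hd hk hcard hψ (hC hχ) (hCn χ hχ) (hCd χ hχ)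
      (hCS χ hχ)).resolve_left (hno χ hχ)
  choose! X hXgc hXX hXφ hXeq using hflip
  have himg := inner_images hS S₁ hS₁ hτ₁ hn
  have hgc : ∀ φ ∈ S₁, IsGeneralizedCharacter G (τ₁ φ) := fun φ hφ =>
    hτ₁.2.2.2 _ (subset_zspan hφ)
  obtain ⟨c, hc⟩ := classInner_gc_int hΔ (hgc ψ hψ)
  have hcφ : ∀ φ ∈ S₁, φ ≠ ψ → classInner Δ (τ₁ φ) = ((c + 1 : ℤ) : ℂ) := by
    intro φ hφ hne
    have hm : φ - ψ ∈ zspanOn (↑S₁ : Set (L → ℂ)) {1}ᶜ := mem_zspanOn_one.2
      ⟨zspan_sub (subset_zspan hφ) (subset_zspan hψ), by simp [hd φ hφ, hd ψ hψ]⟩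
    have h := hΔψ φ hφ hne
    rw [← hag _ hm, show φ - ψ = φ + -ψ by abel, hτ₁.1 _ (subset_zspan hφ) _
      (zspan_neg (subset_zspan hψ)), lin_neg hτ₁ (subset_zspan hψ), classInner_add_right,
      classInner_neg_right, hc] at h
    push_cast
    linear_combination h
  set σ := ∑ φ ∈ S₁, τ₁ φ with hσ
  have hΔσ : classInner Δ σ = ((c + (2 * (k : ℤ) - 1) * (c + 1) : ℤ) : ℂ) := by
    rw [hσ, classInner_sum_right, ← Finset.add_sum_erase _ _ hψ, hc,
      Finset.sum_congr rfl fun φ hφ => hcφ φ (Finset.mem_of_mem_erase hφ) (Finset.ne_of_mem_erase hφ),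
      Finset.sum_const, Finset.card_erase_of_mem hψ, hcard, nsmul_eq_mul, Nat.cast_sub (by omega)]
    push_cast
    ring
  have hΔX : ∀ χ ∈ C, classInner Δ (X χ) = ((1 - (k : ℤ) * (c + 1) : ℤ) : ℂ) := by
    intro χ hχ
    have h := hΔχ χ hχ
    rw [hXeq χ hχ, classInner_add_right, classInner_sub_right, classInner_zsmul_right, hc, hΔσ] at h
    push_cast at h ⊢
    linear_combination h
  have hXo : ∀ χ ∈ C, ∀ χ' ∈ C, χ ≠ χ' → classInner (X χ) (X χ') = 0 := by
    intro χ hχ χ' hχ' hne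
    have hm : ∀ x ∈ C, x - (k : ℤ) • ψ ∈ zspanOn S {1}ᶜ := fun x hx => mem_zspanOn_one.2
      ⟨zspan_sub (subset_zspan (hC hx)) (zspan_zsmul _ (subset_zspan (hS₁ hψ))),
        by simp [hCd x hx, hd ψ hψ]⟩
    have h := hS.isometry.2.2.1 _ (hm χ hχ) _ (hm χ' hχ')
    rw [hXeq χ hχ, hXeq χ' hχ'] at h
    have h0 : ∀ x ∈ C, classInner x ψ = 0 := fun x hx =>
      hS.orthogonal x (hC hx) ψ (hS₁ hψ) fun e => hCS x hx (e ▸ hψ)
    have hXσ : ∀ x ∈ C, classInner (X x) σ = 0 := fun x hx => by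
      rw [hσ, classInner_sum_right]
      exact Finset.sum_eq_zero fun φ hφ => hXφ x hx φ hφ
    have hσσ : classInner σ σ = (2 * k : ℂ) := by
      rw [hσ, classInner_sum_left, Finset.sum_congr rfl fun φ hφ => (classInner_sum_right S₁ _ _).trans
        ((Finset.sum_congr rfl fun x hx => himg φ hφ x hx).trans (Finset.sum_ite_eq S₁ φ _)),
        Finset.sum_congr rfl fun φ hφ => if_pos hφ, Finset.sum_const, hcard, nsmul_eq_mul, mul_one]
      push_cast
      ring
    have hψσ : classInner (τ₁ ψ) σ = 1 := by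
      rw [hσ, classInner_sum_right, Finset.sum_congr rfl fun x hx => himg ψ hψ x hx,
        Finset.sum_ite_eq, if_pos hψ]
    have hσψ : classInner σ (τ₁ ψ) = 1 := by rw [← classInner_conj_symm, hψσ, map_one]
    simp only [classInner_add_left, classInner_add_right, classInner_sub_left, classInner_sub_right,
      classInner_zsmul_left, classInner_zsmul_right, hXφ χ hχ ψ hψ, hXσ χ hχ,
      classInner_symm_zero (hXφ χ' hχ' ψ hψ), classInner_symm_zero (hXσ χ' hχ'), hσσ, hψσ, hσψ,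
      himg ψ hψ ψ hψ, if_true, hS.orthogonal χ (hC hχ) χ' (hC hχ') hne, h0 χ hχ,
      classInner_symm_zero (h0 χ' hχ'), hn ψ hψ] at h
    push_cast at h
    linear_combination h
  -- Bessel
  let v : (L → ℂ) ⊕ (L → ℂ) → G → ℂ := Sum.elim τ₁ X
  have hb := (bessel (S₁.disjSum C) v (fun _ => 1) (fun _ _ => one_pos) (fun i hi => by
      rcases i with x | x <;> simp only [Finset.inl_mem_disjSum, Finset.inr_mem_disjSum] at hi
      · simp [v, himg x hi x hi]
      · simp [v, hXX x hi]) (fun i hi j hj hne => by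
      rcases i with x | x <;> rcases j with y | y <;>
        simp only [Finset.inl_mem_disjSum, Finset.inr_mem_disjSum] at hi hj
      · simp [v, himg x hi y hj, show x ≠ y from fun e => hne (by rw [e])]
      · exact classInner_symm_zero (hXφ y hj x hi)
      · exact hXφ x hi y hj
      · exact hXo x hi y hj fun e => hne (by rw [e])) Δ).1
  have hA : ∑ x ∈ S₁, ‖classInner Δ (v (Sum.inl x))‖ ^ 2 / 1 =
      (c : ℝ) ^ 2 + (2 * (k : ℝ) - 1) * ((c : ℝ) + 1) ^ 2 := by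
    rw [← Finset.add_sum_erase _ _ hψ, Finset.sum_congr rfl (g := fun _ => ((c : ℝ) + 1) ^ 2)
      (fun φ hφ => by
        show ‖classInner Δ (τ₁ φ)‖ ^ 2 / 1 = _
        rw [hcφ φ (Finset.mem_of_mem_erase hφ) (Finset.ne_of_mem_erase hφ), Complex.norm_intCast,
          sq_abs, div_one]
        push_cast
        ring), Finset.sum_const, Finset.card_erase_of_mem hψ, hcard]
    show ‖classInner Δ (τ₁ ψ)‖ ^ 2 / 1 + _ = _
    rw [hc, Complex.norm_intCast, sq_abs, div_one, nsmul_eq_mul, Nat.cast_sub (by omega)]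
    push_cast
    ring
  have hB : ∑ x ∈ C, ‖classInner Δ (v (Sum.inr x))‖ ^ 2 / 1 =
      (C.card : ℝ) * (1 - (k : ℝ) * ((c : ℝ) + 1)) ^ 2 := by
    rw [Finset.sum_congr rfl (g := fun _ => (1 - (k : ℝ) * ((c : ℝ) + 1)) ^ 2) (fun χ hχ => by
      show ‖classInner Δ (X χ)‖ ^ 2 / 1 = _
      rw [hΔX χ hχ, Complex.norm_intCast, sq_abs, div_one]
      push_cast
      ring), Finset.sum_const, nsmul_eq_mul]
  rw [Finset.sum_disjSum, hA, hB] at hb
  have hk' : (2 : ℝ) ≤ k := by exact_mod_cast hk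
  have hint : (1 : ℝ) ≤ (1 - (k : ℝ) * ((c : ℝ) + 1)) ^ 2 := by
    have h1 : 1 - (k : ℤ) * (c + 1) ≠ 0 := fun h => by
      have h2 : (k : ℤ) ∣ 1 := ⟨c + 1, by linarith⟩
      have := Int.le_of_dvd one_pos h2
      omega
    have h2 : (1 : ℤ) ≤ (1 - (k : ℤ) * (c + 1)) ^ 2 := by
      have := mul_self_pos.2 h1
      rw [sq]; omega
    exact_mod_cast h2
  have hS1 : (1 : ℝ) ≤ (c : ℝ) ^ 2 + (2 * (k : ℝ) - 1) * ((c : ℝ) + 1) ^ 2 := by
    rcases eq_or_ne c 0 with rfl | hc0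
    · norm_num; linarith
    · have : (1 : ℤ) ≤ c ^ 2 := by have := mul_self_pos.2 hc0; rw [sq]; omega
      have h3 : (1 : ℝ) ≤ (c : ℝ) ^ 2 := by exact_mod_cast this
      nlinarith [sq_nonneg ((c : ℝ) + 1)]
  have hm : (C.card : ℝ) ≤ (C.card : ℝ) * (1 - (k : ℝ) * ((c : ℝ) + 1)) ^ 2 :=
    le_mul_of_one_le_right (Nat.cast_nonneg _) hint
  linarith

end flip

end Cfsg.Agent.Coherence
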