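/-
A congruence for characters at a TI Sylow subgroup.

* `sum_free_orbits` : a sum of algebraic integers over free orbits is divisible by the group order
* `ti_congruence`   : `ψ 1 ≡ ψ z` modulo `|P|`
-/
import Cfsg.Agent.Lib.ClassCount.CharSum
import Cfsg.Agent.Lib.Char.Eigen
import Cfsg.Agent.Lib.Char.PRegular

set_option autoImplicit false
set_option linter.style.haveILetI false

namespace Cfsg.Agent.Coherence

open Cfsg Cfsg.Agent

universe u
variable {G : Type u} [Group G] [Finite G]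

open Classical in
theorem sum_free_orbits (P : Subgroup G) (f : G → ℂ) (hf : ∀ x, IsIntegral ℤ (f x))
    (s : Finset G) (hs : ∀ u ∈ P, ∀ x ∈ s, u * x * u⁻¹ ∈ s ∧ f (u * x * u⁻¹) = f x)
    (hfree : ∀ u ∈ P, ∀ x ∈ s, u * x * u⁻¹ = x → u = 1) :
    ∃ c : ℂ, IsIntegral ℤ c ∧ ∑ x ∈ s, f x = (Nat.card P : ℂ) * c := by
  induction s using Finset.strongInduction with
  | H s ih =>
    rcases s.eq_empty_or_nonempty with rfl | ⟨a, ha⟩
    · exact ⟨0, isIntegral_zero, by simp⟩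
    haveI := Fintype.ofFinite P
    set O : Finset G := Finset.univ.image (fun u : P => (u : G) * a * (u : G)⁻¹) with hO
    have hOs : O ⊆ s := fun x hx => by
      obtain ⟨u, -, rfl⟩ := Finset.mem_image.1 hx
      exact (hs u u.2 a ha).1
    have haO : a ∈ O := Finset.mem_image.2 ⟨1, Finset.mem_univ _, by simp⟩
    have hinj : Set.InjOn (fun u : P => (u : G) * a * (u : G)⁻¹) (Finset.univ : Finset P) := by
      intro u _ v _ h
      refine Subtype.ext ?_
      have h' : (u : G) * a * (u : G)⁻¹ = (v : G) * a * (v : G)⁻¹ := h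
      have := hfree _ (mul_mem (inv_mem v.2) u.2) a ha (by
        calc (v : G)⁻¹ * u * a * ((v : G)⁻¹ * u)⁻¹
            = (v : G)⁻¹ * ((u : G) * a * (u : G)⁻¹) * v := by group
          _ = (v : G)⁻¹ * ((v : G) * a * (v : G)⁻¹) * v := by rw [h']
          _ = a := by group)
      exact (inv_mul_eq_one.1 this).symm
    have hsum : ∑ x ∈ O, f x = (Nat.card P : ℂ) * f a := by
      rw [hO, Finset.sum_image hinj, Finset.sum_congr rfl (fun (u : P) _ => (hs u u.2 a ha).2),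
        Finset.sum_const, nsmul_eq_mul, Finset.card_univ, Nat.card_eq_fintype_card]
    obtain ⟨c, hc, hcs⟩ := ih (s \ O) (Finset.sdiff_ssubset hOs ⟨a, haO⟩)
      (fun u hu x hx => by
        obtain ⟨hx1, hx2⟩ := Finset.mem_sdiff.1 hx
        refine ⟨Finset.mem_sdiff.2 ⟨(hs u hu x hx1).1, fun hO' => hx2 ?_⟩, (hs u hu x hx1).2⟩
        obtain ⟨v, -, hv⟩ := Finset.mem_image.1 hO'
        refine Finset.mem_image.2 ⟨(⟨u, hu⟩ : P)⁻¹ * v, Finset.mem_univ _, ?_⟩
        rw [Subgroup.coe_mul, Subgroup.coe_inv]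
        calc u⁻¹ * (v : G) * a * (u⁻¹ * (v : G))⁻¹
            = u⁻¹ * ((v : G) * a * (v : G)⁻¹) * u := by group
          _ = x := by rw [hv]; group)
      (fun u hu x hx => hfree u hu x (Finset.mem_sdiff.1 hx).1)
    exact ⟨c + f a, hc.add (hf a), by rw [← Finset.sum_sdiff hOs, hcs, hsum]; ring⟩

open Classical in
theorem ti_congruence (p : ℕ) [Fact p.Prime] (P : Sylow p G)
    (hTI : Cfsg.IsTISubset ((P : Subgroup G) : Set G))
    (hodd : Odd (Nat.card (Subgroup.normalizer ((P : Subgroup G) : Set G))))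
    (Z : Subgroup G) (hZP : Z ≤ P)
    (hZn : ∀ x ∈ Subgroup.normalizer ((P : Subgroup G) : Set G), ∀ z ∈ Z, x * z * x⁻¹ ∈ Z)
    (hZc : ∀ z ∈ Z, ∀ y ∈ (P : Subgroup G), z * y = y * z)
    {ψ : G → ℂ} (hψ : IsIrrCharacter G ψ)
    (hconst : ∀ z ∈ Z, ∀ z' ∈ Z, z ≠ 1 → z' ≠ 1 → ψ z = ψ z')
    {z : G} (hz : z ∈ Z) (hz1 : z ≠ 1) :
    ∃ n d : ℤ, ψ z = n ∧ ψ 1 = d ∧ (Nat.card (P : Subgroup G) : ℤ) ∣ d - n := by
  haveI := Fintype.ofFinite G
  haveI := Fintype.ofFinite Z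
  set L := Subgroup.normalizer ((P : Subgroup G) : Set G)
  have hchar := Char.IsIrrCharacter.isCharacter hψ
  obtain ⟨dn, hdn0, hd⟩ := Char.IsIrrCharacter.exists_degree hψ
  have hint := fun x => Char.IsCharacter.isIntegral hchar x
  -- the value is a rational integer
  obtain ⟨m, hm⟩ : ∃ m : ℕ, Nat.card Z = m + 1 := ⟨Nat.card Z - 1, by
    have : 0 < Nat.card Z := Nat.card_pos
    omega⟩
  have hm0 : m ≠ 0 := by
    intro h
    rw [h, zero_add] at hm
    exact hz1 (Subgroup.eq_bot_of_card_eq Z hm ▸ hz : z ∈ (⊥ : Subgroup G))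
  obtain ⟨k, hk⟩ := Char.IsCharacter.classInner_nat (Char.IsCharacter.restrict hchar Z)
    (Char.IsIrrCharacter.isCharacter Char.isIrrCharacter_one)
  have hsum : (m : ℂ) * ψ z + (dn : ℂ) = ((m + 1) * k : ℕ) := by
    have h1 : ∑ v : Z, ψ v = (Nat.card Z : ℂ) * k := by
      rw [← hk, Char.card_mul_classInner]
      simp
    rw [← Finset.add_sum_erase _ _ (Finset.mem_univ (1 : Z)), OneMemClass.coe_one, hd,
      Finset.sum_congr rfl (g := fun _ => ψ z) (fun (v : Z) hv => hconst v v.2 z hz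
        (fun e => (Finset.mem_erase.1 hv).1 (Subtype.ext e)) hz1), Finset.sum_const,
      Finset.card_erase_of_mem (Finset.mem_univ _), Finset.card_univ, ← Nat.card_eq_fintype_card,
      nsmul_eq_mul, hm, Nat.add_sub_cancel] at h1
    push_cast at h1 ⊢
    linear_combination h1
  obtain ⟨n, hn⟩ := Char.exists_int_of_isIntegral_mul (n := m) (z := ψ z)
    (k := ((m + 1) * k : ℕ) - (dn : ℤ)) hm0
    (by push_cast; push_cast at hsum; linear_combination hsum) (hint z)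
  refine ⟨n, dn, hn, by rw [hd]; push_cast; rfl, ?_⟩
  -- centralisers
  have hCL : ∀ w ∈ Z, w ≠ 1 → Subgroup.centralizer ({w} : Set G) ≤ L := by
    intro w hw hw1 g hg
    by_contra hgL
    refine hw1 (hTI g hgL w (hZP hw) ?_)
    rw [Subgroup.mem_centralizer_singleton_iff.1 hg, mul_inv_cancel_right]
    exact hZP hw
  have hmemP : ∀ x ∈ L, ∀ i : ℕ, orderOf x = p ^ i → x ∈ (P : Subgroup G) := by
    intro x hx i hi
    have hxp : IsPGroup p (Subgroup.zpowers x) := IsPGroup.of_card (n := i) (by rw [Nat.card_zpowers, hi])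
    have hmem : x ∈ Subgroup.zpowers x ⊓ L := ⟨Subgroup.mem_zpowers x, hx⟩
    rw [show Subgroup.zpowers x ⊓ L = Subgroup.zpowers x ⊓ (P : Subgroup G) from
      IsPGroup.inf_normalizer_sylow hxp P] at hmem
    exact hmem.2
  have hfree : ∀ w ∈ Z, w ≠ 1 → ∀ g : G, ∀ u ∈ (P : Subgroup G), u ≠ 1 →
      u * (g * w * g⁻¹) * u⁻¹ = g * w * g⁻¹ → g * w * g⁻¹ ∈ Z := by
    intro w hw hw1 g u hu hu1 he
    have hxL : g * w * g⁻¹ ∈ L := by
      by_contra hxL
      refine hu1 (hTI _ hxL u hu ?_)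
      rw [show g * w * g⁻¹ * u = u * (g * w * g⁻¹) from (mul_inv_eq_iff_eq_mul.1 he).symm,
        mul_inv_cancel_right]
      exact hu
    obtain ⟨i, hi⟩ : ∃ i, orderOf (g * w * g⁻¹) = p ^ i := by
      obtain ⟨i, hi⟩ := IsPGroup.iff_orderOf.1 P.2 ⟨w, hZP hw⟩
      refine ⟨i, ?_⟩
      rw [← hi, ← Subgroup.orderOf_coe]
      exact (MulEquiv.orderOf_eq (MulAut.conj g) w)
    have hxP := hmemP _ hxL i hi
    have hgL : g ∈ L := by
      by_contra hgL
      exact hw1 (hTI g hgL w (hZP hw) hxP)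
    exact hZn g hgL w hw
  -- `z` is not conjugate to its inverse
  have hnot : ¬ IsConj z z⁻¹ := by
    intro h
    obtain ⟨g, hg⟩ := isConj_iff.1 h
    have hgL : g ∈ L := by
      by_contra hgL
      exact hz1 (hTI g hgL z (hZP hz) (hg ▸ hZP (inv_mem hz)))
    have ho : Odd (orderOf g) := hodd.of_dvd_nat (Subgroup.orderOf_dvd_natCard L hgL)
    have h2 : g * g * z * (g * g)⁻¹ = z := by
      calc g * g * z * (g * g)⁻¹ = g * (g * z * g⁻¹) * g⁻¹ := by group
        _ = (g * z * g⁻¹)⁻¹ := by conv_lhs => rw [hg]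
                                  group
        _ = z := by rw [hg, inv_inv]
    have hc2 : Commute (g ^ 2) z := by
      rw [sq]; exact mul_inv_eq_iff_eq_mul.1 h2
    obtain ⟨c, hc⟩ := ho
    have hgc : g = (g ^ 2) ^ (c + 1) := by
      rw [← pow_mul, show 2 * (c + 1) = orderOf g + 1 by omega, pow_succ, pow_orderOf_eq_one, one_mul]
    have hcg : Commute g z := by rw [hgc]; exact hc2.pow_left _
    rw [hcg.eq, mul_inv_cancel_right] at hg
    have h3 : z ^ 2 = 1 := by rw [sq]; exact mul_eq_one_iff_eq_inv.2 hg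
    have hoz : Odd (orderOf z) :=
      hodd.of_dvd_nat (Subgroup.orderOf_dvd_natCard L (Subgroup.le_normalizer (hZP hz)))
    have := Nat.eq_one_of_dvd_coprimes (Nat.coprime_two_right.2 hoz) dvd_rfl
      (orderOf_dvd_of_pow_eq_one h3)
    exact hz1 (orderOf_eq_one_iff.1 this)
  -- the two class sums
  have key : ∀ w ∈ Z, w ≠ 1 → ∃ c : ℂ, IsIntegral ℤ c ∧
      ClassCount.omega ψ w * ψ z = (Nat.card (P : Subgroup G) : ℂ) * c +
        ∑ x ∈ Finset.univ.filter (fun x => IsConj w x ∧ x ∈ Z), ψ (x * z) := by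
    intro w hw hw1
    rw [← ClassCount.sum_class_apply_mul hψ w z]
    obtain ⟨c, hc, hcs⟩ := sum_free_orbits (P : Subgroup G) (fun x => ψ (x * z)) (fun x => hint _)
      (Finset.univ.filter (fun x => IsConj w x ∧ x ∉ Z)) (fun u hu x hx => by
        obtain ⟨hx1, hx2⟩ := (Finset.mem_filter.1 hx).2
        have huz := hZc z hz u hu
        refine ⟨Finset.mem_filter.2 ⟨Finset.mem_univ _, hx1.trans (isConj_iff.2 ⟨u, rfl⟩), fun h => hx2 ?_⟩, ?_⟩
        · have := hZn u⁻¹ (inv_mem (Subgroup.le_normalizer hu)) _ h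
          simpa [mul_assoc] using this
        · show ψ (u * x * u⁻¹ * z) = ψ (x * z)
          rw [← Char.IsIrrCharacter.isClassFunction hψ (x * z) u]
          congr 1
          calc u * x * u⁻¹ * z = u * x * (u⁻¹ * z) := by group
            _ = u * x * (z * u⁻¹) := by rw [hZc z hz u⁻¹ (inv_mem hu)]
            _ = _ := by group) (fun u hu x hx he => by
        obtain ⟨hx1, hx2⟩ := (Finset.mem_filter.1 hx).2
        by_contra hu1
        obtain ⟨g, rfl⟩ := isConj_iff.1 hx1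
        exact hx2 (hfree w hw hw1 g u hu hu1 he))
    refine ⟨c, hc, ?_⟩
    rw [← hcs, ← Finset.sum_filter_add_sum_filter_not (Finset.univ.filter (fun g => IsConj w g))
      (· ∈ Z), Finset.filter_filter, Finset.filter_filter, add_comm]
  obtain ⟨c1, hc1, hk1⟩ := key z⁻¹ (inv_mem hz) (inv_ne_one.2 hz1)
  obtain ⟨c2, hc2, hk2⟩ := key z hz hz1
  have homega : ClassCount.omega ψ z⁻¹ = ClassCount.omega ψ z := by
    rw [ClassCount.omega, ClassCount.omega, hconst z⁻¹ (inv_mem hz) z hz (inv_ne_one.2 hz1) hz1]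
    congr 3
    refine Nat.card_congr (Equiv.subtypeEquiv (Equiv.inv G) fun x => ?_)
    simp only [Equiv.inv_apply, isConj_iff]
    exact ⟨fun ⟨c, hc⟩ => ⟨c, by rw [← hc]; group⟩, fun ⟨c, hc⟩ => ⟨c, by
      rw [← inv_inv x, ← hc]; group⟩⟩
  set A₁ := Finset.univ.filter (fun x => IsConj z⁻¹ x ∧ x ∈ Z) with hA₁
  set A₂ := Finset.univ.filter (fun x => IsConj z x ∧ x ∈ Z) with hA₂
  have hcard : A₁.card = A₂.card := by
    refine Finset.card_equiv (Equiv.inv G) fun x => ?_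
    simp only [hA₁, hA₂, Finset.mem_filter, Finset.mem_univ, true_and, Equiv.inv_apply, inv_mem_iff,
      isConj_iff]
    exact ⟨fun ⟨⟨c, hc⟩, h⟩ => ⟨⟨c, by rw [← hc]; group⟩, h⟩, fun ⟨⟨c, hc⟩, h⟩ => ⟨⟨c, by
      rw [← inv_inv x, ← hc]; group⟩, h⟩⟩
  have hz1A : z⁻¹ ∈ A₁ := Finset.mem_filter.2 ⟨Finset.mem_univ _, IsConj.refl _, inv_mem hz⟩
  have hS1 : ∑ x ∈ A₁, ψ (x * z) = (dn : ℂ) + ((A₁.card : ℂ) - 1) * ψ z := by
    rw [← Finset.add_sum_erase _ _ hz1A, inv_mul_cancel, hd,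
      Finset.sum_congr rfl (g := fun _ => ψ z) fun x hx => ?_, Finset.sum_const, nsmul_eq_mul,
      Finset.card_erase_of_mem hz1A, Nat.cast_sub (Finset.card_pos.2 ⟨_, hz1A⟩), Nat.cast_one]
    obtain ⟨hne, hxA⟩ := Finset.mem_erase.1 hx
    exact hconst _ (mul_mem (Finset.mem_filter.1 hxA).2.2 hz) z hz
      (fun e => hne (mul_eq_one_iff_eq_inv.1 e)) hz1
  have hS2 : ∑ x ∈ A₂, ψ (x * z) = (A₂.card : ℂ) * ψ z := by
    rw [Finset.sum_congr rfl (g := fun _ => ψ z) fun x hx => ?_, Finset.sum_const, nsmul_eq_mul]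
    obtain ⟨hxz, hxZ⟩ := (Finset.mem_filter.1 hx).2
    exact hconst _ (mul_mem hxZ hz) z hz
      (fun e => hnot (mul_eq_one_iff_eq_inv.1 e ▸ hxz)) hz1
  rw [hS1] at hk1
  rw [hS2] at hk2
  rw [homega, hk2, hcard] at hk1
  have hfinal : (Nat.card (P : Subgroup G) : ℂ) * (c2 - c1) = (((dn : ℤ) - n : ℤ) : ℂ) := by
    push_cast
    rw [← hn]
    linear_combination hk1
  obtain ⟨j, hj⟩ := Char.exists_int_of_isIntegral_mul (Nat.card_pos.ne') hfinal (hc2.sub hc1)
  refine ⟨j, ?_⟩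
  rw [hj] at hfinal
  exact_mod_cast hfinal.symm

end Cfsg.Agent.Coherence
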